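import Cfsg.Agent.Lib.Invol.Strong
import Mathlib.GroupTheory.SpecificGroups.Alternating
import Mathlib.GroupTheory.Perm.Centralizer
import Mathlib.GroupTheory.NoncommCoprod
import Mathlib.GroupTheory.SpecificGroups.Cyclic
import Mathlib.GroupTheory.Sylow
import Mathlib.Data.ZMod.Basic

/-!
# A group with a central element of order seven and a copy of `A₇` containing an involution centraliser

If `v` of order seven is central in `M` and a copy of `A₇` in `M` contains, with `v`, the centraliser of one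
of its involutions, then `M ≅ Z₇ × A₇`: otherwise `⟨v⟩ × A₇` would be strongly embedded, and `A₇` has no
subgroup of odd order transitive on its 105 involutions.
-/

set_option autoImplicit false

namespace CfsgLib.StructB.CoA9

open Subgroup Equiv

/-- The cycle type of an involution of `A₇`. -/
theorem seven_invol_cycleType {a : alternatingGroup (Fin 7)} (ha : orderOf a = 2) :
    (a : Perm (Fin 7)).cycleType = {2, 2} := by
  have ha' : orderOf (a : Perm (Fin 7)) = 2 := by rw [orderOf_coe]; exact ha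
  obtain ⟨k, hk⟩ := Perm.cycleType_prime_order (σ := (a : Perm (Fin 7))) (by rw [ha']; exact Nat.prime_two)
  rw [ha'] at hk
  have hle := Perm.sum_cycleType_le (a : Perm (Fin 7))
  rw [hk, Multiset.sum_replicate, Fintype.card_fin, smul_eq_mul] at hle
  have hs : Perm.sign (a : Perm (Fin 7)) = 1 := Perm.mem_alternatingGroup.1 a.2
  rw [Perm.sign_of_cycleType, hk, Multiset.sum_replicate, Multiset.card_replicate, smul_eq_mul] at hs
  have hk3 : k < 3 := by omega
  interval_cases k
  · exact absurd hs (by decide)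
  · rw [hk]; rfl
  · exact absurd hs (by decide)

theorem seven_invol_conj {a b : alternatingGroup (Fin 7)} (ha : orderOf a = 2) (hb : orderOf b = 2) :
    IsConj a b := by
  refine alternatingGroup.isConj_of (Perm.isConj_iff_cycleType_eq.2 ?_) ?_
  · rw [seven_invol_cycleType ha, seven_invol_cycleType hb]
  · rw [← Perm.sum_cycleType, seven_invol_cycleType ha, Fintype.card_fin]; decide

theorem card_seven_invol : Nat.card {a : alternatingGroup (Fin 7) // orderOf a = 2} = 105 := by
  classical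
  have e : {a : alternatingGroup (Fin 7) // orderOf a = 2} ≃
      {g : Perm (Fin 7) // g.cycleType = ({2, 2} : Multiset ℕ)} :=
    { toFun := fun a => ⟨a.1, seven_invol_cycleType a.2⟩
      invFun := fun g => ⟨⟨g.1, Perm.mem_alternatingGroup.2 (by
          rw [Perm.sign_of_cycleType, g.2]; decide)⟩, by
          rw [← orderOf_coe]
          show orderOf g.1 = 2
          rw [← Perm.lcm_cycleType, g.2]; rfl⟩
      left_inv := fun a => rfl
      right_inv := fun g => rfl }
  rw [Nat.card_congr e, Nat.card_eq_fintype_card, Fintype.card_subtype, Perm.card_of_cycleType,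
    Fintype.card_fin]
  rfl

theorem seven_no_fifteen (g : Perm (Fin 7)) : orderOf g ≠ 15 := by
  intro h
  have hle := Perm.sum_cycleType_le g
  rw [Fintype.card_fin] at hle
  have h2 : ∀ n ∈ g.cycleType, 2 ≤ n := fun n hn => Perm.two_le_of_mem_cycleType hn
  have key : ∀ p : ℕ, p.Prime → p ∣ 15 → ∃ n ∈ g.cycleType, p ∣ n := by
    intro p hp hpd
    rw [← h, ← Perm.lcm_cycleType] at hpd
    by_contra hc
    push Not at hc
    have : ∀ s : Multiset ℕ, (∀ n ∈ s, ¬ p ∣ n) → ¬ p ∣ s.lcm := by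
      intro s
      induction s using Multiset.induction_on with
      | empty => intro _; rw [Multiset.lcm_zero, Nat.dvd_one]; exact hp.ne_one
      | cons n s ih =>
        intro hs hd
        rw [Multiset.lcm_cons] at hd
        rcases (hp.dvd_mul).1 (hd.trans (Nat.lcm_dvd_mul n s.lcm)) with e | e
        · exact hs n (Multiset.mem_cons_self _ _) e
        · exact ih (fun m hm => hs m (Multiset.mem_cons_of_mem hm)) e
    exact this _ hc hpd
  obtain ⟨m, hm, hm3⟩ := key 3 Nat.prime_three (by norm_num)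
  obtain ⟨n, hn, hn5⟩ := key 5 (by norm_num) (by norm_num)
  have hdm := Perm.dvd_of_mem_cycleType hm
  rw [h] at hdm
  have hmn : m ≠ n := by
    rintro rfl
    have := Nat.le_of_dvd (by have := h2 m hm; omega) (Nat.Coprime.mul_dvd_of_dvd_of_dvd
      (by norm_num : Nat.Coprime 3 5) hm3 hn5)
    have := Multiset.le_sum_of_mem hm
    omega
  obtain ⟨s, hs⟩ := Multiset.exists_cons_of_mem hm
  have hns : n ∈ s := by
    rw [hs] at hn
    exact (Multiset.mem_cons.1 hn).resolve_left (Ne.symm hmn)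
  have h1 := Multiset.le_sum_of_mem hns
  rw [hs, Multiset.sum_cons] at hle
  have h3 := Nat.le_of_dvd (by have := h2 m hm; omega) hm3
  have h5 := Nat.le_of_dvd (by have := h2 n hn; omega) hn5
  omega

/-- A subgroup of `A₇` of odd order has order not divisible by 105. -/
theorem seven_no_odd_transitive (D : Subgroup (alternatingGroup (Fin 7))) (hD : Odd (Nat.card ↥D)) :
    ¬ 105 ∣ Nat.card ↥D := by
  classical
  intro h105
  haveI : Fact (Nat.Prime 5) := ⟨by norm_num⟩
  haveI : Fact (Nat.Prime 7) := ⟨by norm_num⟩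
  haveI : Fact (Nat.Prime 3) := ⟨Nat.prime_three⟩
  have hdvd : Nat.card ↥D ∣ 2520 := by
    have h := D.card_subgroup_dvd_card
    have h2 : Nat.card (alternatingGroup (Fin 7)) = 2520 := by
      rw [nat_card_alternatingGroup, Nat.card_fin]; rfl
    rwa [h2] at h
  have hD' : Nat.card ↥D = 105 ∨ Nat.card ↥D = 315 := by
    have h315 : Nat.card ↥D ∣ 315 :=
      (Nat.Coprime.dvd_of_dvd_mul_left ((Nat.coprime_two_right.2 hD).pow_right 3)
        (show Nat.card ↥D ∣ 2 ^ 3 * 315 from hdvd))
    obtain ⟨k, hk⟩ := h105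
    rw [hk] at h315 hD ⊢
    have hk3 : k ≤ 3 := by have := Nat.le_of_dvd (by norm_num) h315; omega
    have hk0 : k ≠ 0 := by rintro rfl; simp at hD
    interval_cases k <;> first
      | exact absurd hD (by decide)
      | omega
  -- the stabiliser of a point
  let S : Subgroup ↥D := MulAction.stabilizer ↥D (0 : Fin 7)
  have hmul := S.card_mul_index
  have horb : Nat.card ↥(MulAction.orbit ↥D (0 : Fin 7)) = S.index :=
    (Nat.card_congr (MulAction.orbitEquivQuotientStabilizer ↥D (0 : Fin 7))).trans rfl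
  have horb7 : S.index ≤ 7 := by
    rw [← horb]
    exact (Nat.card_le_card_of_injective (fun y : ↥(MulAction.orbit ↥D (0 : Fin 7)) => (y : Fin 7))
      (fun a b e => Subtype.ext e)).trans (le_of_eq (Nat.card_fin 7))
  have hS7 : ¬ 7 ∣ Nat.card ↥S := by
    intro h7
    let f : ↥S →* ↥(MulAction.stabilizer (Perm (Fin 7)) (0 : Fin 7)) :=
      { toFun := fun s => ⟨((s : ↥D) : alternatingGroup (Fin 7)).1, s.2⟩
        map_one' := rfl
        map_mul' := fun _ _ => rfl }
    have hf : Function.Injective f := fun a b e => by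
      have := congrArg Subtype.val e
      exact Subtype.ext (Subtype.ext (Subtype.ext this))
    have h720 : Nat.card ↥(MulAction.stabilizer (Perm (Fin 7)) (0 : Fin 7)) = 720 := by
      have h := (MulAction.stabilizer (Perm (Fin 7)) (0 : Fin 7)).card_mul_index
      rw [MulAction.index_stabilizer_of_transitive, Nat.card_fin, Nat.card_perm, Nat.card_fin] at h
      rw [show Nat.factorial 7 = 5040 by rfl] at h
      omega
    have := h7.trans (card_dvd_of_injective f hf)
    rw [h720] at this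
    norm_num at this
  have hS : Nat.card ↥S = 15 ∨ Nat.card ↥S = 45 := by
    have h7 : 7 ∣ S.index := by
      have : 7 ∣ Nat.card ↥S * S.index := by rw [hmul]; rcases hD' with e | e <;> rw [e] <;> norm_num
      exact ((Nat.Prime.dvd_mul (by norm_num)).1 this).resolve_left hS7
    have h0 : S.index ≠ 0 := Subgroup.index_ne_zero_of_finite
    have : S.index = 7 := le_antisymm horb7 (Nat.le_of_dvd (Nat.pos_of_ne_zero h0) h7)
    rw [this] at hmul
    rcases hD' with e | e <;> rw [e] at hmul <;> omega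
  -- its Sylow 5-subgroup is normal
  obtain ⟨P⟩ : Nonempty (Sylow 5 ↥S) := inferInstance
  have hP5 : Nat.card ↥(P : Subgroup ↥S) = 5 := by
    rw [P.card_eq_multiplicity]
    rcases hS with e | e <;> rw [e]
    · rw [show (15 : ℕ) = 5 * 3 by norm_num, Nat.factorization_mul (by norm_num) (by norm_num),
        Finsupp.add_apply, Nat.Prime.factorization_self (by norm_num),
        Nat.factorization_eq_zero_of_not_dvd (by norm_num)]
      norm_num
    · rw [show (45 : ℕ) = 5 * 9 by norm_num, Nat.factorization_mul (by norm_num) (by norm_num),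
        Finsupp.add_apply, Nat.Prime.factorization_self (by norm_num),
        Nat.factorization_eq_zero_of_not_dvd (by norm_num)]
      norm_num
  have hn1 : Nat.card (Sylow 5 ↥S) = 1 := by
    have h1 := P.card_dvd_index
    have h2 := (P : Subgroup ↥S).card_mul_index
    have h3 := card_sylow_modEq_one 5 ↥S
    unfold Nat.ModEq at h3
    rw [hP5] at h2
    have h9 : (P : Subgroup ↥S).index = 3 ∨ (P : Subgroup ↥S).index = 9 := by
      rcases hS with e | e <;> rw [e] at h2 <;> omega
    have hle : Nat.card (Sylow 5 ↥S) ≤ 9 := by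
      have := Nat.le_of_dvd (by rcases h9 with e | e <;> omega) h1
      omega
    rcases h9 with e | e <;> rw [e] at h1 <;> interval_cases (Nat.card (Sylow 5 ↥S)) <;> omega
  haveI : Subsingleton (Sylow 5 ↥S) := Finite.card_le_one_iff_subsingleton.1 hn1.le
  haveI : (P : Subgroup ↥S).Normal := P.normal_of_subsingleton
  obtain ⟨c, hc⟩ := exists_prime_orderOf_dvd_card' (G := ↥S) 3 (by
    rcases hS with e | e <;> rw [e] <;> norm_num)
  haveI : IsCyclic ↥(P : Subgroup ↥S) := isCyclic_of_prime_card hP5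
  let ψ : MulAut ↥(P : Subgroup ↥S) := MulAut.conjNormal c
  have hψ : ψ = 1 := by
    have h4 : orderOf ψ ∣ 4 := by
      have h := orderOf_dvd_natCard ψ
      rwa [IsCyclic.card_mulAut, hP5, Nat.totient_prime (by norm_num : Nat.Prime 5)] at h
    have h3 : orderOf ψ ∣ 3 := hc ▸ orderOf_map_dvd _ c
    exact orderOf_eq_one_iff.1 (Nat.eq_one_of_dvd_coprimes (by norm_num) h4 h3)
  obtain ⟨p, hp⟩ := exists_prime_orderOf_dvd_card' (G := ↥(P : Subgroup ↥S)) 5 (by rw [hP5])
  have hcp : Commute c (p : ↥S) := by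
    have h : ((ψ p : ↥(P : Subgroup ↥S)) : ↥S) = p := by rw [hψ]; rfl
    exact mul_inv_eq_iff_eq_mul.1 h
  have h15 : orderOf (c * (p : ↥S)) = 15 := by
    rw [hcp.orderOf_mul_eq_mul_orderOf_of_coprime (by rw [orderOf_coe, hc, hp]; norm_num), orderOf_coe,
      hc, hp]
  rw [← orderOf_coe, ← orderOf_coe, ← orderOf_coe] at h15
  exact seven_no_fifteen _ h15

theorem equiv_of_cent_involution {M : Type*} [Group M] [Finite M] {v : M} (hv : orderOf v = 7)
    (hcen : ∀ g : M, g * v = v * g) (ι : alternatingGroup (Fin 7) →* M) (hι : Function.Injective ι)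
    (t : alternatingGroup (Fin 7)) (ht : orderOf t = 2)
    (hC : ∀ g : M, g * ι t = ι t * g → g ∈ Subgroup.zpowers v ⊔ ι.range) :
    Nonempty (M ≃* Multiplicative (ZMod 7) × alternatingGroup (Fin 7)) := by
  classical
  have hvc : ∀ a ∈ zpowers v, ∀ g : M, g * a = a * g := by
    intro a ha g
    obtain ⟨i, rfl⟩ := mem_zpowers_iff.1 ha
    exact ((show Commute g v from hcen g).zpow_right i).eq
  let ψ : ↥(zpowers v) × alternatingGroup (Fin 7) →* M :=
    MonoidHom.noncommCoprod (zpowers v).subtype ι fun a b => (hvc a a.2 (ι b)).symm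
  have hψ : ∀ a b, ψ (a, b) = (a : M) * ι b := fun a b => MonoidHom.noncommCoprod_apply _ _ _ _
  have hinj : Function.Injective ψ := by
    rw [injective_iff_map_eq_one]
    rintro ⟨a, b⟩ e
    rw [hψ] at e
    have hb : b ∈ center (alternatingGroup (Fin 7)) := mem_center_iff.2 fun c => hι (by
      have hbM : ι b ∈ zpowers v := by rw [eq_inv_of_mul_eq_one_right e]; exact inv_mem a.2
      rw [map_mul, map_mul, hvc _ hbM])
    rw [alternatingGroup.center_eq_bot (by rw [Nat.card_fin]; norm_num), mem_bot] at hb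
    subst hb
    rw [map_one, mul_one] at e
    exact Prod.ext (Subtype.ext e) rfl
  have hrange : ψ.range = zpowers v ⊔ ι.range := by
    refine le_antisymm ?_ (sup_le (fun a ha => ⟨(⟨a, ha⟩, 1), by rw [hψ, map_one, mul_one]⟩) ?_)
    · rintro _ ⟨⟨a, b⟩, rfl⟩
      rw [hψ]
      exact mul_mem (mem_sup_left a.2) (mem_sup_right ⟨b, rfl⟩)
    · rintro _ ⟨b, rfl⟩
      exact ⟨(1, b), by rw [hψ, OneMemClass.coe_one, one_mul]⟩
  rw [← hrange] at hC
  suffices htop : ψ.range = ⊤ by
    haveI : IsCyclic ↥(zpowers v) := (zpowers v).isCyclic_iff_exists_zpowers_eq_top.2 ⟨v, rfl⟩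
    let e7 : ↥(zpowers v) ≃* Multiplicative (ZMod 7) := mulEquivOfCyclicCardEq (by
      rw [Nat.card_zpowers, hv, Nat.card_congr Multiplicative.toAdd, Nat.card_zmod])
    exact ⟨((MulEquiv.ofBijective ψ ⟨hinj, MonoidHom.range_eq_top.1 htop⟩).symm).trans
      (e7.prodCongr (MulEquiv.refl _))⟩
  by_contra htop
  have hvodd : ∀ a : ↥(zpowers v), a * a = 1 → a = 1 := fun a ha => by
    have h1 : orderOf a ∣ 7 := hv ▸ Nat.card_zpowers v ▸ orderOf_dvd_natCard a
    have h2 : orderOf a ∣ 2 := orderOf_dvd_of_pow_eq_one (by rw [pow_two]; exact ha)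
    exact orderOf_eq_one_iff.1 (Nat.eq_one_of_dvd_coprimes (by norm_num) h1 h2)
  have hinv : ∀ i : M, orderOf i = 2 → i ∈ ψ.range → ∃ b, orderOf b = 2 ∧ i = ι b := by
    rintro _ hi ⟨⟨a, b⟩, rfl⟩
    rw [orderOf_injective ψ hinj] at hi
    have h2 := pow_orderOf_eq_one ((a, b) : ↥(zpowers v) × alternatingGroup (Fin 7))
    rw [hi, pow_two] at h2
    have ha := hvodd a (congrArg Prod.fst h2)
    subst ha
    refine ⟨b, ?_, by rw [hψ, OneMemClass.coe_one, one_mul]⟩
    rw [← orderOf_injective ι hι]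
    have e : ι b = ψ (1, b) := by rw [hψ, OneMemClass.coe_one, one_mul]
    rw [e, orderOf_injective ψ hinj]
    exact hi
  have hιt : ι t ∈ ψ.range := ⟨(1, t), by rw [hψ, OneMemClass.coe_one, one_mul]⟩
  have htH : orderOf (ι t) = 2 := by rw [orderOf_injective ι hι]; exact ht
  have hconj : ∀ i, orderOf i = 2 → i ∈ ψ.range → ∃ a ∈ ψ.range, a * i * a⁻¹ = ι t := by
    intro i hi hiH
    obtain ⟨b, hb, rfl⟩ := hinv i hi hiH
    obtain ⟨c, hc⟩ := isConj_iff.1 (seven_invol_conj hb ht)
    exact ⟨ι c, ⟨(1, c), by rw [hψ, OneMemClass.coe_one, one_mul]⟩, by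
      rw [← map_inv, ← map_mul, ← map_mul, hc]⟩
  have hSE : Cfsg.IsStronglyEmbedded ψ.range := by
    refine ⟨htop, ?_, fun g hg => ?_⟩
    · rw [even_iff_two_dvd]
      exact htH ▸ ψ.range.orderOf_dvd_natCard hιt
    · by_contra hodd
      rw [Nat.not_odd_iff_even, even_iff_two_dvd] at hodd
      haveI : Fact (Nat.Prime 2) := ⟨Nat.prime_two⟩
      obtain ⟨i, hi⟩ := exists_prime_orderOf_dvd_card' 2 hodd
      rw [← orderOf_coe] at hi
      obtain ⟨hiH, h, hh, hhi⟩ := i.2
      change g * h * g⁻¹ = (i : M) at hhi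
      have hh2 : orderOf h = 2 := by rw [← hi, ← hhi, Invol.orderOf_conj_eq]
      obtain ⟨a, ha, hat⟩ := hconj _ hi hiH
      obtain ⟨b, hb, hbt⟩ := hconj _ hh2 hh
      have hk : a * g * b⁻¹ ∈ ψ.range := hC _ (mul_inv_eq_iff_eq_mul.1 (by
        rw [show a * g * b⁻¹ * ι t * (a * g * b⁻¹)⁻¹ = a * (g * (b⁻¹ * ι t * b) * g⁻¹) * a⁻¹ by group,
          show b⁻¹ * ι t * b = h by rw [← hbt]; group, hhi, hat]))
      exact hg (by
        have := mul_mem (mul_mem (inv_mem ha) hk) hb
        rwa [show a⁻¹ * (a * g * b⁻¹) * b = g by group] at this)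
  obtain ⟨u, huH, hu⟩ := Invol.se_exists_invol_notMem hSE
  set D := ψ.range ⊓ ψ.range.map (MulAut.conj u).toMonoidHom with hD
  have hne : ((1 : M) : M ⧸ ψ.range) ≠ (u : M ⧸ ψ.range) := by
    rw [Ne, QuotientGroup.eq, inv_one, one_mul]; exact huH
  have htrans : ∀ a b : alternatingGroup (Fin 7), orderOf a = 2 → orderOf b = 2 →
      ∃ d ∈ D, d * ι a * d⁻¹ = ι b := by
    intro a b ha hb
    have hfix : ∀ r : M, r ∈ ψ.range → r • ((1 : M) : M ⧸ ψ.range) = ((1 : M) : M ⧸ ψ.range) :=
      fun r hr => (Invol.fix_coset_iff r 1).2 (by simpa using hr)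
    obtain ⟨d, hd1, hd2, hd⟩ := Invol.se_stab_transitive hSE hne
      (show orderOf (ι a) = 2 by rw [orderOf_injective ι hι]; exact ha)
      (show orderOf (ι b) = 2 by rw [orderOf_injective ι hι]; exact hb)
      (hfix _ ⟨(1, a), by rw [hψ, OneMemClass.coe_one, one_mul]⟩)
      (hfix _ ⟨(1, b), by rw [hψ, OneMemClass.coe_one, one_mul]⟩)
    exact ⟨d, Invol.mem_inter_conj_iff.2 ⟨hd1, hd2⟩, hd⟩
  let π : ↥ψ.range →* alternatingGroup (Fin 7) :=
    (MonoidHom.snd _ _).comp (MonoidHom.ofInjective hinj).symm.toMonoidHom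
  have hπ : ∀ a b, π ⟨ψ (a, b), ⟨(a, b), rfl⟩⟩ = b := fun a b => by
    show ((MonoidHom.ofInjective hinj).symm _).2 = b
    rw [show (⟨ψ (a, b), ⟨(a, b), rfl⟩⟩ : ↥ψ.range) = MonoidHom.ofInjective hinj (a, b) from rfl,
      MulEquiv.symm_apply_apply]
  set D' := (D.subgroupOf ψ.range).map π with hD'
  have hodd : Odd (Nat.card ↥D') := by
    refine Odd.of_dvd_nat ?_ (card_map_dvd _ π)
    rw [Nat.card_congr (subgroupOfEquivOfLe inf_le_left).toEquiv]
    exact hSE.2.2 u huH
  refine seven_no_odd_transitive D' hodd ?_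
  let X := {a : alternatingGroup (Fin 7) // orderOf a = 2}
  letI : MulAction ↥D' X :=
    { smul := fun d a => ⟨(d : alternatingGroup (Fin 7)) * a.1 * (d : alternatingGroup (Fin 7))⁻¹, by
        rw [Invol.orderOf_conj_eq]; exact a.2⟩
      one_smul := fun a => Subtype.ext (show (1 : alternatingGroup (Fin 7)) * a.1 * 1⁻¹ = a.1 by group)
      mul_smul := fun d e a => Subtype.ext (show ((d : alternatingGroup (Fin 7)) * e) * a.1 *
        ((d : alternatingGroup (Fin 7)) * e)⁻¹ = d * (e * a.1 * (e : alternatingGroup (Fin 7))⁻¹) *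
          (d : alternatingGroup (Fin 7))⁻¹ by group) }
  haveI : MulAction.IsPretransitive ↥D' X := ⟨fun a b => by
    obtain ⟨d, hd, hdab⟩ := htrans a.1 b.1 a.2 b.2
    obtain ⟨⟨x, y⟩, hxy⟩ := hd.1
    refine ⟨⟨y, ⟨⟨d, hd.1⟩, mem_subgroupOf.2 hd, ?_⟩⟩, Subtype.ext (hι ?_)⟩
    · subst hxy; exact hπ x y
    · show ι (y * a.1 * y⁻¹) = ι b.1
      rw [← hdab, ← hxy, hψ, map_mul, map_mul, map_inv]
      rw [show (x : M) * ι y * ι a.1 * ((x : M) * ι y)⁻¹ = (x : M) * (ι y * ι a.1 * (ι y)⁻¹) * (x : M)⁻¹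
        by group, ← hvc _ x.2 (ι y * ι a.1 * (ι y)⁻¹), mul_inv_cancel_right]⟩
  have hidx := MulAction.index_stabilizer_of_transitive ↥D' (⟨t, ht⟩ : X)
  rw [card_seven_invol] at hidx
  exact hidx ▸ (MulAction.stabilizer ↥D' (⟨t, ht⟩ : X)).index_dvd_card

end CfsgLib.StructB.CoA9
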