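import Cfsg.Agent.Lib.StructB.CoA9.Nine

/-!
The centraliser of `q` and `ρ` is the alternating group of degree nine.
-/

set_option autoImplicit false
set_option maxRecDepth 20000
set_option synthInstance.maxSize 2000

namespace CfsgLib.StructB.CoA9

open Subgroup CfsgLib.Trans3.ExtraTwo CfsgLib.ClassK.Conway Equiv

local notation "A8" => alternatingGroup (Fin 8)
local notation "A9" => alternatingGroup (Fin 9)

universe u

variable {G : Type u} [Group G] {z : G} {Q : Subgroup G} {e : ↥Q ≃* ES 4 (ff 4)} {ρ : G}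
variable [Finite G] {T : Tri z Q e ρ} {L : Subgroup G} {c y : G}

/-- An isomorphism of the centraliser of `q` and `ρ` with the alternating group of degree nine
carrying the complement to the stabiliser of the last point. -/
structure Nine (T : Tri z Q e ρ) (pt : Fin 9 → G) (θ : ↥(RR e ρ) ≃* A9) : Prop where
  inj : Function.Injective pt
  last : pt (Fin.last 8) = z
  act : ∀ (r : ↥(RR e ρ)) (i : Fin 9), (r : G) * pt i * (r : G)⁻¹ = pt ((θ r).1 i)
  lam_last : ∀ σ : A8, (θ ⟨lam T σ, lam_mem_RR T σ⟩).1 (Fin.last 8) = Fin.last 8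
  lam_cast : ∀ (σ : A8) (i : Fin 8),
    (θ ⟨lam T σ, lam_mem_RR T σ⟩).1 i.castSucc = (σ.1 i).castSucc

theorem Base.exists_nine (B : Base T L c y) (hq : HasOmega z Q) : ∃ pt θ, Nine T pt θ := by
  classical
  choose pk hpk using exists_pick
  let P : Fin 8 → G := fun i => lam T (pk i) * y * (lam T (pk i))⁻¹
  have hPall : ∀ σ : A8, lam T σ * y * (lam T σ)⁻¹ = P (σ.1 7) := by
    intro σ
    have h7 : ((pk (σ.1 7))⁻¹ * σ).1 7 = 7 := by
      show (pk (σ.1 7)).1.symm (σ.1 7) = 7
      rw [Equiv.symm_apply_eq, hpk]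
    calc lam T σ * y * (lam T σ)⁻¹ = lam T (pk (σ.1 7)) *
          (lam T ((pk (σ.1 7))⁻¹ * σ) * y * (lam T ((pk (σ.1 7))⁻¹ * σ))⁻¹) *
          (lam T (pk (σ.1 7)))⁻¹ := by rw [map_mul, map_inv]; group
      _ = _ := by rw [mul_inv_eq_iff_eq_mul.2 (B.fix _ h7)]
  have hPσ : ∀ (σ : A8) (i : Fin 8), lam T σ * P i * (lam T σ)⁻¹ = P (σ.1 i) := by
    intro σ i
    have h := hPall (σ * pk i)
    rw [Subgroup.coe_mul, Perm.mul_apply, hpk] at h
    rw [← h, map_mul]
    show lam T σ * (lam T (pk i) * y * (lam T (pk i))⁻¹) * (lam T σ)⁻¹ = _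
    group
  have hsh : ∀ i, Sh z e ρ c y (P i) (if i = 7 then 0 else pairVec 7 i) := fun i => by
    have := B.shift (pk i)
    rwa [shiftVec, hpk] at this
  have hPinj : Function.Injective P := by
    intro i j hij
    have h := hsh i
    rw [hij] at h
    exact (by decide +kernel : ∀ i j : Fin 8,
      (if i = 7 then (0 : Sp 3) else pairVec 7 i) = (if j = 7 then 0 else pairVec 7 j) → i = j)
      i j (Sh.unique T B.swap h (hsh j))
  have hPne : ∀ i, P i ≠ z := fun i h => by
    have ha : Anti z e (P i) := Anti.conjLam T B.anti _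
    rw [h, Anti] at ha
    exact absurd (Setup.el_inj (e := e) ((mul_eq_right.1 ha.symm).trans Setup.el_zero.symm)).1
      (by decide)
  let pt : Fin 9 → G := Fin.lastCases z P
  have hlast : pt (Fin.last 8) = z := Fin.lastCases_last
  have hcast : ∀ i : Fin 8, pt i.castSucc = P i := fun i => Fin.lastCases_castSucc i
  have hpt : Function.Injective pt := by
    intro a b h
    induction a using Fin.lastCases with
    | last =>
      induction b using Fin.lastCases with
      | last => rfl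
      | cast b => rw [hlast, hcast] at h; exact absurd h.symm (hPne b)
    | cast a =>
      induction b using Fin.lastCases with
      | last => rw [hlast, hcast] at h; exact absurd h (hPne a)
      | cast b => rw [hcast, hcast] at h; rw [hPinj h]
  have horb : ∀ r ∈ RR e ρ, ∃ j, r * z * r⁻¹ = pt j := by
    intro r hr
    rcases B.orbit_eq hq hr with h | ⟨σ, h⟩
    · exact ⟨Fin.last 8, by rw [hlast, h]⟩
    · exact ⟨(σ.1 7).castSucc, by rw [hcast, h, hPall]⟩
  have hmem : ∀ i, ∃ s ∈ RR e ρ, s * z * s⁻¹ = pt i := by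
    intro i
    induction i using Fin.lastCases with
    | last => exact ⟨1, one_mem _, by rw [hlast]; group⟩
    | cast i => rw [hcast]; exact B.orb_conj (pk i)
  have hex : ∀ (r : ↥(RR e ρ)) (i : Fin 9), ∃ j, (r : G) * pt i * (r : G)⁻¹ = pt j := by
    intro r i
    obtain ⟨s, hs, hsi⟩ := hmem i
    obtain ⟨j, hj⟩ := horb ((r : G) * s) (mul_mem r.2 hs)
    exact ⟨j, by rw [← hj, ← hsi]; group⟩
  choose f hf using hex
  have hfinj : ∀ r, Function.Injective (f r) := fun r a b h => by
    have h' : (r : G) * pt a * (r : G)⁻¹ = (r : G) * pt b * (r : G)⁻¹ := by rw [hf, hf, h]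
    exact hpt (mul_left_cancel (mul_right_cancel h'))
  let φ : ↥(RR e ρ) →* Perm (Fin 9) :=
    MonoidHom.mk' (fun r => Equiv.ofBijective (f r) ⟨hfinj r, Finite.surjective_of_injective (hfinj r)⟩)
      fun r s => Equiv.ext fun i => hpt (by
        show pt (f (r * s) i) = pt (f r (f s i))
        rw [← hf, ← hf, ← hf, Subgroup.coe_mul]; group)
  have hφ : ∀ (r : ↥(RR e ρ)) (i : Fin 9), (r : G) * pt i * (r : G)⁻¹ = pt (φ r i) := hf
  have hφσ : ∀ (σ : A8) (i : Fin 8), φ ⟨lam T σ, lam_mem_RR T σ⟩ i.castSucc = (σ.1 i).castSucc :=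
    fun σ i => hpt (by rw [← hφ, hcast, hcast]; exact hPσ σ i)
  have hφl : ∀ σ : A8, φ ⟨lam T σ, lam_mem_RR T σ⟩ (Fin.last 8) = Fin.last 8 := fun σ =>
    hpt (by rw [← hφ, hlast]; exact mul_inv_eq_iff_eq_mul.2 (lam_comm T σ).1)
  have hφinj : Function.Injective φ := by
    rw [injective_iff_map_eq_one]
    intro r hr
    have h := hφ r (Fin.last 8)
    rw [hr, Perm.one_apply, hlast] at h
    obtain ⟨σ, hσ⟩ := cent_z_RR T r.2 (mul_inv_eq_iff_eq_mul.1 h)
    have hr' : r = ⟨lam T σ, lam_mem_RR T σ⟩ := Subtype.ext hσ.symm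
    have h1 : σ = 1 := Subtype.ext (Equiv.ext fun i => Fin.castSucc_injective _ (by
      rw [← hφσ σ i, ← hr', hr]; rfl))
    exact Subtype.ext (by rw [← hσ, h1, map_one]; rfl)
  have horbc : Nat.card ↥(Orb z e ρ) = 9 := by
    rw [← Nat.card_fin 9]
    refine (Nat.card_congr (Equiv.ofBijective (fun i => (⟨pt i, hmem i⟩ : ↥(Orb z e ρ)))
      ⟨fun a b h => hpt (congrArg Subtype.val h), ?_⟩)).symm
    rintro ⟨v, r, hr, rfl⟩
    obtain ⟨j, hj⟩ := horb r hr
    exact ⟨j, Subtype.ext hj.symm⟩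
  have hrange : φ.range = A9 := by
    refine Perm.eq_alternatingGroup_of_index_eq_two ?_
    have h := card_mul_index φ.range
    rw [← Nat.card_congr (MonoidHom.ofInjective hφinj).toEquiv, card_RR T, horbc,
      Nat.card_eq_fintype_card (α := Perm (Fin 9)), Fintype.card_perm, Fintype.card_fin,
      show Nat.factorial 9 = 9 * 20160 * 2 from rfl] at h
    exact Nat.eq_of_mul_eq_mul_left (by norm_num) h
  refine ⟨pt, (MonoidHom.ofInjective hφinj).trans (MulEquiv.subgroupCongr hrange),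
    hpt, hlast, hφ, hφl, hφσ⟩

theorem exists_nine (T : Tri z Q e ρ) (hq : HasOmega z Q) : ∃ pt θ, Nine T pt θ := by
  obtain ⟨L, F⟩ := exists_fiveL T hq
  obtain ⟨c, hc⟩ := exists_c T
  obtain ⟨y, B⟩ := exists_base T F hc
  exact B.exists_nine hq

end CfsgLib.StructB.CoA9
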