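import Cfsg.Agent.Lib.StructB.CoA9.Layer

/-!
Certificates for the action of the alternating group of degree eight on the sixty-four translates of a
point of the orbit of nine.
-/

set_option autoImplicit false
set_option maxRecDepth 20000
set_option synthInstance.maxSize 2000
set_option Elab.async false

namespace CfsgLib.StructB.CoA9

open CfsgLib.Trans3.ExtraTwo CfsgLib.ClassK.Conway Equiv

local notation "A8" => alternatingGroup (Fin 8)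

/-- The three-cycle `(0 1 2)`. -/
def g012 : A8 := ⟨swap 0 1 * swap 1 2, by simp [Perm.mem_alternatingGroup]⟩

/-- The three-cycle `(2 3 4)`. -/
def g234 : A8 := ⟨swap 2 3 * swap 3 4, by simp [Perm.mem_alternatingGroup]⟩

/-- The three-cycle `(4 5 6)`. -/
def g456 : A8 := ⟨swap 4 5 * swap 5 6, by simp [Perm.mem_alternatingGroup]⟩

/-- The involution `(0 1)(2 3)`. -/
def g0123 : A8 := ⟨swap 0 1 * swap 2 3, by simp [Perm.mem_alternatingGroup]⟩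

/-- Letters for the words fixing the last point. -/
def letter7 : Fin 3 → A8 := ![g012, g234, g456]

/-- The translation part of a permutation. -/
def shiftVec (σ : Perm (Fin 8)) : Sp 3 := if σ 7 = 7 then 0 else pairVec 7 (σ 7)

/-- The affine action. -/
def aff (σ : Perm (Fin 8)) (a : Sp 3) : Sp 3 := shiftVec σ + psi σ a

/-- The generators used by the certificates. -/
def gen8 : Fin 3 → A8 := ![sb, g456, sx]

/-- The vector with the given code. -/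
def ofCode (c : ℕ) : Sp 3 :=
  fun k => ((c / 2 ^ (2 * k.1) : ℕ), (c / 2 ^ (2 * k.1 + 1) : ℕ))

/-- Words carrying the long orbit to the pair `56`. -/
def orbData : List (ℕ × List (Fin 3)) := [
  (1, [1, 1, 2]), (2, [1, 0, 2, 2]), (3, [1, 0, 1]), (4, [1, 0, 1, 0, 0, 2]),
  (5, [1, 0, 0, 0, 1, 0, 2]), (6, [1, 0, 0, 0, 0, 1, 2]), (7, [1, 0, 0, 0, 0]),
  (8, [1, 0, 0, 1, 0, 0, 2]), (9, [1, 0, 0, 1, 0, 2]), (10, [1, 0, 0, 0, 1, 2]),
  (11, [1, 0, 0, 0]), (12, [1, 0, 1, 0, 0, 0]), (13, [1, 0, 1, 0]), (14, [1, 0, 0, 1]),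
  (15, [1, 0, 0, 2, 2]), (16, [1, 0, 1, 0, 0, 0, 2, 1]), (17, [1, 0, 1, 0, 2, 1]),
  (18, [1, 0, 0, 1, 2, 2]), (19, [1, 0, 0, 2]), (20, [1, 0, 0, 1, 0, 2, 1, 1]),
  (21, [1, 0, 0, 1, 0, 0, 2, 1, 1]), (22, [1, 0, 0, 1, 0, 2, 1, 1, 0]),
  (24, [1, 0, 0, 0, 1, 0, 2, 1, 1]), (25, [1, 0, 1, 0, 0, 2, 1, 1]),
  (26, [1, 0, 1, 0, 2, 1, 1, 0]), (29, [1, 1]), (30, [1, 0, 2]), (31, [1, 0, 1, 2, 2]),
  (32, [1, 0, 1, 0, 2, 1, 1]), (33, [1, 0, 1, 0, 0, 0, 2, 1, 1]),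
  (34, [1, 0, 1, 0, 0, 2, 1, 1, 0]), (36, [1, 0, 0, 1, 0, 0, 2, 1]),
  (37, [1, 0, 0, 1, 0, 2, 1]), (38, [1, 0, 0, 0, 1, 2, 2]), (39, [1, 0, 0, 0, 2]),
  (40, [1, 0, 1, 0, 0, 2, 1]), (41, [1, 0, 0, 0, 1, 0, 2, 1]), (42, [1, 0, 0, 0, 0, 1, 2, 2]),
  (43, [1, 0, 0, 0, 0, 2]), (44, []), (47, [1, 0, 1, 0, 2, 1, 1, 0, 0]), (49, [1]),
  (50, [1, 0]), (51, [1, 0, 1, 2]), (52, [1, 0, 1, 0, 0]), (53, [1, 0, 0, 0, 1, 0]),
  (54, [1, 0, 0, 0, 0, 1]), (55, [1, 0, 0, 0, 0, 2, 2]), (56, [1, 0, 0, 1, 0, 0]),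
  (57, [1, 0, 0, 1, 0]), (58, [1, 0, 0, 0, 1]), (59, [1, 0, 0, 0, 2, 2]),
  (60, [1, 0, 1, 0, 0, 0, 2]), (61, [1, 0, 1, 0, 2]), (62, [1, 0, 0, 1, 2]), (63, [1, 0, 0])]

/-- Words carrying the non-zero singular vectors to the first one. -/
def singData : List (ℕ × List (Fin 3)) := [
  (1, []), (2, [0]), (4, [0, 1, 0, 0, 2]), (5, [0, 0, 0, 1, 0, 2]), (6, [0, 0, 0, 0, 1, 1]),
  (8, [0, 0, 1, 0, 0, 2]), (9, [0, 0, 1, 0, 2]), (10, [0, 0, 0, 1, 1]), (15, [0, 0]),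
  (16, [0, 1, 0, 0, 0]), (17, [0, 1, 0]), (18, [0, 0, 1]), (20, [0, 0, 1, 0, 1]),
  (21, [0, 0, 1, 0, 0, 1]), (22, [0, 0, 0, 1, 1, 2]), (24, [0, 0, 0, 1, 0, 1]),
  (25, [0, 1, 0, 0, 1]), (26, [0, 1, 0, 1, 0]), (31, [0, 1]), (32, [0, 1, 0, 1]),
  (33, [0, 1, 0, 2, 2]), (34, [0, 0, 1, 1, 2]), (36, [0, 0, 1, 0, 0]), (37, [0, 0, 1, 0]),
  (38, [0, 0, 0, 1]), (40, [0, 1, 0, 0]), (41, [0, 0, 0, 1, 0]), (42, [0, 0, 0, 0, 1]),
  (47, [0, 1, 1, 2]), (51, [0, 1, 1]), (55, [0, 0, 0, 0]), (59, [0, 0, 0]),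
  (60, [0, 1, 0, 0, 0, 2]), (61, [0, 1, 0, 2]), (62, [0, 0, 1, 1])]

theorem to_six : ∀ i : Fin 8, i.1 < 7 → ∃ w ∈ [([] : List (Fin 3)), [2], [2, 2], [2, 2, 1], [2, 2, 1, 1],
    [2, 2, 1, 1, 0], [2, 2, 1, 1, 0, 0]],
    ((w.map letter7).prod : A8).1 i = 6 ∧ ((w.map letter7).prod : A8).1 7 = 7 := by decide +kernel

theorem to_five : ∀ i : Fin 8, i.1 < 6 → ∃ w ∈ [([] : List (Fin 3)), [2, 1, 2, 2], [2, 1, 2, 2, 1],
    [2, 1, 2, 2, 1, 0], [2, 1, 2, 2, 1, 1], [2, 1, 2, 2, 1, 0, 0]],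
    ((w.map letter7).prod : A8).1 i = 5 ∧ ((w.map letter7).prod : A8).1 6 = 6 ∧
      ((w.map letter7).prod : A8).1 7 = 7 := by decide +kernel

theorem gens_mem : g012 ∈ K567 ∧ g234 ∈ K567 ∧ g0123 ∈ K567 ∧ g456.1 7 = 7 := by
  refine ⟨⟨?_, ?_, ?_⟩, ⟨?_, ?_, ?_⟩, ⟨?_, ?_, ?_⟩, ?_⟩ <;> decide

/-- The stabiliser of the last point is generated by the five-point group and one three-cycle. -/
theorem stab_seven (S : Subgroup A8) (hK : K567 ≤ S) (hm : g456 ∈ S) {σ : A8} (h : σ.1 7 = 7) :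
    σ ∈ S := by
  have hl : ∀ k, letter7 k ∈ S := by
    intro k; fin_cases k
    exacts [hK gens_mem.1, hK gens_mem.2.1, hm]
  have hw : ∀ w : List (Fin 3), (w.map letter7).prod ∈ S := fun w =>
    Subgroup.list_prod_mem S fun x hx => by
      obtain ⟨k, -, rfl⟩ := List.mem_map.1 hx; exact hl k
  have hlt : ∀ (k : Fin 8) (n : ℕ), n = 7 → k ≠ 7 → k.1 < 7 := fun k n _ hk => by
    have := k.2
    have h7 : k.1 ≠ 7 := fun e => hk (Fin.ext e)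
    omega
  obtain ⟨w, -, hw6, hw7⟩ := to_six (σ.1 6) (hlt _ 7 rfl fun e =>
    absurd (σ.1.injective (e.trans h.symm)) (by decide))
  set σ1 := (w.map letter7).prod * σ
  have h16 : σ1.1 6 = 6 := hw6
  have h17 : σ1.1 7 = 7 := by
    show ((w.map letter7).prod : A8).1 (σ.1 7) = 7
    rw [h, hw7]
  obtain ⟨w', -, hv5, hv6, hv7⟩ := to_five (σ1.1 5) (by
    have h7 : σ1.1 5 ≠ 7 := fun e => absurd (σ1.1.injective (e.trans h17.symm)) (by decide)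
    have h6 : σ1.1 5 ≠ 6 := fun e => absurd (σ1.1.injective (e.trans h16.symm)) (by decide)
    revert h6 h7
    generalize σ1.1 5 = k
    revert k; decide)
  have hmem : (w'.map letter7).prod * σ1 ∈ K567 := by
    refine ⟨hv5, ?_, ?_⟩
    · show ((w'.map letter7).prod : A8).1 (σ1.1 6) = 6
      rw [h16, hv6]
    · show ((w'.map letter7).prod : A8).1 (σ1.1 7) = 7
      rw [h17, hv7]
  have h1 : σ1 ∈ S := by
    have := S.mul_mem (S.inv_mem (hw w')) (hK hmem)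
    rwa [inv_mul_cancel_left] at this
  have := S.mul_mem (S.inv_mem (hw w)) h1
  rwa [show (w.map letter7).prod⁻¹ * σ1 = σ from inv_mul_cancel_left _ _] at this

/-- A product of elements of odd order equal to `sd`. -/
theorem sd_word :
    sd = (([1, 2, 1, 2, 2, 0, 0, 1, 1, 2, 0] : List (Fin 4)).map ![g012, g234, g456, sx]).prod :=
  Subtype.ext (Equiv.ext (by decide +kernel))

theorem g456_facts : g456 ^ 3 = 1 ∧ g012 ^ 3 = 1 ∧ g234 ^ 3 = 1 ∧ g0123 * g456 = g456 * g0123 ∧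
    g012 * g456 = g456 * g012 ∧ g456 * sx * (g456 * sx) = 1 ∧
    ∃ g, g = sd * (g456 * g456) * sd⁻¹ := by
  refine ⟨?_, ?_, ?_, ?_, ?_, ?_, _, rfl⟩
  all_goals exact Subtype.ext (Equiv.ext (by decide +kernel))

/-- `(1 2)(5 6)`. -/
def g1256 : A8 := ⟨swap 1 2 * swap 5 6, by simp [Perm.mem_alternatingGroup]⟩

theorem g1256_facts : g1256 * g456 = g456⁻¹ * g1256 ∧ (sd⁻¹ * g1256) ∈ K567 := by
  refine ⟨Subtype.ext (Equiv.ext (by decide +kernel)), ?_, ?_, ?_⟩ <;> decide +kernel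

theorem sx_shift_cases : ∀ a : Sp 3, psi sb.1 a = a → a ≠ 0 → psi sd.1 a = psi sx.1.symm a →
    a = pairVec 5 7 := by decide +kernel

theorem g456_shift_cases : ∀ a : Sp 3, psi g012.1 a = a → psi g0123.1 a = a →
    psi g1256.1 a = psi g456.1.symm a →
    a + psi g456.1 a + psi g456.1 (psi g456.1 a) = 0 →
    a + psi g456.1 (pairVec 5 7) + psi (g456.1 * sx.1) (a + psi g456.1 (pairVec 5 7)) = 0 →
    a = 0 ∨ a = pairVec 4 5 := by decide +kernel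

theorem split_shift : psi g012.1 (pairVec 5 6) = pairVec 5 6 ∧ psi g234.1 (pairVec 5 6) = pairVec 5 6 ∧
    psi g456.1 (pairVec 5 6) + pairVec 5 6 + pairVec 4 5 = 0 ∧
    psi sx.1 (pairVec 5 6) + pairVec 5 6 + pairVec 5 7 = 0 := by decide +kernel

theorem orb_check : ∀ p ∈ orbData,
    (p.2.map fun k => (gen8 k).1).foldr aff (ofCode p.1) = pairVec 5 6 := by decide +kernel

theorem orb_cover : ∀ a : Sp 3, a = 0 ∨ (∃ i : Fin 8, i ≠ 7 ∧ a = pairVec 7 i) ∨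
    ∃ p ∈ orbData, ofCode p.1 = a := by decide +kernel

theorem sing_check : ∀ p ∈ singData,
    (p.2.map fun k => (gen8 k).1).foldr psi (ofCode p.1) = ofCode 1 := by decide +kernel

theorem sing_cover : ∀ a : Sp 3, qd a = 0 → a = 0 ∨ ∃ p ∈ singData, ofCode p.1 = a := by
  decide +kernel

theorem sing_card : (Finset.univ.filter fun a : Sp 3 => qd a = 0 ∧ a ≠ 0).card = 35 := by
  decide +kernel

end CfsgLib.StructB.CoA9
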