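import Cfsg.Agent.Lib.StructB.CoA9.Levi
import Cfsg.Agent.Lib.ClassK.ConwayReduce
import Cfsg.Agent.Lib.PLocal.LargeExtraConj

/-!
The extraspecial subgroup attached to the involution `q`, in coordinates equivariant for the complement.
-/

set_option autoImplicit false
set_option maxRecDepth 20000
set_option synthInstance.maxSize 2000

namespace CfsgLib.StructB.CoA9

open Subgroup CfsgLib.Trans3.ExtraTwo CfsgLib.ClassK.Conway Equiv
open CfsgLib.PLocal.LargeExtra

local notation "A8" => alternatingGroup (Fin 8)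

theorem z2_solve : ∀ p k q r x y : ZMod 2,
    p + k + q + r = k + (p + k + q + r + k + x + y) + x + y := by decide

/-- The auxiliary non-singular vector. -/
def v67 : Sp 3 := pairVec 6 7

theorem v67_facts : qd v67 = 1 ∧ qd (up v67) = 1 ∧ qd (e0 + f0) = 1 ∧
    refl (e0 + f0) (refl (up v67) e0) = f0 ∧
    ∀ v, refl (e0 + f0) (refl (up v67) (up v)) = up (refl v67 v) := by decide +kernel

variable {G : Type*} [Group G] {z : G} {Q : Subgroup G} {e : ↥Q ≃* ES 4 (ff 4)} {ρ : G}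
variable [Finite G] (T : Tri z Q e ρ)

/-- An element of `C(z)` carrying `x` to `q`. -/
structure Swap (c : G) : Prop where
  cz : c * z = z * c
  cx : c * xe e * c⁻¹ = qe e
  act_up : ∀ v, act e c (up v) = up (refl v67 v)

include T

theorem exists_c : ∃ c, Swap (z := z) (e := e) c := by
  obtain ⟨hq, hq4, hq2, h1, h2⟩ := v67_facts
  have S := T.setup
  obtain ⟨c, hc, hca⟩ := S.even (e0 + f0) (up v67) hq2 hq4
  have hce : act e c e0 = f0 := by rw [hca, h1]
  have hcu : ∀ v, act e c (up v) = up (refl v67 v) := fun v => by rw [hca, h2]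
  obtain ⟨j, hj⟩ := S.conj_el hc e0 0
  rw [hce] at hj
  rcases z2_cases j with rfl | rfl
  · exact ⟨c, mem_centralizer_singleton_iff.1 hc, hj, hcu⟩
  · have hx : xe e ∈ centralizer ({z} : Set G) := S.mem_H
    refine ⟨xe e * c, mem_centralizer_singleton_iff.1 (mul_mem hx hc), ?_, fun v => ?_⟩
    · calc xe e * c * xe e * (xe e * c)⁻¹ = xe e * (c * el e e0 0 * c⁻¹) * (xe e)⁻¹ := by
            rw [xe]; group
        _ = el e e0 0 * el e f0 1 * (el e e0 0)⁻¹ := by rw [hj, xe]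
        _ = el e f0 0 := by
            rw [mul_inv_eq_iff_eq_mul, Setup.el_mul, Setup.el_mul, add_comm e0 f0]
            congr 1
    · rw [S.act_mul hx hc, hcu, S.act_mem (show xe e ∈ Q from Setup.el_mem _ _)]

omit T [Finite G] in
/-- Elements of the extraspecial subgroup of `q` centralising `z`, in coordinates. -/
def kk (z : G) (e : ↥Q ≃* ES 4 (ff 4)) (ρ c : G) (i j : ZMod 2) (a : Sp 3) : G :=
  c * nm z e ρ i j (refl v67 a) 0 * c⁻¹

omit T [Finite G] in
/-- The extraspecial subgroup of `q`. -/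
def QT (Q : Subgroup G) (ρ c : G) : Subgroup G := Q.map (MulAut.conj (c * ρ)).toMonoidHom

variable {c : G} (hc : Swap (z := z) (e := e) c)
include hc

theorem cz_conj : c * z * c⁻¹ = z := by rw [hc.cz, mul_inv_cancel_right]

theorem pack_QT : Pack (QT Q ρ c) (qe e) := by
  have h := T.setup.pack.map (c * ρ)
  rwa [show c * ρ * z * (c * ρ)⁻¹ = c * (ρ * z * ρ⁻¹) * c⁻¹ by group, T.rho_z, hc.cx] at h

omit T [Finite G] hc in
theorem mem_QT {g : G} : g ∈ QT Q ρ c ↔ c⁻¹ * g * c ∈ Q.map (MulAut.conj ρ).toMonoidHom := by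
  constructor
  · rintro ⟨a, ha, rfl⟩
    exact ⟨a, ha, by show ρ * a * ρ⁻¹ = c⁻¹ * (c * ρ * a * (c * ρ)⁻¹) * c; group⟩
  · rintro ⟨a, ha, h⟩
    refine ⟨a, ha, ?_⟩
    change ρ * a * ρ⁻¹ = c⁻¹ * g * c at h
    show c * ρ * a * (c * ρ)⁻¹ = g
    calc c * ρ * a * (c * ρ)⁻¹ = c * (ρ * a * ρ⁻¹) * c⁻¹ := by group
      _ = g := by rw [h]; group

theorem z_mem_QT : z ∈ QT Q ρ c := by
  rw [mem_QT, show c⁻¹ * z * c = z by rw [mul_assoc, ← hc.cz, inv_mul_cancel_left]]
  exact T.pair.zmem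

/-- Two elements commute up to the central involution. -/
theorem comm_cases {a b : G} (ha : a ∈ QT Q ρ c) (hb : b ∈ QT Q ρ c) :
    a * b = b * a ∨ a * b = qe e * (b * a) := by
  obtain ⟨a', ha', rfl⟩ := ha
  obtain ⟨b', hb', rfl⟩ := hb
  obtain ⟨v, i, rfl⟩ := Setup.exists_el (e := e) ha'
  obtain ⟨w, j, rfl⟩ := Setup.exists_el (e := e) hb'
  rw [← map_mul, ← map_mul, T.setup.el_comm, map_mul]
  rcases z2_cases (alt v w) with h | h <;> rw [h]
  · left; rw [Setup.el_zero, map_one, one_mul]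
  · right
    rw [T.setup.el_one]
    congr 1
    show c * ρ * z * (c * ρ)⁻¹ = qe e
    rw [show c * ρ * z * (c * ρ)⁻¹ = c * (ρ * z * ρ⁻¹) * c⁻¹ by group, T.rho_z, hc.cx]

theorem kk_mem (i j : ZMod 2) (a : Sp 3) : kk z e ρ c i j a ∈ QT Q ρ c := by
  rw [mem_QT, kk, show c⁻¹ * (c * nm z e ρ i j (refl v67 a) 0 * c⁻¹) * c =
    nm z e ρ i j (refl v67 a) 0 by group, nm, T.dl_zero, mul_one]
  refine mul_mem ?_ (T.yl_memT _)
  obtain ⟨h1, h2⟩ := T.four_mem
  rw [ep]
  refine mul_mem ?_ ?_ <;> · unfold pw; split <;> first | exact one_mem _ | assumption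

theorem kk_comm_z (i j : ZMod 2) (a : Sp 3) :
    kk z e ρ c i j a * z = z * kk z e ρ c i j a := by
  have h : Commute (nm z e ρ i j (refl v67 a) 0) z := (T.nm_ce _ _ _ _).1
  have hcz : Commute c z := hc.cz
  exact ((hcz.mul_left h).mul_left hcz.inv_left).eq

/-- The centraliser of `z` in the extraspecial subgroup. -/
theorem exists_kk {g : G} (hg : g ∈ QT Q ρ c) (hgz : g * z = z * g) :
    ∃ i j a, g = kk z e ρ c i j a := by
  set g' := c⁻¹ * g * c with hg'
  have hgR : g' ∈ Q.map (MulAut.conj ρ).toMonoidHom := mem_QT.1 hg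
  have hg'z : g' * z = z * g' := by
    have hcz : Commute c z := hc.cz
    exact ((hcz.inv_left.mul_left (show Commute g z from hgz)).mul_left hcz).eq
  obtain ⟨i, j, a, b, h⟩ := T.inU_rad
    (mem_sup_left (mem_inf.2 ⟨hgR, mem_centralizer_singleton_iff.2 hg'z⟩) :
      g' ∈ (Q.map (MulAut.conj ρ).toMonoidHom ⊓ centralizer ({z} : Set G)) ⊔
        (Q ⊓ centralizer ({xe e} : Set G)))
  have hk := kk_mem T hc i j (refl v67 a)
  rw [mem_QT, kk, refl_refl, show c⁻¹ * (c * nm z e ρ i j a 0 * c⁻¹) * c =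
    nm z e ρ i j a 0 by group] at hk
  have hb : b = 0 := by
    refine T.eq_zero_of_mem (k := 0) ?_
    have h1 := mul_mem (inv_mem hk) (h ▸ hgR)
    rwa [nm, nm, T.dl_zero, mul_one, ← mul_assoc (ep z e i j) (yl e ρ a), inv_mul_cancel_left] at h1
  subst hb
  exact ⟨i, j, refl v67 a, by rw [kk, refl_refl, ← h, hg']; group⟩

theorem kk_mul (i j k l : ZMod 2) (a b : Sp 3) :
    ∃ i' j', kk z e ρ c i j a * kk z e ρ c k l b = kk z e ρ c i' j' (a + b) := by
  refine ⟨i + k + alt 0 (refl v67 b) + beta (ff 3) 0 0, j + l + alt 0 (refl v67 b) +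
    beta (ff 3) (refl v67 a) (refl v67 b), ?_⟩
  rw [kk, kk, kk, (refl_isom v67_facts.1).map_add,
    show c * nm z e ρ i j (refl v67 a) 0 * c⁻¹ * (c * nm z e ρ k l (refl v67 b) 0 * c⁻¹) =
      c * (nm z e ρ i j (refl v67 a) 0 * nm z e ρ k l (refl v67 b) 0) * c⁻¹ by group,
    T.nm_mul, add_zero]

theorem kk_inj {i j k l : ZMod 2} {a b : Sp 3} (h : kk z e ρ c i j a = kk z e ρ c k l b) :
    i = k ∧ j = l ∧ a = b := by
  obtain ⟨h1, h2, h3, -⟩ := T.nm_inj (mul_left_cancel (mul_right_cancel h))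
  exact ⟨h1, h2, (refl_isom v67_facts.1).injective h3⟩

theorem kk_zero (i j : ZMod 2) : kk z e ρ c i j 0 = pw z i * pw (qe e) j := by
  rw [kk, (refl_isom v67_facts.1).map_zero, T.nm_ep, ep,
    show c * (pw z i * pw (xe e) j) * c⁻¹ = (c * pw z i * c⁻¹) * (c * pw (xe e) j * c⁻¹) by group,
    pw_conj, pw_conj, cz_conj T hc, hc.cx]

theorem kk_sq {i j : ZMod 2} {a : Sp 3} (h : kk z e ρ c i j a * kk z e ρ c i j a = 1) : qd a = 0 := by
  rw [kk, show c * nm z e ρ i j (refl v67 a) 0 * c⁻¹ * (c * nm z e ρ i j (refl v67 a) 0 * c⁻¹) =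
    c * (nm z e ρ i j (refl v67 a) 0 * nm z e ρ i j (refl v67 a) 0) * c⁻¹ by group,
    conj_eq_one_iff, T.nm_mul] at h
  obtain ⟨-, h2, -, -⟩ := T.nm_eq_one h
  rw [alt_zero_left, add_zero, z2_add_self, zero_add] at h2
  rw [← (refl_isom v67_facts.1).map_qd a]
  exact h2

/-- The complement acts on the coordinates by the permutation action. -/
theorem kk_lam (σ : A8) (i j : ZMod 2) (a : Sp 3) : ∃ i' j',
    lam T σ * kk z e ρ c i j a * (lam T σ)⁻¹ = kk z e ρ c i' j' (psi σ.1 a) := by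
  have S := T.setup
  have hr := refl_isom v67_facts.1
  obtain ⟨hz, hx, -, hq⟩ := lam_comm T σ
  set l := lam T σ with hl
  set l' := c⁻¹ * l * c with hl'
  have hcH : c ∈ centralizer ({z} : Set G) := mem_centralizer_singleton_iff.2 hc.cz
  have hlH : l ∈ centralizer ({z} : Set G) := mem_centralizer_singleton_iff.2 hz
  have hl'H : l' ∈ centralizer ({z} : Set G) := mul_mem (mul_mem (inv_mem hcH) hlH) hcH
  have hxe : xe e = c⁻¹ * qe e * c := by rw [← hc.cx]; group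
  have hl'CE : CE z e l' := by
    refine ⟨mem_centralizer_singleton_iff.1 hl'H, ?_⟩
    rw [hxe, hl', show c⁻¹ * l * c * (c⁻¹ * qe e * c) = c⁻¹ * (l * qe e) * c by group, hq]
    group
  have hact : ∀ v, act e l' (up v) = up (refl v67 (psi σ.1 (refl v67 v))) := by
    intro v
    refine (S.act_isom hcH).injective ?_
    rw [← S.act_mul hcH hl'H, show c * l' = l * c by rw [hl']; group, S.act_mul hlH hcH, hc.act_up,
      (T.lev_act (lam_lev T σ)).2, sig_lam, hc.act_up, refl_refl]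
  have hsig : ∀ v, sig e l' v = refl v67 (psi σ.1 (refl v67 v)) := fun v =>
    T.sig_eq hl'CE (s := 0) (by rw [hact, zero_smul, zero_add])
  obtain ⟨k, m, a', b', hlev⟩ := T.exists_lev hl'CE
  set u := nm z e ρ k m a' b' with hu
  obtain ⟨ka, kb, -, -, hconj⟩ := T.lev_nm hlev i j (refl v67 a) 0
  rw [T.sig_mul (T.nm_ce k m a' b') hl'CE, hu, T.sig_nm, hsig, refl_refl,
    T.sig_mul (T.nm_ce k m a' b') hl'CE, T.sig_nm, hsig, hr.map_zero, (psi_isom σ.1).map_zero,
    hr.map_zero] at hconj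
  set w := refl v67 (psi σ.1 a)
  obtain ⟨i', j', hcomm⟩ : ∃ i' j',
      nm z e ρ (i + kb) (j + ka) w 0 * u = u * nm z e ρ i' j' w 0 := by
    refine ⟨i + kb + k + alt 0 a' + beta (ff 3) 0 b' + k + alt b' w + beta (ff 3) b' 0,
      j + ka + m + alt 0 a' + beta (ff 3) w a' + m + alt b' w + beta (ff 3) a' w, ?_⟩
    rw [hu, T.nm_mul, T.nm_mul, add_comm w a', zero_add, add_zero]
    rw [← z2_solve (i + kb) k (alt 0 a') (beta (ff 3) 0 b') (alt b' w) (beta (ff 3) b' 0),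
      ← z2_solve (j + ka) m (alt 0 a') (beta (ff 3) w a') (alt b' w) (beta (ff 3) a' w)]
  refine ⟨i', j', ?_⟩
  show l * (c * nm z e ρ i j (refl v67 a) 0 * c⁻¹) * l⁻¹ = c * nm z e ρ i' j' w 0 * c⁻¹
  rw [show l * (c * nm z e ρ i j (refl v67 a) 0 * c⁻¹) * l⁻¹ =
      c * (u⁻¹ * (u * l' * nm z e ρ i j (refl v67 a) 0 * (u * l')⁻¹) * u) * c⁻¹ by rw [hl']; group,
    hconj, mul_assoc u⁻¹, hcomm, inv_mul_cancel_left]

end CfsgLib.StructB.CoA9
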