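import Cfsg.Agent.Lib.StructB.CoA9.NormW
import Cfsg.Agent.S3331

/-!
The centraliser of the complement `A₇`: it is `L₂(7)`.
-/

set_option autoImplicit false
set_option maxRecDepth 20000
set_option synthInstance.maxSize 2000
set_option Elab.async false

namespace CfsgLib.StructB.CoA9

open Subgroup CfsgLib.Trans3.ExtraTwo CfsgLib.ClassK.Conway Equiv

local notation "A8" => alternatingGroup (Fin 8)
local notation "A9" => alternatingGroup (Fin 9)

/-- The stabiliser of the last of the eight points. -/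
def st7 : Subgroup A8 where
  carrier := {σ | σ.1 7 = 7}
  one_mem' := rfl
  mul_mem' := fun {a b} (ha : a.1 7 = 7) (hb : b.1 7 = 7) => by
    show a.1 (b.1 7) = 7
    rw [hb, ha]
  inv_mem' := fun {a} (ha : a.1 7 = 7) => by
    show a.1.symm 7 = 7
    rw [Equiv.symm_apply_eq, ha]

/-- Three-cycles fixing the last point. -/
def cyc (a b c : Fin 7) : Perm (Fin 8) :=
  swap a.castSucc b.castSucc * swap a.castSucc c.castSucc

theorem cyc_sign (a b c : Fin 7) (h : a ≠ b) (h' : a ≠ c) : cyc a b c ∈ A8 := by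
  rw [Perm.mem_alternatingGroup, cyc, Perm.sign_mul,
    Perm.sign_swap (Fin.castSucc_injective _ |>.ne h), Perm.sign_swap (Fin.castSucc_injective _ |>.ne h')]
  rfl

theorem cyc_seven : ∀ a b c : Fin 7, cyc a b c 7 = 7 := by decide +kernel

theorem cyc_move : ∀ i j : Fin 8, i ≠ 7 → j ≠ 7 → j ≠ i →
    ∃ a b c : Fin 7, a ≠ b ∧ a ≠ c ∧ cyc a b c i = i ∧ cyc a b c j ≠ j := by decide +kernel

theorem cyc_move' : ∀ i : Fin 8, i ≠ 7 →
    ∃ a b c : Fin 7, a ≠ b ∧ a ≠ c ∧ cyc a b c i ≠ i := by decide +kernel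

theorem psi_cyc_fixed : ∀ v : Sp 3,
    psi (cyc 0 1 2) v = v → psi (cyc 2 3 4) v = v → psi (cyc 4 5 6) v = v → v = 0 := by
  decide +kernel

theorem perm_comm_st7 (σ : Perm (Fin 8)) (h : ∀ π : A8, π.1 7 = 7 → σ * π.1 = π.1 * σ) :
    σ = 1 := by
  have key : ∀ i, i ≠ 7 → σ i = i := by
    intro i hi
    by_contra hne
    by_cases h7 : σ i = 7
    · obtain ⟨a, b, c, hab, hac, hm⟩ := cyc_move' i hi
      have := congrArg (fun p : Perm (Fin 8) => p i) (h ⟨cyc a b c, cyc_sign a b c hab hac⟩ (cyc_seven a b c))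
      simp only [Perm.mul_apply] at this
      rw [h7, cyc_seven, ← h7] at this
      exact hm (σ.injective this)
    · obtain ⟨a, b, c, hab, hac, hfi, hm⟩ := cyc_move i (σ i) hi h7 hne
      have := congrArg (fun p : Perm (Fin 8) => p i) (h ⟨cyc a b c, cyc_sign a b c hab hac⟩ (cyc_seven a b c))
      simp only [Perm.mul_apply] at this
      rw [hfi] at this
      exact hm this.symm
  refine Equiv.ext fun i => ?_
  rcases eq_or_ne i 7 with rfl | hi
  · by_contra hne
    exact hne (σ.injective (key _ hne))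
  · exact key i hi

theorem perm9_comm_st7 (p : Perm (Fin 9)) (hp : Perm.sign p = 1)
    (h : ∀ π : A8, π.1 7 = 7 → ∀ q : Perm (Fin 9), q (Fin.last 8) = Fin.last 8 →
      (∀ i : Fin 8, q i.castSucc = (π.1 i).castSucc) → p * q = q * p) : p = 1 := by
  classical
  let ext : Perm (Fin 8) → Perm (Fin 9) := fun π => π.viaFintypeEmbedding Fin.castSuccEmb
  have hext : ∀ π : Perm (Fin 8), ext π (Fin.last 8) = Fin.last 8 ∧
      ∀ i, ext π i.castSucc = (π i).castSucc := fun π =>
    ⟨Perm.viaFintypeEmbedding_apply_notMem_range _ _ (by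
        rintro ⟨i, hi⟩; exact (Fin.castSucc_lt_last i).ne hi),
      fun i => Perm.viaFintypeEmbedding_apply_image π Fin.castSuccEmb i⟩
  have hc : ∀ π : A8, π.1 7 = 7 → ∀ x, p (ext π.1 x) = ext π.1 (p x) := fun π hπ x => by
    have := congrArg (fun f : Perm (Fin 9) => f x) (h π hπ (ext π.1) (hext _).1 (hext _).2)
    simpa only [Perm.mul_apply] using this
  have key : ∀ i : Fin 8, i ≠ 7 → p i.castSucc = i.castSucc := by
    intro i hi
    have hfar : ∀ x, (∀ π : A8, π.1 7 = 7 → ext π.1 x = x) → p i.castSucc ≠ x := by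
      intro x hx he
      obtain ⟨a, b, c, hab, hac, hm⟩ := cyc_move' i hi
      have := hc ⟨cyc a b c, cyc_sign a b c hab hac⟩ (cyc_seven a b c) i.castSucc
      rw [(hext _).2, he, hx ⟨cyc a b c, _⟩ (cyc_seven a b c), ← he] at this
      exact hm (Fin.castSucc_injective _ (p.injective this))
    induction h8 : p i.castSucc using Fin.lastCases with
    | last => exact absurd h8 (hfar _ fun π _ => (hext _).1)
    | cast j =>
      by_contra hne
      have hj7 : j ≠ 7 := fun h7 => hfar (7 : Fin 8).castSucc (fun π hπ => by rw [(hext _).2, hπ])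
        (by rw [h8, h7])
      obtain ⟨a, b, c, hab, hac, hfi, hm⟩ := cyc_move i j hi hj7 fun hji => hne (by rw [hji])
      have := hc ⟨cyc a b c, cyc_sign a b c hab hac⟩ (cyc_seven a b c) i.castSucc
      rw [(hext _).2, hfi, h8, (hext _).2] at this
      exact hm (Fin.castSucc_injective _ this).symm
  by_contra hne
  have hsw : p = swap (Fin.castSucc (7 : Fin 8)) (Fin.last 8) := by
    have hmem : ∀ x, p x ≠ x → x = (7 : Fin 8).castSucc ∨ x = Fin.last 8 := by
      intro x hx
      induction x using Fin.lastCases with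
      | last => exact Or.inr rfl
      | cast i => exact Or.inl (congrArg Fin.castSucc (by_contra fun hi => hx (key i hi)))
    obtain ⟨x, hx⟩ : ∃ x, p x ≠ x := by
      by_contra hcon
      push Not at hcon
      exact hne (Equiv.ext hcon)
    have h2 := hmem _ (fun he : p (p x) = p x => hx (p.injective he))
    refine Equiv.ext fun y => ?_
    rcases eq_or_ne y (7 : Fin 8).castSucc with rfl | h7
    · rw [swap_apply_left]
      by_contra h'
      have hfix : p (7 : Fin 8).castSucc = (7 : Fin 8).castSucc := by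
        by_contra hb
        rcases hmem _ (fun he : p (p _) = p _ => hb (p.injective he)) with e | e
        · exact hb e
        · exact h' e
      rcases hmem x hx with rfl | rfl
      · exact hx hfix
      · rcases h2 with e | e
        · exact absurd (p.injective (e.trans hfix.symm)) (by decide)
        · exact hx e
    · rcases eq_or_ne y (Fin.last 8) with rfl | h8
      · rw [swap_apply_right]
        by_contra h'
        have hfix : p (Fin.last 8) = Fin.last 8 := by
          by_contra hb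
          rcases hmem _ (fun he : p (p _) = p _ => hb (p.injective he)) with e | e
          · exact h' e
          · exact hb e
        rcases hmem x hx with rfl | rfl
        · rcases h2 with e | e
          · exact hx e
          · exact absurd (p.injective (e.trans hfix.symm)) (by decide)
        · exact hx hfix
      · rw [swap_apply_of_ne_of_ne h7 h8]
        exact by_contra fun hy => (hmem y hy).elim h7 h8
  rw [hsw, Perm.sign_swap (Fin.castSucc_lt_last _).ne] at hp
  exact absurd hp (by decide)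

universe u

variable {G : Type u} [Group G] [Finite G] {z : G} {Q : Subgroup G} {e : ↥Q ≃* ES 4 (ff 4)} {ρ : G}

/-- The complement `A₇`. -/
noncomputable def LamS (T : Tri z Q e ρ) : Subgroup G := st7.map (lam T)

/-- Its centraliser. -/
noncomputable def D7 (T : Tri z Q e ρ) : Subgroup G := centralizer (LamS T : Set G)

variable (T : Tri z Q e ρ)

theorem mem_D7 {g : G} : g ∈ D7 T ↔ ∀ σ : A8, σ.1 7 = 7 → lam T σ * g = g * lam T σ := by
  rw [D7, mem_centralizer_iff]
  constructor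
  · exact fun h σ hσ => h _ ⟨σ, hσ, rfl⟩
  · rintro h _ ⟨σ, hσ, rfl⟩
    exact h σ hσ

theorem gen_mem_D7 : z ∈ D7 T ∧ xe e ∈ D7 T ∧ ρ ∈ D7 T ∧ qe e ∈ D7 T := by
  simp only [mem_D7]
  exact ⟨fun σ _ => (lam_comm T σ).1, fun σ _ => (lam_comm T σ).2.1,
    fun σ _ => (lam_comm T σ).2.2.1, fun σ _ => (lam_comm T σ).2.2.2⟩

theorem rho_mem_norm_cent {r : G} (hr : r * ρ = ρ * r) :
    r ∈ normalizer ((zpowers ρ : Subgroup G) : Set G) := by
  refine mem_normalizer_iff.2 fun x => ⟨fun hx => ?_, fun hx => ?_⟩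
  · obtain ⟨i, rfl⟩ := mem_zpowers_iff.1 hx
    rw [((show Commute r ρ from hr).zpow_right i).eq, mul_inv_cancel_right]
    exact zpow_mem (mem_zpowers _) i
  · obtain ⟨i, hi⟩ := mem_zpowers_iff.1 hx
    refine mem_zpowers_iff.2 ⟨i, ?_⟩
    calc ρ ^ i = r⁻¹ * (r * ρ ^ i) := by group
      _ = r⁻¹ * (ρ ^ i * r) := by rw [((show Commute r ρ from hr).zpow_right i).eq]
      _ = x := by rw [hi]; group

/-- An element centralising `ρ` is a power of `ρ` times an element of `R`. -/
theorem cent_rho_split {pt : Fin 9 → G} {θ : ↥(RR e ρ) ≃* A9} (N : Nine T pt θ)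
    (hq : HasOmega z Q) {g : G} (hg : g * ρ = ρ * g) :
    ∃ a ∈ zpowers ρ, ∃ r ∈ RR e ρ, g = a * r := by
  obtain ⟨O, C⟩ := exists_core N
  obtain ⟨a, ha, hag⟩ := C.fac g (rho_mem_norm_cent hg)
  rw [C.eq_zpowers N hq] at ha
  obtain ⟨i, hi⟩ := mem_zpowers_iff.1 ha
  have hagr : a * g * ρ = ρ * (a * g) := by
    rw [← hi]
    exact (((Commute.refl ρ).zpow_left i).mul_left (show Commute g ρ from hg)).eq
  rcases cent_qe_cases T (rho_mem_norm_cent hagr) hag with h | h
  · exact ⟨a⁻¹, inv_mem ha, _, h, by group⟩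
  · exfalso
    have h1 : Commute (a * g * qe e) ρ := (mem_RR.1 h).2
    have h2 : Commute (qe e) ρ := by
      have := (show Commute (a * g) ρ from hagr).inv_left.mul_left h1
      rwa [inv_mul_cancel_left] at this
    exact qe_not_comm_rho T h2.eq

/-- `C(A₇) ∩ C(ρ) = ⟨ρ⟩`. -/
theorem D7_cent_rho {pt : Fin 9 → G} {θ : ↥(RR e ρ) ≃* A9} (N : Nine T pt θ)
    (hq : HasOmega z Q) {g : G} (hg : g ∈ D7 T) (hr : g * ρ = ρ * g) : g ∈ zpowers ρ := by
  obtain ⟨a, ha, r, hrR, rfl⟩ := cent_rho_split T N hq hr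
  obtain ⟨i, rfl⟩ := mem_zpowers_iff.1 ha
  have hrD : r ∈ D7 T := by
    have := mul_mem (inv_mem (zpow_mem (gen_mem_D7 T).2.2.1 i)) hg
    rwa [inv_mul_cancel_left] at this
  have h1 : (θ ⟨r, hrR⟩).1 = 1 := by
    refine perm9_comm_st7 _ (Perm.mem_alternatingGroup.1 (θ ⟨r, hrR⟩).2) fun π hπ q hql hqc => ?_
    have hq' : q = (θ ⟨lam T π, lam_mem_RR T π⟩).1 := Equiv.ext fun x => by
      induction x using Fin.lastCases with
      | last => rw [hql, N.lam_last]
      | cast j => rw [hqc, N.lam_cast]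
    rw [hq', ← Subgroup.coe_mul, ← Subgroup.coe_mul, ← map_mul, ← map_mul]
    exact congrArg Subtype.val (congrArg θ (Subtype.ext ((mem_D7 T).1 hrD π hπ).symm))
  have h2 : (⟨r, hrR⟩ : ↥(RR e ρ)) = 1 := θ.injective (by rw [map_one]; exact Subtype.ext h1)
  rw [show r = 1 from congrArg Subtype.val h2, mul_one]
  exact zpow_mem (mem_zpowers ρ) i

omit [Finite G] in
theorem planeHom_injective : Function.Injective (planeHom e) := by
  rw [injective_iff_map_eq_one]
  intro x hx
  obtain ⟨h1, h2⟩ := Setup.el_inj (e := e) (hx.trans (Setup.el_zero (e := e)).symm)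
  exact ES.ext (iota1_facts.2 _ h1) h2

/-- `C(A₇) ∩ C(z)` lies in the dihedral group of the plane. -/
theorem D7_cent_z {g : G} (hg : g ∈ D7 T) (hz : g * z = z * g) : g ∈ (planeHom e).range := by
  have S := T.setup
  have hgH : g ∈ centralizer ({z} : Set G) := mem_centralizer_singleton_iff.2 hz
  have hi := S.act_isom hgH
  have hlH : ∀ σ : A8, lam T σ ∈ centralizer ({z} : Set G) := fun σ =>
    mem_centralizer_singleton_iff.2 (lam_comm T σ).1
  have hact : ∀ σ : A8, σ.1 7 = 7 → ∀ v, act e g (act e (lam T σ) v) = act e (lam T σ) (act e g v) := by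
    intro σ hσ v
    rw [← S.act_mul hgH (hlH σ), ← (mem_D7 T).1 hg σ hσ, S.act_mul (hlH σ) hgH]
  have hl0 : ∀ σ : A8, act e (lam T σ) e0 = e0 ∧ act e (lam T σ) f0 = f0 ∧
      ∀ v, act e (lam T σ) (up v) = up (psi σ.1 v) := fun σ =>
    ⟨T.act_e0 (lam_lev T σ).1, (T.lev_act (lam_lev T σ)).1, fun v => by
      rw [(T.lev_act (lam_lev T σ)).2, sig_lam]⟩
  have hsm : ∀ (f : Sp 4 → Sp 4), Isom f → ∀ (k : ZMod 2) (w : Sp 4), f (k • w) = k • f w :=
    fun f hf k w => smul_map hf k w
  -- vectors fixed by the complement lie in the plane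
  have hplane : ∀ w : Sp 4, (∀ σ : A8, σ.1 7 = 7 → act e (lam T σ) w = w) →
      ∃ s t : ZMod 2, w = s • e0 + t • f0 := by
    intro w hw
    obtain ⟨s, t, b, rfl, -, -⟩ := decomp w
    have hb : ∀ a a' a'' : Fin 7, a ≠ a' → a ≠ a'' → psi (cyc a a' a'') b = b := by
      intro a a' a'' h h'
      have h1 := hw ⟨cyc a a' a'', cyc_sign a a' a'' h h'⟩ (cyc_seven _ _ _)
      obtain ⟨h0, h2, h3⟩ := hl0 ⟨cyc a a' a'', cyc_sign a a' a'' h h'⟩
      have hI := S.act_isom (hlH ⟨cyc a a' a'', cyc_sign a a' a'' h h'⟩)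
      rw [hI.map_add, hI.map_add, hsm _ hI, hsm _ hI, h0, h2, h3] at h1
      exact up_inj (add_left_cancel h1)
    have hb0 : b = 0 := psi_cyc_fixed b (hb 0 1 2 (by decide) (by decide))
      (hb 2 3 4 (by decide) (by decide)) (hb 4 5 6 (by decide) (by decide))
    exact ⟨s, t, by rw [hb0, up_zero, add_zero]⟩
  obtain ⟨s1, t1, h1⟩ := hplane (act e g e0) fun σ hσ => by rw [← hact σ hσ, (hl0 σ).1]
  obtain ⟨s2, t2, h2⟩ := hplane (act e g f0) fun σ hσ => by rw [← hact σ hσ, (hl0 σ).2.1]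
  have hcases : (act e g e0 = e0 ∧ act e g f0 = f0) ∨ (act e g e0 = f0 ∧ act e g f0 = e0) := by
    have key : ∀ a b c d : ZMod 2, qd (a • e0 + b • f0) = 0 → qd (c • e0 + d • f0) = 0 →
        alt (a • e0 + b • f0) (c • e0 + d • f0) = 1 →
        (a = 1 ∧ b = 0 ∧ c = 0 ∧ d = 1) ∨ (a = 0 ∧ b = 1 ∧ c = 1 ∧ d = 0) := by decide +kernel
    obtain ⟨he, hf, hef, -⟩ := basic_facts
    rcases key s1 t1 s2 t2 (by rw [← h1, hi.map_qd, he]) (by rw [← h2, hi.map_qd, hf])
      (by rw [← h1, ← h2, hi.map_alt, hef]) with ⟨rfl, rfl, rfl, rfl⟩ | ⟨rfl, rfl, rfl, rfl⟩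
    · exact Or.inl ⟨by rw [h1, one_smul, zero_smul, add_zero], by rw [h2, one_smul, zero_smul, zero_add]⟩
    · exact Or.inr ⟨by rw [h1, one_smul, zero_smul, zero_add], by rw [h2, one_smul, zero_smul, add_zero]⟩
  -- the middle part is preserved
  have hup : ∀ v, ∃ w, act e g (up v) = up w := by
    intro v
    obtain ⟨s, t, b, hb, -, -⟩ := decomp (act e g (up v))
    have a1 := hi.map_alt e0 (up v)
    have a2 := hi.map_alt f0 (up v)
    have k1 : alt e0 (act e g (up v)) = 0 ∧ alt f0 (act e g (up v)) = 0 := by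
      obtain ⟨-, -, h3⟩ := beta_e0_up v
      rcases hcases with ⟨p1, p2⟩ | ⟨p1, p2⟩ <;> rw [p1] at a1 <;> rw [p2] at a2
      · exact ⟨a1.trans (by
          have : ∀ w : Sp 3, alt e0 (up w) = 0 := by decide +kernel
          exact this v), a2.trans (by
          have : ∀ w : Sp 3, alt f0 (up w) = 0 := by decide +kernel
          exact this v)⟩
      · exact ⟨a2.trans (by
          have : ∀ w : Sp 3, alt f0 (up w) = 0 := by decide +kernel
          exact this v), a1.trans (by
          have : ∀ w : Sp 3, alt e0 (up w) = 0 := by decide +kernel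
          exact this v)⟩
    have key : ∀ (s t : ZMod 2) (b : Sp 3), alt e0 (s • e0 + t • f0 + up b) = 0 →
        alt f0 (s • e0 + t • f0 + up b) = 0 → s = 0 ∧ t = 0 := by decide +kernel
    rw [hb] at k1
    obtain ⟨rfl, rfl⟩ := key s t b k1.1 k1.2
    exact ⟨b, by rw [hb, zero_smul, zero_smul, add_zero, zero_add]⟩
  choose hh hhh using hup
  have hhI : Isom hh := {
    map_add := fun a b => up_inj (by rw [← hhh, ← up_add, hi.map_add, hhh, hhh, up_add])
    map_qd := fun a => by rw [← qd_up, ← hhh, hi.map_qd, qd_up] }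
  obtain ⟨σ, hσ⟩ := isom_eq_psi hhI
  have hσ1 : σ = 1 := perm_comm_st7 σ fun π hπ => psi_injective fun v => by
    rw [psi_mul, psi_mul, ← hσ, ← hσ]
    refine up_inj ?_
    rw [← hhh, ← (hl0 π).2.2, hact π hπ, hhh, (hl0 π).2.2]
  have hid : ∀ v, act e g (up v) = up v := fun v => by rw [hhh, hσ, hσ1, psi_one]
  rcases hcases with ⟨p1, p2⟩ | ⟨p1, p2⟩
  · have hQ : g ∈ Q := S.mem_of_act hgH fun v => by
      obtain ⟨s, t, b, hv, -, -⟩ := decomp v
      rw [hv, hi.map_add, hi.map_add, hsm _ hi, hsm _ hi, p1, p2, hid]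
    obtain ⟨v, k, rfl⟩ := Setup.exists_el (e := e) hQ
    obtain ⟨s, t, hv⟩ := hplane v fun σ hσ => S.act_eq (hlH σ) (k := k) (k' := k)
      (mul_inv_eq_iff_eq_mul.2 ((mem_D7 T).1 hg σ hσ))
    refine ⟨⟨fun _ => (s, t), k⟩, ?_⟩
    show el e (iota1 fun _ => (s, t)) k = el e v k
    rw [hv]
    rfl
  · exfalso
    have hq1 : qd (e0 + f0) = 1 := by decide +kernel
    obtain ⟨w, hw⟩ := S.norefl g hgH (e0 + f0) hq1
    refine hw ?_
    have hr : Isom (refl (e0 + f0)) := refl_isom hq1
    obtain ⟨s, t, b, hv, -, -⟩ := decomp w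
    have hrf : refl (e0 + f0) e0 = f0 ∧ refl (e0 + f0) f0 = e0 ∧
        ∀ b : Sp 3, refl (e0 + f0) (up b) = up b := by decide +kernel
    rw [hv, hi.map_add, hi.map_add, hr.map_add, hr.map_add, hsm _ hi, hsm _ hi, hsm _ hr, hsm _ hr,
      p1, p2, hid, hrf.1, hrf.2.1, hrf.2.2]

end CfsgLib.StructB.CoA9
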