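import Cfsg.Agent.Lib.StructB.CoA9.DSeven
import Cfsg.Agent.Lib.Classical.PSLTwoPerm
import Mathlib.GroupTheory.Sylow
import Mathlib.GroupTheory.Nilpotent

/-!
The centraliser of `A₇` has order 168 and is generated by an element of order seven, `ρ` and `q`.
-/

set_option autoImplicit false
set_option maxRecDepth 20000
set_option synthInstance.maxSize 2000
set_option Elab.async false

namespace CfsgLib.StructB.CoA9

open Subgroup CfsgLib.Trans3.ExtraTwo CfsgLib.ClassK.Conway Equiv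

local notation "A8" => alternatingGroup (Fin 8)
local notation "A9" => alternatingGroup (Fin 9)

theorem s3_four : ∀ a b : Perm (Fin 3), a * a = 1 → b * b = 1 → a * b = b * a →
    a = 1 ∨ b = 1 ∨ a * b = 1 := by decide +kernel

theorem sp1_const (w : Sp 1) : iota1 w = (w 0).1 • e0 + (w 0).2 • f0 := rfl

universe u

variable {G : Type u} [Group G] [Finite G] {z : G} {Q : Subgroup G} {e : ↥Q ≃* ES 4 (ff 4)} {ρ : G}
variable (T : Tri z Q e ρ)

include T

theorem el_plane_mem (s t k : ZMod 2) : el e (s • e0 + t • f0) k ∈ D7 T := by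
  obtain ⟨hzD, hxD, -, hqD⟩ := gen_mem_D7 T
  have h0 : ∀ (v : Sp 4), el e v 0 ∈ D7 T → ∀ k, el e v k ∈ D7 T := by
    intro v hv k
    rcases z2_cases k with rfl | rfl
    · exact hv
    · rw [show (1 : ZMod 2) = 0 + 1 by rw [zero_add], T.setup.el_add_one]
      exact mul_mem hv hzD
  rcases z2_cases s with rfl | rfl <;> rcases z2_cases t with rfl | rfl
  · rw [zero_smul, zero_smul, add_zero]
    exact h0 0 (by rw [Setup.el_zero]; exact one_mem _) k
  · rw [zero_smul, one_smul, zero_add]; exact h0 f0 hqD k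
  · rw [zero_smul, one_smul, add_zero]; exact h0 e0 hxD k
  · rw [one_smul, one_smul]
    have h := mul_mem hxD hqD
    rw [xe, qe, Setup.el_mul] at h
    rcases z2_cases (0 + 0 + beta (ff 4) e0 f0) with h' | h' <;> rw [h'] at h
    · exact h0 _ h k
    · refine h0 _ ?_ k
      have := mul_mem h hzD
      rwa [← T.setup.el_add_one, z2_add_self] at this

theorem plane_le : (planeHom e).range ≤ D7 T := by
  rintro _ ⟨x, rfl⟩
  exact el_plane_mem T _ _ _

theorem card_plane : Nat.card ↥((planeHom e).range) = 8 := by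
  rw [← Nat.card_congr (MonoidHom.ofInjective planeHom_injective).toEquiv, card_ES]
  norm_num

theorem qe_ne_one : qe e ≠ 1 := fun h => qe_not_comm_rho T (by rw [h]; group)

theorem rho_conj_x : ρ * (xe e * z) * ρ⁻¹ = z := by
  rw [show ρ * (xe e * z) * ρ⁻¹ = (ρ * xe e * ρ⁻¹) * (ρ * z * ρ⁻¹) by group, T.rho_x, T.rho_z,
    T.setup.pack.comm_z T.setup.xe_facts.1, mul_assoc, T.setup.xe_facts.2.1, mul_one]

/-- A normal 3'-subgroup containing `z` forces a contradiction. -/
theorem no_z_normal {pt : Fin 9 → G} {θ : ↥(RR e ρ) ≃* A9} (N : Nine T pt θ) (M : Subgroup G)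
    (hMD : M ≤ D7 T) (hM : ∀ d ∈ D7 T, ∀ m ∈ M, d * m * d⁻¹ ∈ M) (hzM : z ∈ M)
    (h3 : ∀ n ∈ M, ∃ k : ℕ, (n ^ 3) ^ k = n)
    (hgrow : (∀ n ∈ M, (∀ a ∈ M, a * z = z * a → n * a * n⁻¹ * z = z * (n * a * n⁻¹)) → n * z = z * n) →
      ∀ n ∈ M, n * z = z * n) : False := by
  have S := T.setup
  obtain ⟨hzD, hxD, hρD, hqD⟩ := gen_mem_D7 T
  obtain ⟨hxQ, hxx, hx1, hxz, -, hqq, hqx⟩ := S.xe_facts
  have hqi : (qe e)⁻¹ = qe e := inv_eq_of_mul_eq_one_right hqq
  have hzz := S.pack.z_mul_z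
  have hxzc : xe e * z = z * xe e := S.pack.comm_z hxQ
  have hqzc : qe e * z = z * qe e := S.pack.comm_z (Setup.el_mem (e := e) f0 0)
  have hxM : xe e ∈ M := T.rho_z ▸ hM ρ hρD z hzM
  have hρM : ρ ∉ M := fun h => by
    obtain ⟨k, hk⟩ := h3 ρ h
    rw [pow_succ, pow_two, T.rho3, one_pow] at hk
    exact rho_ne T hk.symm
  have hqM : qe e ∉ M := fun h => hρM (by
    have h' := mul_mem h (hM ρ hρD _ h)
    have : qe e * (ρ * qe e * ρ⁻¹) = ρ := by
      calc qe e * (ρ * qe e * ρ⁻¹) = qe e * ρ * qe e * ρ⁻¹ := by group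
        _ = ρ⁻¹ * ρ⁻¹ := by rw [T.qrq]
        _ = ρ := by
            rw [← mul_inv_rev]
            exact inv_eq_of_mul_eq_one_right T.rho3
    rwa [this] at h')
  -- the centraliser of `z` in `M`
  have hcent : ∀ n ∈ M, n * z = z * n → n = 1 ∨ n = z ∨ n = xe e ∨ n = xe e * z := by
    intro n hn hnz
    obtain ⟨x, rfl⟩ := D7_cent_z T (hMD hn) hnz
    change el e (iota1 x.v) x.c ∈ M at hn
    show el e (iota1 x.v) x.c = 1 ∨ el e (iota1 x.v) x.c = z ∨ el e (iota1 x.v) x.c = xe e ∨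
      el e (iota1 x.v) x.c = xe e * z
    rw [sp1_const] at hn ⊢
    rcases z2_cases (x.v 0).2 with h2 | h2 <;> rw [h2] at hn ⊢
    · rw [zero_smul, add_zero] at hn ⊢
      rcases z2_cases (x.v 0).1 with h1 | h1 <;> rw [h1] at hn ⊢ <;>
        rcases z2_cases x.c with h0 | h0 <;> rw [h0] at hn ⊢
      · rw [zero_smul]; exact Or.inl Setup.el_zero
      · rw [zero_smul]; exact Or.inr (Or.inl S.el_one)
      · rw [one_smul]; exact Or.inr (Or.inr (Or.inl rfl))
      · rw [one_smul, show (1 : ZMod 2) = 0 + 1 by rw [zero_add], S.el_add_one]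
        exact Or.inr (Or.inr (Or.inr rfl))
    · exfalso
      rw [one_smul] at hn
      refine hqM ?_
      have hq0 : el e f0 x.c ∈ M → qe e ∈ M := fun h => by
        rcases z2_cases x.c with h0 | h0 <;> rw [h0] at h
        · exact h
        · rw [show (1 : ZMod 2) = 0 + 1 by rw [zero_add], S.el_add_one] at h
          have := mul_mem h hzM
          rwa [mul_assoc, hzz, mul_one] at this
      rcases z2_cases (x.v 0).1 with h1 | h1 <;> rw [h1] at hn
      · rw [zero_smul, zero_add] at hn; exact hq0 hn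
      · rw [one_smul] at hn
        have h := mul_mem hxM hn
        rw [xe, Setup.el_mul, ← add_assoc, show e0 + e0 = 0 by decide, zero_add] at h
        rcases z2_cases (0 + x.c + beta (ff 4) e0 (e0 + f0)) with h0 | h0 <;> rw [h0] at h
        · exact h
        · rw [show (1 : ZMod 2) = 0 + 1 by rw [zero_add], S.el_add_one] at h
          have := mul_mem h hzM
          rwa [mul_assoc, hzz, mul_one] at this
  have hfour : ∀ n : G, (n = 1 ∨ n = z ∨ n = xe e ∨ n = xe e * z) → n * z = z * n := by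
    rintro n (rfl | rfl | rfl | rfl)
    · rw [one_mul, mul_one]
    · rfl
    · exact hxzc
    · rw [mul_assoc, hzz, mul_one, ← mul_assoc, ← hxzc, mul_assoc, hzz, mul_one]
  have hall : ∀ n ∈ M, n * z = z * n := by
    refine hgrow fun n hn hnorm => ?_
    have himg : ∀ a, a ∈ M → a * z = z * a → a ≠ 1 →
        n * a * n⁻¹ = z ∨ n * a * n⁻¹ = xe e ∨ n * a * n⁻¹ = xe e * z := by
      intro a ha haz ha1
      rcases hcent _ (mul_mem (mul_mem hn ha) (inv_mem hn)) (hnorm a ha haz) with h | h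
      · exact absurd (conj_eq_one_iff.1 h) ha1
      · exact h
    have hxz1 : xe e * z ≠ 1 := fun h => hxz (by
      calc xe e = xe e * z * z := by rw [mul_assoc, hzz, mul_one]
        _ = z := by rw [h, one_mul])
    have hinj : ∀ a b, n * a * n⁻¹ = n * b * n⁻¹ → a = b := fun a b h =>
      mul_left_cancel (mul_right_cancel h)
    -- conjugates by `ρ`
    have hfixx : n * xe e * n⁻¹ = xe e → n * z = z * n := fun h => by
      have hm : ρ⁻¹ * n * ρ ∈ M := by
        have := hM ρ⁻¹ (inv_mem hρD) n hn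
        rwa [inv_inv] at this
      have hx' : xe e = ρ * z * ρ⁻¹ := T.rho_z.symm
      have hc : ρ⁻¹ * n * ρ * z = z * (ρ⁻¹ * n * ρ) := by
        rw [mul_inv_eq_iff_eq_mul, hx'] at h
        calc ρ⁻¹ * n * ρ * z = ρ⁻¹ * (n * (ρ * z * ρ⁻¹)) * ρ := by group
          _ = z * (ρ⁻¹ * n * ρ) := by rw [h]; group
      refine hfour n ?_
      have hn' : n = ρ * (ρ⁻¹ * n * ρ) * ρ⁻¹ := by group
      rcases hcent _ hm hc with h' | h' | h' | h' <;> rw [hn', h']
      · left; group
      · right; right; left; exact T.rho_z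
      · right; right; right; exact T.rho_x
      · right; left; exact rho_conj_x T
    have hfixxz : n * (xe e * z) * n⁻¹ = xe e * z → n * z = z * n := fun h => by
      have hm : ρ * n * ρ⁻¹ ∈ M := hM ρ hρD n hn
      have hc : ρ * n * ρ⁻¹ * z = z * (ρ * n * ρ⁻¹) := by
        rw [mul_inv_eq_iff_eq_mul] at h
        have hz' := rho_conj_x T
        calc ρ * n * ρ⁻¹ * z = ρ * n * ρ⁻¹ * (ρ * (xe e * z) * ρ⁻¹) := by rw [hz']
          _ = ρ * (n * (xe e * z)) * ρ⁻¹ := by group
          _ = (ρ * (xe e * z) * ρ⁻¹) * (ρ * n * ρ⁻¹) := by rw [h]; group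
          _ = z * (ρ * n * ρ⁻¹) := by rw [hz']
      refine hfour n ?_
      have hn' : n = ρ⁻¹ * (ρ * n * ρ⁻¹) * ρ := by group
      rcases hcent _ hm hc with h' | h' | h' | h' <;> rw [hn', h']
      · left; group
      · right; right; right
        calc ρ⁻¹ * z * ρ = ρ⁻¹ * (ρ * (xe e * z) * ρ⁻¹) * ρ := by rw [rho_conj_x T]
          _ = xe e * z := by group
      · right; left
        calc ρ⁻¹ * xe e * ρ = ρ⁻¹ * (ρ * z * ρ⁻¹) * ρ := by rw [T.rho_z]
          _ = z := by group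
      · right; right; left
        calc ρ⁻¹ * (xe e * z) * ρ = ρ⁻¹ * (ρ * xe e * ρ⁻¹) * ρ := by rw [T.rho_x]
          _ = xe e := by group
    have hz1 := S.pack.z_ne
    have hxzM : xe e * z ∈ M := mul_mem hxM hzM
    have hmul : n * (xe e * z) * n⁻¹ = (n * xe e * n⁻¹) * (n * z * n⁻¹) := by group
    have hcube : n ^ 3 * z * (n ^ 3)⁻¹ = z → n * z = z * n := fun h => by
      obtain ⟨k, hk⟩ := h3 n hn
      have hc : Commute (n ^ 3) z := mul_inv_eq_iff_eq_mul.1 h
      rw [← hk]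
      exact (hc.pow_left k).eq
    have hn3 : n ^ 3 * z * (n ^ 3)⁻¹ = n * (n * (n * z * n⁻¹) * n⁻¹) * n⁻¹ := by
      rw [pow_succ, pow_two]; group
    rcases himg z hzM rfl hz1 with ha | ha | ha
    · exact mul_inv_eq_iff_eq_mul.1 ha
    · rcases himg _ hxM hxzc hx1 with hb | hb | hb
      · refine hfixxz ?_
        rw [hmul, ha, hb, hxzc]
      · exact hfixx hb
      · refine hcube ?_
        rw [hn3, ha, hb, hmul, hb, ha, mul_assoc, ← hxzc, ← mul_assoc, hxx, one_mul]
    · rcases himg _ hxM hxzc hx1 with hb | hb | hb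
      · refine hcube ?_
        rw [hn3, ha, hmul, ha, hb, show z * (xe e * z) = xe e by
          rw [hxzc, ← mul_assoc, hzz, one_mul], hb]
      · exact hfixx hb
      · exact absurd (hinj _ _ (hb.trans ha.symm)) hxz
  -- the conjugate of `z` fixed by the complement
  set y := pt (Fin.castSucc (7 : Fin 8)) with hy
  have hyD : y ∈ D7 T := (mem_D7 T).2 fun σ hσ => by
    have h := N.act ⟨lam T σ, lam_mem_RR T σ⟩ (Fin.castSucc (7 : Fin 8))
    rw [N.lam_cast, hσ] at h
    exact mul_inv_eq_iff_eq_mul.1 h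
  obtain ⟨s, hs, hsy⟩ := N.transitive (Fin.castSucc (7 : Fin 8))
  rw [← hy] at hsy
  have hsq : Commute s (qe e) := (mem_RR.1 hs).1
  have hyq : y * qe e = qe e * y := by
    rw [← hsy]
    exact ((hsq.mul_left (show Commute z (qe e) from hqzc.symm)).mul_left hsq.inv_left).eq
  have hyy : y * y = 1 := by
    rw [← hsy, show s * z * s⁻¹ * (s * z * s⁻¹) = s * (z * z) * s⁻¹ by group, hzz]; group
  have hyi : y⁻¹ = y := inv_eq_of_mul_eq_one_right hyy
  have hm : y * z * y⁻¹ ∈ M := hM y hyD z hzM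
  have hmq : y * z * y⁻¹ * qe e = qe e * (y * z * y⁻¹) := by
    rw [hyi]
    exact (((show Commute y (qe e) from hyq).mul_left (show Commute z (qe e) from hqzc.symm)).mul_left
      hyq).eq
  have hne : xe e = xe e * z → False := fun h => S.pack.z_ne (left_eq_mul.1 h)
  have hyz : y * z = z * y := by
    rcases hcent _ hm (hall _ hm) with h | h | h | h
    · exact absurd (conj_eq_one_iff.1 h) S.pack.z_ne
    · exact mul_inv_eq_iff_eq_mul.1 h
    · exfalso
      rw [h] at hmq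
      refine hne ?_
      have h' : qe e * xe e * qe e = xe e := by
        rw [← hmq, mul_assoc, hqq, mul_one]
      exact h'.symm.trans hqx
    · exfalso
      rw [h] at hmq
      refine hne ?_
      have hxq : xe e * qe e = qe e * xe e := by
        have h4 : xe e * z * qe e = xe e * qe e * z := by rw [mul_assoc, ← hqzc, ← mul_assoc]
        rw [h4, ← mul_assoc] at hmq
        exact mul_right_cancel hmq
      have h' : qe e * xe e * qe e = xe e := by
        rw [← hxq, mul_assoc, hqq, mul_one]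
      exact h'.symm.trans hqx
  obtain ⟨x, hx⟩ := D7_cent_z T hyD hyz
  change el e (iota1 x.v) x.c = y at hx
  rw [sp1_const] at hx
  have hs0 : (x.v 0).1 = 0 := by
    have halt : alt ((x.v 0).1 • e0 + (x.v 0).2 • f0) f0 = (x.v 0).1 := by
      have : ∀ a b : ZMod 2, alt (a • e0 + b • f0) f0 = a := by decide +kernel
      exact this _ _
    rcases z2_cases (x.v 0).1 with h | h
    · exact h
    · exfalso
      have h' := S.el_comm ((x.v 0).1 • e0 + (x.v 0).2 • f0) f0 x.c 0
      rw [halt, h, S.el_one] at h'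
      rw [h] at hx
      rw [hx, show el e f0 0 = qe e from rfl, hyq] at h'
      exact S.pack.z_ne (mul_eq_right.1 h'.symm)
  rw [hs0, zero_smul, zero_add] at hx
  have hyz' : y ≠ z := fun h => by
    have := N.inj (show pt (Fin.castSucc (7 : Fin 8)) = pt (Fin.last 8) by rw [← hy, h, N.last])
    exact absurd this (by decide)
  have hy1 : y ≠ 1 := fun h => S.pack.z_ne (conj_eq_one_iff.1 (hsy.trans h))
  rcases z2_cases (x.v 0).2 with h | h <;> rw [h] at hx <;>
    rcases z2_cases x.c with h0 | h0 <;> rw [h0] at hx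
  · rw [zero_smul, Setup.el_zero] at hx; exact hy1 hx.symm
  · rw [zero_smul, S.el_one] at hx; exact hyz' hx.symm
  · rw [one_smul] at hx
    refine qe_ne_z (T := T) ?_
    calc qe e = s⁻¹ * (qe e) * s := by
          rw [mul_assoc, ← hsq.eq, inv_mul_cancel_left]
      _ = z := by
          rw [show qe e = y from hx, ← hsy]; group
  · rw [one_smul, show (1 : ZMod 2) = 0 + 1 by rw [zero_add], S.el_add_one] at hx
    refine conj_ne_zt (T := T) hs ?_
    rw [hsy, ← hx, ← hqzc]
    rfl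

theorem D7_card {pt : Fin 9 → G} {θ : ↥(RR e ρ) ≃* A9} (N : Nine T pt θ) (hq : HasOmega z Q) :
    Nat.card ↥(D7 T) = 168 := by
  classical
  have S := T.setup
  obtain ⟨hzD, hxD, hρD, hqD⟩ := gen_mem_D7 T
  haveI : Fact (Nat.Prime 3) := ⟨by norm_num⟩
  set X : Subgroup ↥(D7 T) := zpowers ⟨ρ, hρD⟩ with hX
  have hρo : orderOf (⟨ρ, hρD⟩ : ↥(D7 T)) = 3 := by rw [← orderOf_coe]; exact orderOf_rho T
  have hX3 : Nat.card ↥X = 3 := by rw [hX, Nat.card_zpowers, hρo]
  have hC : centralizer (X : Set ↥(D7 T)) = X := by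
    refine le_antisymm (fun g hg => ?_) (fun g hg => ?_)
    · have h := congrArg Subtype.val (mem_centralizer_iff.1 hg _ (mem_zpowers _))
      change ρ * g.1 = g.1 * ρ at h
      obtain ⟨i, hi⟩ := mem_zpowers_iff.1 (D7_cent_rho T N hq g.2 h.symm)
      exact mem_zpowers_iff.2 ⟨i, Subtype.ext hi⟩
    · refine mem_centralizer_iff.2 fun a ha => ?_
      obtain ⟨i, rfl⟩ := mem_zpowers_iff.1 ha
      obtain ⟨j, rfl⟩ := mem_zpowers_iff.1 hg
      rw [← zpow_add, ← zpow_add, add_comm]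
  have hρc : ∀ a : ↥(D7 T), ∀ M : Subgroup ↥(D7 T), M.Normal → a ∈ M →
      (⟨ρ, hρD⟩ : ↥(D7 T)) * a * (⟨ρ, hρD⟩ : ↥(D7 T))⁻¹ ∈ M := fun a M hM ha => hM.conj_mem a ha _
  -- transfer to the ambient group
  have htrans : ∀ M : Subgroup ↥(D7 T), M.Normal → (⟨z, hzD⟩ : ↥(D7 T)) ∈ M →
      (∀ n ∈ M, ∃ k : ℕ, (n ^ 3) ^ k = n) →
      (Group.IsNilpotent ↥M ∨ IsMulCommutative ↥M) → False := by
    intro M hMn hzM h3 hcases
    refine no_z_normal T N (M.map (D7 T).subtype) (map_subtype_le _) ?_ ⟨_, hzM, rfl⟩ ?_ ?_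
    · rintro d hd _ ⟨m, hm, rfl⟩
      exact ⟨⟨d, hd⟩ * m * ⟨d, hd⟩⁻¹, hMn.conj_mem m hm _, rfl⟩
    · rintro _ ⟨m, hm, rfl⟩
      obtain ⟨k, hk⟩ := h3 m hm
      exact ⟨k, by
        show ((m : G) ^ 3) ^ k = m
        rw [← SubmonoidClass.coe_pow, ← SubmonoidClass.coe_pow, hk]⟩
    · rintro h _ ⟨m, hm, rfl⟩
      show (m : G) * z = z * m
      set Cz : Subgroup ↥M := centralizer ({⟨⟨z, hzD⟩, hzM⟩} : Set ↥M) with hCz
      have hnorm : normalizer (Cz : Set ↥M) ≤ Cz := by
        intro n hn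
        refine mem_centralizer_singleton_iff.2 (Subtype.ext (Subtype.ext ?_))
        refine h _ ⟨n.1, n.2, rfl⟩ ?_
        rintro _ ⟨a, ha, rfl⟩ haz
        have h1 : (⟨a, ha⟩ : ↥M) ∈ Cz :=
          mem_centralizer_singleton_iff.2 (Subtype.ext (Subtype.ext haz))
        have h2 := (mem_normalizer_iff.1 hn _).1 h1
        exact congrArg (fun x : ↥M => (x.1 : G)) (mem_centralizer_singleton_iff.1 h2)
      have htop : Cz = ⊤ := by
        rcases hcases with hnil | hcomm
        · by_contra hne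
          haveI := hnil
          exact absurd hnorm (Group.normalizerCondition_of_isNilpotent _ (lt_top_iff_ne_top.2 hne)).not_ge
        · refine eq_top_iff.2 fun x _ => ?_
          haveI := hcomm
          exact mem_centralizer_singleton_iff.2 (mul_comm' x _)
      have := mem_centralizer_singleton_iff.1 (htop ▸ mem_top (⟨m, hm⟩ : ↥M))
      exact congrArg (fun x : ↥M => (x.1 : G)) this
  have hzz := S.pack.z_mul_z
  rcases Cfsg.Agent.S3331.result X hX3 hC with ⟨M, hMn, hnil, hcop, hquot⟩ | ⟨M, hMn, hcomm, hexp, ⟨ψ⟩⟩ | ⟨⟨ψ⟩⟩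
  · exfalso
    obtain ⟨-, hxx, -, -, -, -, -⟩ := S.xe_facts
    set π := QuotientGroup.mk' M
    set zz : ↥(D7 T) := ⟨z, hzD⟩
    set xx : ↥(D7 T) := ⟨xe e, hxD⟩
    have hz2 : π zz * π zz = 1 := by
      rw [← map_mul, show zz * zz = 1 from Subtype.ext hzz, map_one]
    have hx2 : π xx * π xx = 1 := by
      rw [← map_mul, show xx * xx = 1 from Subtype.ext hxx, map_one]
    have hcm : π zz * π xx = π xx * π zz := by
      rw [← map_mul, ← map_mul]
      exact congrArg π (Subtype.ext (S.pack.comm_z S.xe_facts.1).symm)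
    have hor : π zz = 1 ∨ π xx = 1 ∨ π zz * π xx = 1 := by
      rcases hquot with h | ⟨⟨ψ⟩⟩
      · left
        have h' : π zz ^ 3 = 1 := h ▸ pow_card_eq_one'
        rwa [pow_succ, pow_two, hz2, one_mul] at h'
      · have := s3_four (ψ (π zz)) (ψ (π xx)) (by rw [← map_mul, hz2, map_one])
          (by rw [← map_mul, hx2, map_one])
          ((map_mul ψ _ _).symm.trans ((congrArg ψ hcm).trans (map_mul ψ _ _)))
        rwa [← map_mul, map_eq_one_iff _ ψ.injective, map_eq_one_iff _ ψ.injective,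
          map_eq_one_iff _ ψ.injective] at this
    have hzM : zz ∈ M := by
      have hmem : ∀ g : ↥(D7 T), π g = 1 → g ∈ M := fun g h => (QuotientGroup.eq_one_iff g).1 h
      rcases hor with h | h | h
      · exact hmem _ h
      · have h' := hρc _ M hMn (hρc _ M hMn (hmem _ h))
        convert h' using 1
        refine Subtype.ext ?_
        show z = ρ * (ρ * xe e * ρ⁻¹) * ρ⁻¹
        rw [T.rho_x, rho_conj_x T]
      · rw [← map_mul] at h
        have h' := hρc _ M hMn (hmem _ h)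
        convert h' using 1
        refine Subtype.ext ?_
        show z = ρ * (z * xe e) * ρ⁻¹
        rw [← S.pack.comm_z S.xe_facts.1, rho_conj_x T]
    refine htrans M hMn hzM (fun n hn => ?_) (Or.inl hnil)
    have hd : orderOf n ∣ Nat.card ↥M := M.orderOf_dvd_natCard hn
    exact exists_pow_eq_self_of_coprime (Nat.Coprime.coprime_dvd_left hd hcop).symm
  · exfalso
    have hexp' : ∀ n ∈ M, n * n = 1 := fun n hn => by rw [← pow_two]; exact hexp n hn
    by_cases hzM : (⟨z, hzD⟩ : ↥(D7 T)) ∈ M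
    · exact htrans M hMn hzM (fun n hn => ⟨1, by rw [pow_one, pow_succ, hexp n hn, one_mul]⟩)
        (Or.inr hcomm)
    · -- no element of `M` commutes with `z`
      have hM1 : ∀ n ∈ M, (n : G) * z = z * n → n = 1 := by
        intro n hn hnz
        obtain ⟨x, hx⟩ := D7_cent_z T n.2 hnz
        change el e (iota1 x.v) x.c = (n : G) at hx
        by_contra hn1
        have hv : iota1 x.v ≠ 0 := fun h => by
          rw [h] at hx
          rcases z2_cases x.c with h0 | h0 <;> rw [h0] at hx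
          · rw [Setup.el_zero] at hx; exact hn1 (Subtype.ext hx.symm)
          · rw [S.el_one] at hx; exact hzM ((Subtype.ext hx.symm : n = ⟨z, hzD⟩) ▸ hn)
        obtain ⟨a, b, hab⟩ : ∃ a b : ZMod 2, alt (a • e0 + b • f0) (iota1 x.v) = 1 := by
          have : ∀ w : Sp 1, iota1 w ≠ 0 → ∃ a b : ZMod 2, alt (a • e0 + b • f0) (iota1 w) = 1 := by
            decide +kernel
          exact this _ hv
        set c : ↥(D7 T) := ⟨el e (a • e0 + b • f0) 0, el_plane_mem T a b 0⟩
        have hcn : (c : G) * n = z * ((n : G) * c) := by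
          show el e (a • e0 + b • f0) 0 * (n : G) = z * ((n : G) * el e (a • e0 + b • f0) 0)
          rw [← hx, S.el_comm, hab, S.el_one]
        refine hzM ?_
        have : c * n * c⁻¹ * n⁻¹ = ⟨z, hzD⟩ := Subtype.ext (by
          show (c : G) * n * (c : G)⁻¹ * (n : G)⁻¹ = z
          rw [hcn]; group)
        rw [← this]
        exact mul_mem (hMn.conj_mem n hn c) (inv_mem hn)
      have hbot : M = ⊥ := by
        refine (Subgroup.eq_bot_iff_forall M).2 fun n hn => ?_
        set zz : ↥(D7 T) := ⟨z, hzD⟩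
        have hzzz : zz * zz = 1 := Subtype.ext hzz
        have hzi : zz⁻¹ = zz := inv_eq_of_mul_eq_one_right hzzz
        have hm : zz * n * zz ∈ M := by have := hMn.conj_mem n hn zz; rwa [hzi] at this
        have hc := hcomm.is_comm.comm ⟨n, hn⟩ ⟨_, hm⟩
        have hc' : n * (zz * n * zz) = zz * n * zz * n := congrArg Subtype.val hc
        have h1 : n * (zz * n * zz) = 1 := hM1 _ (mul_mem hn hm) (congrArg Subtype.val (by
          calc n * (zz * n * zz) * zz = n * zz * n * (zz * zz) := by group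
            _ = (zz * zz) * n * zz * n := by rw [hzzz, one_mul, mul_one]
            _ = zz * (zz * n * zz * n) := by group
            _ = zz * (n * (zz * n * zz)) := by rw [hc']))
        refine hM1 n hn ?_
        refine congrArg (fun x : ↥(D7 T) => (x : G)) (show n * zz = zz * n from ?_)
        have h2 : zz * n * zz = n := (eq_inv_of_mul_eq_one_right h1).trans
          (inv_eq_of_mul_eq_one_right (hexp' n hn))
        calc n * zz = zz * n * zz * zz := by rw [h2]
          _ = zz * n := by rw [mul_assoc, hzzz, mul_one]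
      have h60 : Nat.card ↥(D7 T) = 60 := by
        have h := M.card_eq_card_quotient_mul_card_subgroup
        rw [Nat.card_congr ψ.toEquiv, hbot, card_bot, mul_one, nat_card_alternatingGroup,
          Nat.card_fin] at h
        exact h
      have := card_dvd_of_le (plane_le T)
      rw [card_plane T, h60] at this
      exact absurd this (by decide)
  · rw [Nat.card_congr ψ.toEquiv]
    haveI : Fact (Nat.Prime 7) := ⟨by norm_num⟩
    exact CfsgLib.Classical.card_psl_two_eq (ZMod.card 7) 168 (by norm_num)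

/-- An element of order seven normalised by `ρ`. -/
structure Vee (T : Tri z Q e ρ) (v : G) : Prop where
  mem : v ∈ D7 T
  ord : orderOf v = 7
  conj : ρ * v * ρ⁻¹ = v ^ 2
  gen : ∀ K : Subgroup G, v ∈ K → ρ ∈ K → qe e ∈ K → D7 T ≤ K

theorem exists_vee {pt : Fin 9 → G} {θ : ↥(RR e ρ) ≃* A9} (N : Nine T pt θ) (hq : HasOmega z Q) :
    ∃ v, Vee T v := by
  classical
  haveI : Fact (Nat.Prime 7) := ⟨by norm_num⟩
  haveI : Fact (Nat.Prime 3) := ⟨by norm_num⟩
  obtain ⟨hzD, hxD, hρD, hqD⟩ := gen_mem_D7 T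
  have hcard := D7_card T N hq
  have hcnt : ∀ (H : Subgroup G) (P : Sylow 7 ↥H), Nat.card ↥H ∣ 168 →
      Nat.card (Sylow 7 ↥H) = 1 ∨ Nat.card (Sylow 7 ↥H) = 8 := by
    intro H P hH
    have h1 := card_sylow_modEq_one 7 ↥H
    have h2 : Nat.card (Sylow 7 ↥H) ∣ 168 :=
      (Sylow.card_dvd_index P).trans ((Subgroup.index_dvd_card _).trans hH)
    have key : ∀ n ∈ Nat.divisors 168, n % 7 = 1 → n = 1 ∨ n = 8 := by decide +kernel
    exact key _ (Nat.mem_divisors.2 ⟨h2, by norm_num⟩) h1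
  obtain ⟨P0⟩ : Nonempty (Sylow 7 ↥(D7 T)) := inferInstance
  set X : Subgroup ↥(D7 T) := zpowers ⟨ρ, hρD⟩ with hX
  have hXp : IsPGroup 3 ↥X := IsPGroup.of_card (n := 1) (by
    rw [hX, Nat.card_zpowers, ← orderOf_coe, orderOf_rho T, pow_one])
  obtain ⟨P, hP⟩ := hXp.nonempty_fixed_point_of_prime_not_dvd_card (Sylow 7 ↥(D7 T)) (by
    rcases hcnt _ P0 (dvd_of_eq hcard) with h | h <;> rw [h] <;> decide)
  have hPn : (⟨ρ, hρD⟩ : ↥(D7 T)) ∈ normalizer ((P : Subgroup ↥(D7 T)) : Set ↥(D7 T)) :=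
    Sylow.smul_eq_iff_mem_normalizer.1 (hP ⟨_, mem_zpowers _⟩)
  have hP7 : Nat.card ↥(P : Subgroup ↥(D7 T)) = 7 := by
    rw [P.card_eq_multiplicity, hcard]
    have : (Nat.factorization 168) 7 = 1 := by
      rw [← Nat.primeFactorsList_count_eq,
        show Nat.primeFactorsList 168 = [2, 2, 2, 3, 7] by norm_num [Nat.primeFactorsList]]
      rfl
    rw [this, pow_one]
  obtain ⟨w0, hw0⟩ := exists_prime_orderOf_dvd_card' (G := ↥(P : Subgroup ↥(D7 T))) 7 (by rw [hP7])
  set w : G := ((w0 : ↥(D7 T)) : G) with hwdef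
  have hwo : orderOf w = 7 := by rw [hwdef, Subgroup.orderOf_coe, Subgroup.orderOf_coe, hw0]
  have hgen : ∀ a ∈ (P : Subgroup ↥(D7 T)), ∃ k : ℕ, k < 7 ∧ w ^ k = (a : G) := by
    intro a ha
    have hz : (⟨a, ha⟩ : ↥(P : Subgroup ↥(D7 T))) ∈ zpowers w0 := by
      rw [eq_top_of_card_eq (zpowers w0) (by rw [Nat.card_zpowers, hw0, hP7])]; trivial
    rw [mem_zpowers_iff_mem_range_orderOf] at hz
    obtain ⟨k, hk, hk'⟩ := Finset.mem_image.1 hz
    refine ⟨k, hw0 ▸ Finset.mem_range.1 hk, ?_⟩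
    have := congrArg (fun x : ↥(P : Subgroup ↥(D7 T)) => ((x : ↥(D7 T)) : G)) hk'
    simpa [hwdef] using this
  obtain ⟨k, hk7, hk⟩ := hgen _ ((mem_normalizer_iff.1 hPn _).1 w0.2)
  have hk' : ρ * w * ρ⁻¹ = w ^ k := hk.symm
  have hpow : ∀ n : ℕ, ρ ^ n * w * (ρ ^ n)⁻¹ = w ^ (k ^ n) := by
    intro n
    induction n with
    | zero => simp
    | succ n ih =>
      calc ρ ^ (n + 1) * w * (ρ ^ (n + 1))⁻¹ = ρ * (ρ ^ n * w * (ρ ^ n)⁻¹) * ρ⁻¹ := by
            rw [pow_succ']; group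
        _ = w ^ k ^ (n + 1) := by
            rw [ih, ← conj_pow, hk', ← pow_mul, pow_succ']
  have hρ3 : ρ ^ 3 = 1 := by rw [pow_succ, pow_two, T.rho3]
  have hw1 : w ≠ 1 := fun h => by rw [h, orderOf_one] at hwo; norm_num at hwo
  have hk24 : k = 2 ∨ k = 4 := by
    have h := hpow 3
    rw [hρ3, one_mul, inv_one, mul_one] at h
    have h' : k ^ 3 % 7 = 1 := by
      have := (pow_eq_pow_iff_modEq (x := w) (n := k ^ 3) (m := 1)).1 (by rw [← h, pow_one])
      rwa [hwo] at this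
    have hk1 : k ≠ 1 := fun h1 => by
      rw [h1, pow_one, mul_inv_eq_iff_eq_mul] at hk'
      have := D7_cent_rho T N hq (w0 : ↥(D7 T)).2 hk'.symm
      have hd := (zpowers ρ).orderOf_dvd_natCard this
      rw [Nat.card_zpowers, orderOf_rho T, hwo] at hd
      exact absurd hd (by decide)
    have key : ∀ k < 7, k ^ 3 % 7 = 1 → k ≠ 1 → k = 2 ∨ k = 4 := by decide
    exact key k hk7 h' hk1
  obtain ⟨hqq, hqi⟩ : qe e * qe e = 1 ∧ (qe e)⁻¹ = qe e :=
    ⟨T.setup.xe_facts.2.2.2.2.2.1, inv_eq_of_mul_eq_one_right T.setup.xe_facts.2.2.2.2.2.1⟩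
  obtain ⟨v, hvD, hvo, hv2⟩ : ∃ v, v ∈ D7 T ∧ orderOf v = 7 ∧ ρ * v * ρ⁻¹ = v ^ 2 := by
    rcases hk24 with rfl | rfl
    · exact ⟨w, (w0 : ↥(D7 T)).2, hwo, hk'⟩
    · refine ⟨qe e * w * (qe e)⁻¹, mul_mem (mul_mem hqD (w0 : ↥(D7 T)).2) (inv_mem hqD),
        ((SemiconjBy.conj_mk (qe e) w).orderOf_eq).symm.trans hwo, ?_⟩
      have h1 : ρ⁻¹ * w * ρ = w ^ 2 := by
        have h' : (ρ * w * ρ⁻¹) ^ 2 = ρ * w ^ 2 * ρ⁻¹ := conj_pow
        rw [hk', ← pow_mul, show 4 * 2 = 8 from rfl] at h'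
        have h8 : w ^ 8 = w := by
          rw [show (8 : ℕ) = 7 + 1 from rfl, pow_succ, ← hwo, pow_orderOf_eq_one, one_mul]
        rw [h8] at h'
        calc ρ⁻¹ * w * ρ = ρ⁻¹ * (ρ * w ^ 2 * ρ⁻¹) * ρ := by rw [← h']
          _ = w ^ 2 := by group
      have hρq : ρ * qe e = qe e * ρ⁻¹ := by
        calc ρ * qe e = (qe e * qe e) * ρ * qe e := by rw [hqq, one_mul]
          _ = qe e * (qe e * ρ * qe e) := by group
          _ = qe e * ρ⁻¹ := by rw [T.qrq]
      have hqρ : qe e * ρ⁻¹ = ρ * qe e := hρq.symm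
      rw [conj_pow, ← h1, hqi]
      calc ρ * (qe e * w * qe e) * ρ⁻¹ = (ρ * qe e) * w * (qe e * ρ⁻¹) := by group
        _ = qe e * ρ⁻¹ * w * (ρ * qe e) := by rw [hρq, ← hρq]
        _ = qe e * (ρ⁻¹ * w * ρ) * qe e := by group
  refine ⟨v, hvD, hvo, hv2, fun K hvK hρK hqK => ?_⟩
  set H := K ⊓ D7 T with hH
  have hHd : Nat.card ↥H ∣ 168 := hcard ▸ card_dvd_of_le inf_le_right
  obtain ⟨P1⟩ : Nonempty (Sylow 7 ↥H) := inferInstance
  have h7H : 7 ∣ Nat.card ↥H := hvo ▸ H.orderOf_dvd_natCard ⟨hvK, hvD⟩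
  have hP1 : Nat.card ↥(P1 : Subgroup ↥H) = 7 := by
    have h1 := P1.dvd_card_of_dvd_card h7H
    have h2 := (Subgroup.card_subgroup_dvd_card (P1 : Subgroup ↥H)).trans hHd
    obtain ⟨n, hn⟩ := IsPGroup.iff_card.1 P1.isPGroup'
    rw [hn] at h1 h2 ⊢
    have key : ∀ d ∈ Nat.divisors 168, 7 ∣ d → (∀ n, d = 7 ^ n → d = 7) := by
      intro d hd h7 n hdn
      match n with
      | 0 => rw [hdn] at h7; norm_num at h7
      | 1 => exact hdn.trans (pow_one 7)
      | n + 2 =>
        have h49 : 49 ∣ d := hdn ▸ ⟨7 ^ n, by rw [pow_add]; ring⟩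
        exact absurd (h49.trans (Nat.dvd_of_mem_divisors hd)) (by decide)
    exact key _ (Nat.mem_divisors.2 ⟨h2, by norm_num⟩) h1 n rfl
  rcases hcnt _ P1 hHd with h1 | h8
  · exfalso
    haveI := (Nat.card_eq_one_iff_unique.1 h1).1
    haveI hnP : (P1 : Subgroup ↥H).Normal := P1.normal_of_subsingleton
    set vv : ↥H := ⟨v, hvK, hvD⟩
    have hvP : vv ∈ (P1 : Subgroup ↥H) := by
      obtain ⟨P2, hP2⟩ := (IsPGroup.of_card (p := 7) (n := 1) (G := ↥(zpowers vv)) (by
        rw [Nat.card_zpowers, ← orderOf_coe, pow_one]; exact hvo)).exists_le_sylow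
      rw [Subsingleton.elim P1 P2]
      exact hP2 (mem_zpowers _)
    have hPz : (P1 : Subgroup ↥H) = zpowers vv := (eq_of_le_of_card_ge (zpowers_le.2 hvP) (by
      rw [hP1, Nat.card_zpowers, ← orderOf_coe]; exact hvo.ge)).symm
    have hc := hnP.conj_mem vv hvP ⟨qe e, hqK, hqD⟩
    rw [hPz] at hc
    obtain ⟨l, hl⟩ := mem_zpowers_iff.1 hc
    have hl' : qe e * v * qe e = v ^ l := by
      have := congrArg Subtype.val hl
      rw [SubgroupClass.coe_zpow] at this
      rw [show qe e * v * qe e = qe e * v * (qe e)⁻¹ by rw [hqi]]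
      exact this.symm
    have hv7 : v ^ (7 : ℤ) = 1 := by
      rw [show (7 : ℤ) = ((7 : ℕ) : ℤ) from rfl, zpow_natCast, ← hvo, pow_orderOf_eq_one]
    -- `ρ` would act as its inverse
    have hρv : ∀ m : ℤ, ρ * v ^ m * ρ⁻¹ = v ^ (2 * m) := fun m => by
      rw [← conj_zpow, hv2, ← zpow_natCast, ← zpow_mul]; rfl
    have e1 : qe e * (ρ * v * ρ⁻¹) * qe e = v ^ (2 * l) := by
      rw [hv2, pow_two, show qe e * (v * v) * qe e = qe e * v * (qe e * qe e) * v * qe e by
        rw [hqq]; group, show qe e * v * (qe e * qe e) * v * qe e = qe e * v * qe e * (qe e * v * qe e) by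
        group, hl', ← zpow_add]
      congr 1; ring
    have e2 : qe e * (ρ * v * ρ⁻¹) * qe e = ρ⁻¹ * v ^ l * ρ := by
      have hρi : qe e * ρ⁻¹ * qe e = ρ := by rw [← T.qrq]; rw [show qe e * (qe e * ρ * qe e) * qe e =
        (qe e * qe e) * ρ * (qe e * qe e) by group, hqq, one_mul, mul_one]
      calc qe e * (ρ * v * ρ⁻¹) * qe e
          = (qe e * ρ * qe e) * (qe e * v * qe e) * (qe e * ρ⁻¹ * qe e) := by
            rw [show (qe e * ρ * qe e) * (qe e * v * qe e) * (qe e * ρ⁻¹ * qe e) =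
              qe e * ρ * (qe e * qe e) * v * (qe e * qe e) * ρ⁻¹ * qe e by group, hqq]; group
        _ = _ := by rw [T.qrq, hl', hρi]
    have e3 : v ^ (3 * l) = 1 := by
      have h : ρ * v ^ (2 * l) * ρ⁻¹ = v ^ l := by rw [← e1, e2]; group
      rw [hρv] at h
      calc v ^ (3 * l) = v ^ (2 * (2 * l)) * (v ^ l)⁻¹ := by rw [← zpow_neg, ← zpow_add]; congr 1; ring
        _ = 1 := by rw [h, mul_inv_cancel]
    have e4 : v ^ l = 1 := by
      have : v ^ ((3 * l) * 5 + 7 * (-2 * l)) = v ^ l := by congr 1; ring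
      rw [← this, zpow_add, zpow_mul, e3, one_zpow, one_mul, zpow_mul, hv7, one_zpow]
    rw [e4] at hl'
    have : v = 1 := by
      calc v = qe e * (qe e * v * qe e) * qe e := by
            rw [show qe e * (qe e * v * qe e) * qe e = (qe e * qe e) * v * (qe e * qe e) by group, hqq,
              one_mul, mul_one]
        _ = 1 := by rw [hl', mul_one, hqq]
    rw [this, orderOf_one] at hvo
    norm_num at hvo
  · have h8d : 8 ∣ Nat.card ↥H := h8 ▸ (Sylow.card_dvd_index P1).trans (Subgroup.index_dvd_card _)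
    have h3d : 3 ∣ Nat.card ↥H := orderOf_rho T ▸ H.orderOf_dvd_natCard ⟨hρK, hρD⟩
    have h168 : 168 ∣ Nat.card ↥H := Nat.Coprime.mul_dvd_of_dvd_of_dvd (by norm_num : Nat.Coprime 24 7)
      (Nat.Coprime.mul_dvd_of_dvd_of_dvd (by norm_num : Nat.Coprime 8 3) h8d h3d) h7H
    have := eq_of_le_of_card_ge (show H ≤ D7 T from inf_le_right) (by
      rw [hcard]; exact Nat.le_of_dvd Nat.card_pos h168)
    exact this ▸ inf_le_left

end CfsgLib.StructB.CoA9
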