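import Cfsg.Agent.Lib.StructB.CoA9.Four
import Mathlib.GroupTheory.Sylow

/-!
The four-group of `L` in detail, and the non-existence of a further involution centralising `x'` and
`d`.
-/

set_option autoImplicit false
set_option maxRecDepth 20000
set_option synthInstance.maxSize 2000

namespace CfsgLib.StructB.CoA9

open Subgroup CfsgLib.Trans3.ExtraTwo CfsgLib.ClassK.Conway Equiv

local notation "A8" => alternatingGroup (Fin 8)

/-- The plane spanned by the singular pair. -/
def iota1 (w : Sp 1) : Sp 4 := (w 0).1 • e0 + (w 0).2 • f0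

theorem iota1_facts : (∀ v w : Sp 1, iota1 (v + w) = iota1 v + iota1 w ∧
    beta (ff 4) (iota1 v) (iota1 w) = beta (ff 1) v w) ∧ ∀ v, iota1 v = 0 → v = 0 := by
  decide +kernel

universe u

variable {G : Type u} [Group G] {z : G} {Q : Subgroup G} {e : ↥Q ≃* ES 4 (ff 4)} {ρ : G}
variable [Finite G] {T : Tri z Q e ρ} {L : Subgroup G}

/-- The map of the dihedral group of the plane. -/
noncomputable def planeHom (e : ↥Q ≃* ES 4 (ff 4)) : ES 1 (ff 1) →* G :=
  MonoidHom.mk' (fun x => el e (iota1 x.v) x.c) fun x y => by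
    rw [Setup.el_mul, mul_v, mul_c, (iota1_facts.1 x.v y.v).1, (iota1_facts.1 x.v y.v).2]

namespace FiveL

variable (F : FiveL T L)
include F

/-- An involution of `L` centralising `ρ` does not centralise `x'`. -/
theorem invol_move {w : G} (hw : w ∈ L) (h2 : w * w = 1) (h1 : w ≠ 1) (hr : w * ρ = ρ * w) :
    w * lam T sx ≠ lam T sx * w := fun h => by
  obtain ⟨J, _, _, χ, zJ, QJ, D, -, -, hx, hxz, hnr, -⟩ := F.three_config
  haveI : Fact (Nat.Prime 2) := ⟨Nat.prime_two⟩
  have ho : orderOf (χ ⟨w, hw⟩) = 2 := by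
    rw [MulEquiv.orderOf_eq, ← orderOf_coe]
    exact orderOf_eq_prime (by rw [pow_two, h2]) h1
  refine hnr ⟨χ ⟨w, hw⟩, (HJ.centZ_cent D hx hxz).2 _ ho ?_, ?_⟩
  · rw [← map_mul, ← map_mul]; exact congrArg χ (Subtype.ext h)
  · rw [← map_mul, ← map_mul]; exact congrArg χ (Subtype.ext hr)

/-- The four-group with the element fixed by `d`. -/
theorem exists_special : ∃ (E : Subgroup G) (w : G), Nat.card ↥E = 4 ∧ w ∈ E ∧ w ≠ 1 ∧
    E ≤ L ∧ Nat.card ↥(L ⊓ centralizer ({ρ} : Set G)) = 36 ∧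
    (∀ a ∈ E, a * a = 1 ∧ a * ρ = ρ * a ∧ a * qe e = qe e * a ∧ a * bb T = bb T * a ∧
      (a ≠ 1 → a * z ≠ z * a) ∧ lam T sx * a * (lam T sx)⁻¹ ∈ E) ∧
    (∀ a ∈ L, a * ρ = ρ * a → a * a = 1 → a ∈ E) ∧
    w * lam T sd = lam T sd * w := by
  classical
  obtain ⟨E, hE4, h36, hEle, hE2, hEz, hEmem⟩ := F.exists_four
  obtain ⟨hxb, hdx, hdb, hb5, hx3, -, -, -⟩ := small_facts
  have hEr : ∀ a ∈ E, a * ρ = ρ * a := fun a ha =>
    mem_centralizer_singleton_iff.1 (hEle ha).2
  have hEL : E ≤ L := hEle.trans inf_le_left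
  -- elements commuting with `ρ` and normalising `⟨b⟩` normalise `E`
  have hconj : ∀ g, g * ρ = ρ * g ∨ g * ρ = ρ⁻¹ * g → ∀ k : ℕ, g * bb T * g⁻¹ = bb T ^ k →
      Nat.Coprime k 5 → ∀ a ∈ E, g * a * g⁻¹ ∈ E := by
    intro g hgr k hgb hk a ha
    have hab : Commute a (bb T) := F.cent a (hEL ha)
    have h2 : g * a * g⁻¹ * (g * a * g⁻¹) = 1 := by
      rw [show g * a * g⁻¹ * (g * a * g⁻¹) = g * (a * a) * g⁻¹ by group, hE2 a ha]; group
    have hbk : Commute (g * a * g⁻¹) (bb T ^ k) := by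
      rw [← hgb]
      show g * a * g⁻¹ * (g * bb T * g⁻¹) = g * bb T * g⁻¹ * (g * a * g⁻¹)
      rw [show g * a * g⁻¹ * (g * bb T * g⁻¹) = g * (a * bb T) * g⁻¹ by group, hab.eq]; group
    have hb : Commute (g * a * g⁻¹) (bb T) := by
      obtain ⟨m, -, hm⟩ := Nat.exists_mul_mod_eq_one_of_coprime hk (by norm_num : 1 < 5)
      have : bb T = (bb T ^ k) ^ m := by
        rw [← pow_mul, ← Nat.mod_add_div (k * m) 5, hm, pow_add, pow_mul, ← orderOf_bb T,
          pow_orderOf_eq_one, one_pow, pow_one, mul_one]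
      rw [this]; exact hbk.pow_right m
    refine hEmem _ (F.mem _ hb 2 (by norm_num) (by rw [pow_two, h2])) ?_ h2
    have har : Commute a ρ := hEr a ha
    have key : Commute (g * a * g⁻¹) (g * ρ * g⁻¹) := by
      show g * a * g⁻¹ * (g * ρ * g⁻¹) = g * ρ * g⁻¹ * (g * a * g⁻¹)
      rw [show g * a * g⁻¹ * (g * ρ * g⁻¹) = g * (a * ρ) * g⁻¹ by group, har.eq]; group
    rcases hgr with h | h
    · rwa [h, mul_inv_cancel_right] at key
    · rw [h, mul_inv_cancel_right] at key
      exact inv_inv ρ ▸ key.inv_right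
  set x := lam T sx with hx
  set d := lam T sd with hd
  have hxE : ∀ a ∈ E, x * a * x⁻¹ ∈ E := fun a ha =>
    hconj x (Or.inl (lam_comm T sx).2.2.1) 1 (by
      rw [pow_one, hx, bb, ← map_mul, hxb, map_mul, mul_inv_cancel_right]) (by norm_num) a ha
  have hdE : ∀ a ∈ E, d * a * d⁻¹ ∈ E := fun a ha =>
    hconj d (Or.inl (lam_comm T sd).2.2.1) 2 (by
      rw [hd, bb, ← map_mul, hdb, map_mul, mul_inv_cancel_right, map_pow]) (by norm_num) a ha
  have hqE : ∀ a ∈ E, qe e * a * (qe e)⁻¹ ∈ E := fun a ha =>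
    hconj (qe e) (Or.inr (by
      calc qe e * ρ = qe e * ρ * (qe e * qe e) := by rw [T.setup.xe_facts.2.2.2.2.2.1, mul_one]
        _ = ρ⁻¹ * qe e := by rw [← mul_assoc, T.qrq])) 1 (by
      rw [pow_one, bb, ← (lam_comm T sb).2.2.2, mul_inv_cancel_right]) (by norm_num) a ha
  obtain ⟨a, ha, ha1⟩ : ∃ a ∈ E, a ≠ 1 := by
    by_contra h
    push Not at h
    have : Nat.card ↥E ≤ 1 := by
      rw [(Subgroup.eq_bot_iff_forall E).2 h, Subgroup.card_bot]
    omega
  have hmove : ∀ a ∈ E, a ≠ 1 → x * a * x⁻¹ ≠ a := fun a ha h1 h =>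
    F.invol_move (hEL ha) (hE2 a ha) h1 (hEr a ha) (by
      calc a * x = x * a * x⁻¹ * x := by rw [h]
        _ = x * a := inv_mul_cancel_right _ _)
  set a1 := x * a * x⁻¹ with ha1d
  set a2 := x * a1 * x⁻¹ with ha2d
  have hx3' : x * x * x = 1 := by rw [← pow_two, ← pow_succ, hx, ← map_pow, hx3, map_one]
  have hcyc : x * a2 * x⁻¹ = a := by
    calc x * a2 * x⁻¹ = (x * x * x) * a * (x * x * x)⁻¹ := by rw [ha2d, ha1d]; group
      _ = a := by rw [hx3']; group
  have hne0 : ∀ {b : G}, b ≠ 1 → x * b * x⁻¹ ≠ 1 := fun hb h => hb (conj_eq_one_iff.1 h)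
  have h01 : a1 ≠ a := hmove a ha ha1
  have h12 : a2 ≠ a1 := hmove a1 (hxE a ha) (hne0 ha1)
  have h20 : a2 ≠ a := fun h => h01 (by rw [ha1d, ← h, hcyc]; exact h.symm)
  have helems : ∀ w ∈ E, w = 1 ∨ w = a ∨ w = a1 ∨ w = a2 := by
    intro w hw
    by_contra hcon
    push Not at hcon
    obtain ⟨n1, n2, n3, n4⟩ := hcon
    haveI : Fintype ↥E := Fintype.ofFinite _
    have h5 : ({⟨w, hw⟩, 1, ⟨a, ha⟩, ⟨a1, hxE a ha⟩, ⟨a2, hxE _ (hxE a ha)⟩} : Finset ↥E).card ≤ 4 := by
      rw [← hE4, Nat.card_eq_fintype_card]; exact Finset.card_le_univ _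
    rw [Finset.card_insert_of_notMem, Finset.card_insert_of_notMem, Finset.card_insert_of_notMem,
      Finset.card_insert_of_notMem, Finset.card_singleton] at h5
    · omega
    all_goals simp [Subtype.ext_iff]
    · exact h12.symm
    · exact ⟨h01.symm, h20.symm⟩
    · exact ⟨Ne.symm ha1, (hne0 ha1).symm, (hne0 (hne0 ha1)).symm⟩
    · exact ⟨n1, n2, n3, n4⟩
  have hqfix : ∀ w ∈ E, w * qe e = qe e * w := by
    have hqx : ∀ b : G, qe e * (x * b * x⁻¹) * (qe e)⁻¹ = x * (qe e * b * (qe e)⁻¹) * x⁻¹ := by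
      intro b
      have hc : Commute (qe e) x := (lam_comm T sx).2.2.2.symm
      calc qe e * (x * b * x⁻¹) * (qe e)⁻¹ = (qe e * x) * b * (x⁻¹ * (qe e)⁻¹) := by group
        _ = (x * qe e) * b * ((qe e)⁻¹ * x⁻¹) := by rw [hc.eq, (hc.inv_inv).eq]
        _ = _ := by group
    have hq2 : (qe e)⁻¹ = qe e := inv_eq_of_mul_eq_one_right T.setup.xe_facts.2.2.2.2.2.1
    have hfa : qe e * a * (qe e)⁻¹ = a := by
      have h2 : qe e * (qe e * a * (qe e)⁻¹) * (qe e)⁻¹ = a := by
        rw [hq2, show qe e * (qe e * a * qe e) * qe e = (qe e * qe e) * a * (qe e * qe e) by group,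
          T.setup.xe_facts.2.2.2.2.2.1]
        group
      rcases helems _ (hqE a ha) with h | h | h | h
      · exact absurd (conj_eq_one_iff.1 h) ha1
      · exact h
      · rw [h, ha1d, hqx, h, ← ha2d] at h2; exact absurd h2 h20
      · rw [h, ha2d, hqx, ha1d, hqx, h, hcyc] at h2; exact absurd h2.symm h01.symm
    have hf1 : qe e * a1 * (qe e)⁻¹ = a1 := by rw [ha1d, hqx, hfa]
    have hf2 : qe e * a2 * (qe e)⁻¹ = a2 := by rw [ha2d, hqx, hf1]
    intro w hw
    rcases helems w hw with rfl | rfl | rfl | rfl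
    · simp
    exacts [(mul_inv_eq_iff_eq_mul.1 hfa).symm, (mul_inv_eq_iff_eq_mul.1 hf1).symm,
      (mul_inv_eq_iff_eq_mul.1 hf2).symm]
  -- a fixed point of `d`
  have hdconj : ∀ b : G, d * (x * b * x⁻¹) * d⁻¹ = x⁻¹ * (d * b * d⁻¹) * x := by
    intro b
    have h : d * x = x⁻¹ * d := by rw [hd, hx, ← map_mul, hdx, map_mul, map_inv]
    have h' : x⁻¹ * d⁻¹ = d⁻¹ * x := by
      rw [← mul_inv_rev, h, mul_inv_rev, inv_inv]
    calc d * (x * b * x⁻¹) * d⁻¹ = (d * x) * b * (x⁻¹ * d⁻¹) := by group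
      _ = _ := by rw [h, h']; group
  have hback : x⁻¹ * a1 * x = a ∧ x⁻¹ * a2 * x = a1 ∧ x⁻¹ * a * x = a2 := by
    refine ⟨by rw [ha1d]; group, by rw [ha2d]; group, ?_⟩
    conv_lhs => rw [← hcyc]
    group
  obtain ⟨w, hw, hw1, hdw⟩ : ∃ w ∈ E, w ≠ 1 ∧ d * w * d⁻¹ = w := by
    rcases helems _ (hdE a ha) with h | h | h | h
    · exact absurd (conj_eq_one_iff.1 h) ha1
    · exact ⟨a, ha, ha1, h⟩
    · refine ⟨a2, hxE _ (hxE a ha), hne0 (hne0 ha1), ?_⟩
      rw [ha2d, hdconj, ha1d, hdconj, h, hback.1, hback.2.2]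
    · refine ⟨a1, hxE a ha, hne0 ha1, ?_⟩
      rw [ha1d, hdconj, h, hback.2.1]
  exact ⟨E, w, hE4, hw, hw1, hEL, h36, fun b hb => ⟨hE2 b hb, hEr b hb, hqfix b hb,
    F.cent b (hEL hb), hEz b hb, hxE b hb⟩, hEmem, (mul_inv_eq_iff_eq_mul.1 hdw).symm⟩

/-- No further involution centralises `x'` and `d`. -/
theorem no_extra {s : G} (hs2 : s * s = 1) (hsb : s * bb T = bb T * s)
    (hsx : s * lam T sx = lam T sx * s) (hsd : s * lam T sd = lam T sd * s)
    (hsq : s * qe e = qe e * s) (hsz : s * z ≠ z * s) : False := by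
  classical
  haveI : Fact (Nat.Prime 3) := ⟨by norm_num⟩
  have S := T.setup
  obtain ⟨J, _, _, χ, zJ, QJ, D, -, hr, hx, hxz, hnr, -⟩ := F.three_config
  obtain ⟨h36, -, -⟩ := HJ.not_centZ_cent D hr hnr
  set D0 := L ⊓ centralizer ({lam T sx, lam T sd} : Set G) with hD0
  have hmemD : ∀ {g : G}, g ∈ L → g * lam T sx = lam T sx * g → g * lam T sd = lam T sd * g →
      g ∈ D0 := fun hg h1 h2 => ⟨hg, mem_centralizer_iff.2 (by
        rintro a (rfl | rfl)
        exacts [h1.symm, h2.symm])⟩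
  have hDx : ∀ g ∈ D0, g * lam T sx = lam T sx * g := fun g hg =>
    (mem_centralizer_iff.1 hg.2 _ (Or.inl rfl)).symm
  have hDd : ∀ g ∈ D0, g * lam T sd = lam T sd * g := fun g hg =>
    (mem_centralizer_iff.1 hg.2 _ (Or.inr rfl)).symm
  obtain ⟨hx1, hx2, hx3', hx4⟩ := lam_comm T sx
  obtain ⟨hd1, hd2, hd3', hd4⟩ := lam_comm T sd
  have hzD : z ∈ D0 := hmemD F.zL hx1.symm hd1.symm
  have hρD : ρ ∈ D0 := hmemD F.rhoL hx3'.symm hd3'.symm
  have hqD : qe e ∈ D0 := hmemD F.qeL hx4.symm hd4.symm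
  have hxD : xe e ∈ D0 := by rw [← T.rho_z]; exact mul_mem (mul_mem hρD hzD) (inv_mem hρD)
  have hsD : s ∈ D0 := hmemD (F.mem s hsb 2 (by norm_num) (by rw [pow_two, hs2])) hsx hsd
  -- eight divides
  have h8 : 8 ∣ Nat.card ↥D0 := by
    have hle : (planeHom e).range ≤ D0 := by
      rintro _ ⟨x, rfl⟩
      show el e (iota1 x.v) x.c ∈ D0
      have h0 : ∀ k, el e (0 : Sp 4) k ∈ D0 := fun k => by
        rcases z2_cases k with rfl | rfl
        · rw [Setup.el_zero]; exact one_mem _
        · rw [S.el_one]; exact hzD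
      have key : ∀ (v : Sp 4) (j k : ZMod 2), el e v j ∈ D0 → el e v k ∈ D0 := fun v j k h => by
        have := mul_mem h (h0 (j + k))
        rwa [Setup.el_mul, add_zero, beta_zero_right, add_zero,
          show j + (j + k) = k from (by decide : ∀ j k : ZMod 2, j + (j + k) = k) j k] at this
      rw [iota1]
      rcases z2_cases (x.v 0).1 with p | p <;> rcases z2_cases (x.v 0).2 with q | q <;> rw [p, q]
      · rw [zero_smul, zero_smul, add_zero]; exact h0 _
      · rw [zero_smul, one_smul, zero_add]; exact key _ 0 _ hqD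
      · rw [zero_smul, one_smul, add_zero]; exact key _ 0 _ hxD
      · rw [one_smul, one_smul]
        have := mul_mem (show el e e0 0 ∈ D0 from hxD) (show el e f0 0 ∈ D0 from hqD)
        rw [Setup.el_mul] at this
        exact key _ _ _ this
    have hinj : Function.Injective (planeHom e) := by
      rw [injective_iff_map_eq_one]
      intro x hx'
      obtain ⟨hv, hk⟩ := Setup.el_inj (e := e) (hx'.trans Setup.el_zero.symm)
      exact ES.ext (iota1_facts.2 _ hv) hk
    have := card_dvd_of_le hle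
    rwa [← Nat.card_congr (MonoidHom.ofInjective hinj).toEquiv, card_ES] at this
  -- the bound
  let χ' : ↥D0 →* J := χ.toMonoidHom.comp (inclusion inf_le_left)
  have hχ' : Function.Injective χ' := χ.injective.comp (inclusion_injective inf_le_left)
  set xb := χ ⟨lam T sx, F.xL⟩ with hxb
  obtain ⟨hC1080, -⟩ := HJ.centZ_cent D hx hxz
  have hcomm : ∀ g : ↥D0, Commute (χ' g) xb := fun g => by
    show χ _ * χ _ = χ _ * χ _
    rw [← map_mul, ← map_mul]
    exact congrArg χ (Subtype.ext (hDx g g.2))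
  have hfree : ∀ (g : ↥D0) (i : ℤ), (g : G) = lam T sx ^ i → (g : G) = 1 := by
    intro g i hg
    have hd := hDd g g.2
    rw [hg, ← map_zpow] at hd ⊢
    rw [← map_mul, ← map_mul] at hd
    obtain ⟨n, hn⟩ : ∃ n : ℕ, sx ^ i = sx ^ n := by
      have : sx ^ i ∈ Submonoid.powers sx :=
        mem_powers_iff_mem_zpowers.2 (zpow_mem (mem_zpowers sx) i)
      obtain ⟨n, hn⟩ := this
      exact ⟨n, hn.symm⟩
    have hn3 : sx ^ n = sx ^ (n % 3) := pow_eq_pow_mod n small_facts.2.2.2.2.1
    rw [hn, hn3] at hd ⊢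
    have := sd_free 0 ⟨n % 3, by omega⟩ (by simpa using (lam_injective T hd).symm)
    rw [show sx ^ (n % 3) = 1 by simpa using this, map_one]
  let ψ : ↥D0 × ↥(zpowers xb) →* ↥(centralizer ({xb} : Set J)) :=
    MonoidHom.mk' (fun p => ⟨χ' p.1 * p.2, mem_centralizer_singleton_iff.2 (by
      obtain ⟨i, hi⟩ := mem_zpowers_iff.1 p.2.2
      rw [← hi]
      exact ((hcomm p.1).mul_left ((Commute.refl xb).zpow_left i)).eq)⟩) fun p q => Subtype.ext (by
      show χ' (p.1 * q.1) * ((p.2 : J) * q.2) = χ' p.1 * p.2 * (χ' q.1 * q.2)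
      obtain ⟨i, hi⟩ := mem_zpowers_iff.1 p.2.2
      rw [map_mul, ← hi]
      have := ((hcomm q.1).zpow_right i).eq
      calc χ' p.1 * χ' q.1 * (xb ^ i * q.2) = χ' p.1 * (χ' q.1 * xb ^ i) * q.2 := by group
        _ = _ := by rw [this]; group)
  have hψ : Function.Injective ψ := by
    rw [injective_iff_map_eq_one]
    rintro ⟨g, p⟩ h
    have h1 : χ' g * (p : J) = 1 := congrArg Subtype.val h
    obtain ⟨i, hi⟩ := mem_zpowers_iff.1 p.2
    have h2 : χ' g = xb ^ (-i) := by
      rw [eq_inv_of_mul_eq_one_left h1, ← hi, zpow_neg]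
    have h3 : (g : G) = 1 := hfree g (-i) (by
      have h' : χ (inclusion inf_le_left g) = χ ((⟨lam T sx, F.xL⟩ : ↥L) ^ (-i)) := by
        rw [map_zpow]; exact h2
      have h'' := congrArg Subtype.val (χ.injective h')
      rw [SubgroupClass.coe_zpow] at h''
      exact h'')
    have hg1 : g = 1 := Subtype.ext h3
    rw [hg1, map_one, one_mul] at h1
    exact Prod.ext hg1 (Subtype.ext h1)
  have h360 : Nat.card ↥D0 ∣ 360 := by
    have h := card_dvd_of_injective ψ hψ
    rw [Nat.card_prod, Nat.card_zpowers, hx, hC1080] at h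
    exact Nat.dvd_of_mul_dvd_mul_right (by norm_num : 0 < 3) (show Nat.card ↥D0 * 3 ∣ 360 * 3 from h)
  have h9 : ¬ 9 ∣ Nat.card ↥D0 := by
    intro h9
    obtain ⟨P, hP⟩ := Sylow.exists_subgroup_card_pow_prime (G := ↥D0) 3 (n := 2) (by simpa using h9)
    haveI : IsMulCommutative ↥P :=
      ⟨⟨fun a b => IsPGroup.commutative_of_card_eq_prime_sq hP a b⟩⟩
    let ψP : ↥P × ↥(zpowers xb) →* ↥(centralizer ({xb} : Set J)) :=
      ψ.comp (P.subtype.prodMap (MonoidHom.id _))
    have hψP : Function.Injective ψP := hψ.comp (P.subtype_injective.prodMap Function.injective_id)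
    set R := ψP.range.map (centralizer ({xb} : Set J)).subtype
    have hR : Nat.card ↥R = 27 := by
      rw [card_map_of_injective (Subgroup.subtype_injective _),
        ← Nat.card_congr (MonoidHom.ofInjective hψP).toEquiv, Nat.card_prod, hP, Nat.card_zpowers, hx]
      rfl
    obtain ⟨k, r', -, -, -, -, -, -, -, -, -, U, hU27, -, -, hUes, -⟩ := HJ.three_data D
    obtain ⟨U', hU'⟩ := (IsPGroup.of_card (p := 3) (n := 3) (by rw [hR]; norm_num) :
      IsPGroup 3 ↥R).exists_le_sylow
    have hU'c : Nat.card ↥(U' : Subgroup J) = 27 := by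
      rw [Sylow.card_eq_multiplicity, ← Sylow.card_eq_multiplicity U]; exact hU27
    have hRU : R = (U' : Subgroup J) := eq_of_le_of_card_ge hU' (by rw [hU'c, hR])
    have hcommR : ∀ a ∈ R, ∀ b ∈ R, a * b = b * a := by
      rintro _ ⟨_, ⟨a, rfl⟩, rfl⟩ _ ⟨_, ⟨b, rfl⟩, rfl⟩
      rw [← map_mul, ← map_mul, ← map_mul, ← map_mul]
      congr 2
      refine Prod.ext (mul_comm' a.1 b.1) (Subtype.ext ?_)
      obtain ⟨i, hi⟩ := mem_zpowers_iff.1 a.2.2
      obtain ⟨j, hj⟩ := mem_zpowers_iff.1 b.2.2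
      show (a.2 : J) * b.2 = b.2 * a.2
      rw [← hi, ← hj]; exact zpow_mul_comm xb i j
    obtain ⟨c, hc⟩ := MulAction.exists_smul_eq J U' U
    have hall : ∀ a b : ↥(U : Subgroup J), a * b = b * a := by
      intro a b
      have ha : c⁻¹ * (a : J) * c ∈ R := by
        rw [hRU]
        have : (a : J) ∈ ((c • U' : Sylow 3 J) : Subgroup J) := by rw [hc]; exact a.2
        rw [Sylow.coe_subgroup_smul] at this
        obtain ⟨a', ha', e'⟩ := this
        rw [← e']
        show c⁻¹ * (c * a' * c⁻¹) * c ∈ _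
        rwa [show c⁻¹ * (c * a' * c⁻¹) * c = a' by group]
      have hb : c⁻¹ * (b : J) * c ∈ R := by
        rw [hRU]
        have : (b : J) ∈ ((c • U' : Sylow 3 J) : Subgroup J) := by rw [hc]; exact b.2
        rw [Sylow.coe_subgroup_smul] at this
        obtain ⟨a', ha', e'⟩ := this
        rw [← e']
        show c⁻¹ * (c * a' * c⁻¹) * c ∈ _
        rwa [show c⁻¹ * (c * a' * c⁻¹) * c = a' by group]
      refine Subtype.ext ?_
      show (a : J) * b = b * a
      calc (a : J) * b = c * ((c⁻¹ * a * c) * (c⁻¹ * b * c)) * c⁻¹ := by group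
        _ = c * ((c⁻¹ * b * c) * (c⁻¹ * a * c)) * c⁻¹ := by rw [hcommR _ ha _ hb]
        _ = b * a := by group
    have hcen : center ↥(U : Subgroup J) = ⊤ :=
      eq_top_iff.2 fun a _ => Subgroup.mem_center_iff.2 fun b => hall b a
    have := hUes.2
    rw [hcen, Subgroup.card_top, hU27] at this
    norm_num at this
  have h3 : 3 ∣ Nat.card ↥D0 := by
    have := D0.orderOf_dvd_natCard hρD
    rwa [orderOf_rho T] at this
  -- the centraliser of `ρ` in `D0`
  set ρ' : ↥D0 := ⟨ρ, hρD⟩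
  set M := centralizer ({ρ'} : Set ↥D0)
  have hM36 : Nat.card ↥M ∣ 36 := by
    rw [← h36, ← card_map_of_injective (K := M) hχ']
    refine card_dvd_of_le ?_
    rintro _ ⟨g, hg, rfl⟩
    refine mem_centralizer_singleton_iff.2 ?_
    show χ' g * χ' ρ' = χ' ρ' * χ' g
    rw [← map_mul, ← map_mul, mem_centralizer_singleton_iff.1 hg]
  have hModd : ¬ 2 ∣ Nat.card ↥M := by
    intro h2
    haveI : Fact (Nat.Prime 2) := ⟨Nat.prime_two⟩
    obtain ⟨w, hw⟩ := exists_prime_orderOf_dvd_card' (G := ↥M) 2 h2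
    have hw2 : w * w = 1 := by rw [← pow_two, ← hw, pow_orderOf_eq_one]
    have hw1 : ((w : ↥D0) : G) ≠ 1 := fun h => by
      rw [show w = 1 from Subtype.ext (Subtype.ext h), orderOf_one] at hw
      norm_num at hw
    exact F.invol_move w.1.2.1 (congrArg (fun t : ↥M => ((t : ↥D0) : G)) hw2) hw1
      (congrArg Subtype.val (mem_centralizer_singleton_iff.1 w.2)) (hDx _ w.1.2)
  have hM3 : Nat.card ↥M = 3 := by
    have hd := Nat.dvd_gcd hM36 (M.card_subgroup_dvd_card.trans h360)
    have h3M : 3 ∣ Nat.card ↥M := by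
      have := M.orderOf_dvd_natCard (x := ρ') (mem_centralizer_singleton_iff.2 rfl)
      rwa [← orderOf_coe, orderOf_rho T] at this
    have h9M : ¬ 9 ∣ Nat.card ↥M := fun h => h9 (h.trans M.card_subgroup_dvd_card)
    have hle := Nat.le_of_dvd (by norm_num) hM36
    interval_cases (Nat.card ↥M) <;> omega
  -- Sylow
  have h24 : Nat.card ↥D0 = 24 := by
    obtain ⟨P, hP⟩ := (IsPGroup.of_card (p := 3) (n := 1) (by
      rw [Nat.card_zpowers, ← orderOf_coe, orderOf_rho T]; norm_num) :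
      IsPGroup 3 ↥(zpowers ρ')).exists_le_sylow
    have hfac : Nat.factorization (Nat.card ↥D0) 3 = 1 := by
      have hpos : Nat.card ↥D0 ≠ 0 := Nat.card_pos.ne'
      have a1 : 1 ≤ Nat.factorization (Nat.card ↥D0) 3 :=
        (Nat.Prime.dvd_iff_one_le_factorization (by norm_num) hpos).1 h3
      have a2 : ¬ 2 ≤ Nat.factorization (Nat.card ↥D0) 3 := fun h =>
        h9 ((Nat.Prime.pow_dvd_iff_le_factorization (by norm_num) hpos).2 h)
      omega
    have hP3 : Nat.card ↥(P : Subgroup ↥D0) = 3 := by rw [P.card_eq_multiplicity, hfac]; rfl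
    have hPz : zpowers ρ' = (P : Subgroup ↥D0) := eq_of_le_of_card_ge hP (by
      rw [hP3, Nat.card_zpowers, ← orderOf_coe, orderOf_rho T])
    set q' : ↥D0 := ⟨qe e, hqD⟩
    set N := normalizer ((zpowers ρ' : Subgroup ↥D0) : Set ↥D0)
    have hqi : (qe e)⁻¹ = qe e := inv_eq_of_mul_eq_one_right S.xe_facts.2.2.2.2.2.1
    have hq' : q' * ρ' * q'⁻¹ = ρ'⁻¹ := Subtype.ext (by
      show qe e * ρ * (qe e)⁻¹ = ρ⁻¹
      rw [hqi, T.qrq])
    have hMN : M ≤ N := fun g hg => by
      refine mem_normalizer_iff.2 fun a => ?_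
      have hg' : Commute g ρ' := mem_centralizer_singleton_iff.1 hg
      constructor
      · intro ha
        obtain ⟨i, rfl⟩ := mem_zpowers_iff.1 ha
        rw [(hg'.zpow_right i).eq, mul_inv_cancel_right]
        exact zpow_mem (mem_zpowers _) i
      · intro ha
        obtain ⟨i, hi⟩ := mem_zpowers_iff.1 ha
        refine mem_zpowers_iff.2 ⟨i, ?_⟩
        calc ρ' ^ i = g⁻¹ * (g * ρ' ^ i) := by group
          _ = g⁻¹ * (ρ' ^ i * g) := by rw [(hg'.zpow_right i).eq]
          _ = a := by rw [hi]; group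
    have hN6 : Nat.card ↥N = 6 := by
      have hidx : M.relIndex N ≤ 2 := by
        refine Nat.le_of_not_lt fun h => ?_
        rw [Subgroup.relIndex, index_eq_card] at h
        let f : ↥N ⧸ M.subgroupOf N → ↥D0 := Quotient.lift (fun g : ↥N => (g : ↥D0) * ρ' * (g : ↥D0)⁻¹)
          fun a b hab => by
            have := mem_subgroupOf.1 (QuotientGroup.leftRel_apply.1 hab)
            have hc := mem_centralizer_singleton_iff.1 this
            calc (a : ↥D0) * ρ' * (a : ↥D0)⁻¹
                = (b : ↥D0) * ((((a⁻¹ * b : ↥N) : ↥D0))⁻¹ * (ρ' * ((a⁻¹ * b : ↥N) : ↥D0))) *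
                  (b : ↥D0)⁻¹ := by simp [mul_assoc]
              _ = _ := by rw [← hc, inv_mul_cancel_left]
        have hf : Function.Injective f := by
          intro a b
          induction a using Quotient.inductionOn
          induction b using Quotient.inductionOn
          rename_i a b
          intro hab
          refine Quotient.sound (QuotientGroup.leftRel_apply.2 (mem_subgroupOf.2
            (mem_centralizer_singleton_iff.2 ?_)))
          change (a : ↥D0) * ρ' * (a : ↥D0)⁻¹ = (b : ↥D0) * ρ' * (b : ↥D0)⁻¹ at hab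
          show (a : ↥D0)⁻¹ * b * ρ' = ρ' * ((a : ↥D0)⁻¹ * b)
          calc (a : ↥D0)⁻¹ * b * ρ' = (a : ↥D0)⁻¹ * ((b : ↥D0) * ρ' * (b : ↥D0)⁻¹) * b := by group
            _ = _ := by rw [← hab]; group
        have himg : ∀ a, f a ∈ ({ρ', ρ'⁻¹} : Set ↥D0) := by
          intro a
          induction a using Quotient.inductionOn with
          | _ g =>
            have hm : (g : ↥D0) * ρ' * (g : ↥D0)⁻¹ ∈ zpowers ρ' :=
              (mem_normalizer_iff.1 g.2 ρ').1 (mem_zpowers _)
            rcases CfsgLib.InvChar.HJType.mem_zpowers_three (by rw [← orderOf_coe]; exact orderOf_rho T)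
              hm with h | h | h
            · rw [conj_eq_one_iff] at h
              exact absurd (congrArg Subtype.val h) (rho_ne T)
            · exact Or.inl h
            · exact Or.inr h
        have h2 : Nat.card (↥N ⧸ M.subgroupOf N) ≤ Nat.card ↥({ρ', ρ'⁻¹} : Set ↥D0) :=
          Nat.card_le_card_of_injective (fun a => (⟨f a, himg a⟩ : ↥({ρ', ρ'⁻¹} : Set ↥D0)))
            fun a b hab => hf (congrArg Subtype.val hab)
        have h3' : Nat.card ↥({ρ', ρ'⁻¹} : Set ↥D0) ≤ 2 := by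
          rw [Nat.card_coe_set_eq]
          exact (Set.ncard_insert_le _ _).trans (by rw [Set.ncard_singleton])
        omega
      have hcard : M.relIndex N * Nat.card ↥M = Nat.card ↥N := by
        rw [← Nat.card_congr (subgroupOfEquivOfLe hMN).toEquiv, mul_comm]
        exact card_mul_index _
      have hqN : q' ∈ N := by
        refine mem_normalizer_iff.2 fun a => ?_
        have hq2 : q' * q' = 1 := Subtype.ext S.xe_facts.2.2.2.2.2.1
        have hfor : ∀ a ∈ zpowers ρ', q' * a * q'⁻¹ ∈ zpowers ρ' := by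
          intro a ha
          obtain ⟨i, rfl⟩ := mem_zpowers_iff.1 ha
          rw [← conj_zpow, hq']
          exact zpow_mem (inv_mem (mem_zpowers _)) i
        refine ⟨hfor a, fun ha => ?_⟩
        have := hfor _ ha
        rwa [inv_eq_of_mul_eq_one_right hq2,
          show q' * (q' * a * q') * q' = (q' * q') * a * (q' * q') by group, hq2, one_mul, mul_one] at this
      have h2 : 2 ∣ Nat.card ↥N := by
        have h := N.orderOf_dvd_natCard hqN
        haveI : Fact (Nat.Prime 2) := ⟨Nat.prime_two⟩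
        have hq'o : orderOf (q' : G) = 2 := orderOf_eq_prime
          (by rw [pow_two]; exact S.xe_facts.2.2.2.2.2.1)
          (fun h => absurd (Setup.el_inj (e := e) (h.trans Setup.el_zero.symm)).1 (by decide))
        rwa [← orderOf_coe, hq'o] at h
      rw [hM3] at hcard
      have hNpos := Nat.card_pos (α := ↥N)
      omega
    have hn := card_sylow_modEq_one 3 ↥D0
    rw [Sylow.card_eq_index_normalizer P] at hn
    change (normalizer ((P : Subgroup ↥D0) : Set ↥D0)).index ≡ 1 [MOD 3] at hn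
    rw [← hPz] at hn
    change N.index ≡ 1 [MOD 3] at hn
    have hidx := N.card_mul_index
    rw [hN6] at hidx
    obtain ⟨k, hk⟩ := h8
    have hle := Nat.le_of_dvd (by norm_num) h360
    unfold Nat.ModEq at hn
    obtain ⟨m, hm⟩ := h360
    have : k ≤ 45 := by omega
    interval_cases k
    all_goals first
      | omega
      | (rw [hk] at hm; omega)
  -- the four-group is normal
  set V := closure ({z, xe e} : Set G)
  set D1 := closure ({z, xe e, qe e, ρ} : Set G)
  have hD1le : D1 ≤ D0 := (closure_le _).2 (by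
    rintro a (rfl | rfl | rfl | rfl) <;> assumption)
  have hzz := S.pack.z_mul_z
  have hxx := S.xe_facts.2.1
  have hzx : xe e * z = z * xe e := T.pair.comm
  have hgen : ∀ g ∈ D1, ∀ v, (v = z ∨ v = xe e ∨ v = xe e * z) →
      (g * v * g⁻¹ = z ∨ g * v * g⁻¹ = xe e ∨ g * v * g⁻¹ = xe e * z) := by
    intro g hg
    induction hg using closure_induction with
    | mem a ha =>
      have hq : qe e * xe e * (qe e)⁻¹ = xe e * z := by
        rw [inv_eq_of_mul_eq_one_right S.xe_facts.2.2.2.2.2.1]; exact S.xe_facts.2.2.2.2.2.2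
      have hqz : qe e * z * (qe e)⁻¹ = z := mul_inv_eq_iff_eq_mul.2 T.q_z
      have c1 : z * xe e * z⁻¹ = xe e := mul_inv_eq_iff_eq_mul.2 hzx.symm
      have c2 : xe e * z * (xe e)⁻¹ = z := mul_inv_eq_iff_eq_mul.2 hzx
      have hm : ∀ g : G, g * (xe e * z) * g⁻¹ = g * xe e * g⁻¹ * (g * z * g⁻¹) := fun g => by group
      rintro v (hv | hv | hv) <;> rcases ha with ha | ha | ha | ha <;> rw [hv, ha]
      · exact Or.inl (mul_inv_cancel_right _ _)
      · exact Or.inl c2
      · exact Or.inl hqz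
      · exact Or.inr (Or.inl T.rho_z)
      · exact Or.inr (Or.inl c1)
      · exact Or.inr (Or.inl (mul_inv_cancel_right _ _))
      · exact Or.inr (Or.inr hq)
      · exact Or.inr (Or.inr T.rho_x)
      · exact Or.inr (Or.inr (by rw [hm, c1, mul_inv_cancel_right]))
      · exact Or.inr (Or.inr (by rw [hm, mul_inv_cancel_right, c2]))
      · exact Or.inr (Or.inl (by rw [hm, hq, hqz, mul_assoc, hzz, mul_one]))
      · exact Or.inl T.rho_xz
    | one => intro v hv; simpa using hv
    | mul a b _ _ iha ihb =>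
      intro v hv
      rw [show a * b * v * (a * b)⁻¹ = a * (b * v * b⁻¹) * a⁻¹ by group]
      exact iha _ (ihb v hv)
    | inv a _ iha =>
      intro v hv
      have hper : ∀ n : ℕ, a ^ n * v * (a ^ n)⁻¹ = z ∨ a ^ n * v * (a ^ n)⁻¹ = xe e ∨
          a ^ n * v * (a ^ n)⁻¹ = xe e * z := by
        intro n
        induction n with
        | zero => simpa using hv
        | succ n ih =>
          rw [pow_succ', show a * a ^ n * v * (a * a ^ n)⁻¹ = a * (a ^ n * v * (a ^ n)⁻¹) * a⁻¹ by group]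
          exact iha _ ih
      have : a⁻¹ = a ^ (orderOf a - 1) := by
        refine inv_eq_of_mul_eq_one_right ?_
        rw [← pow_succ', Nat.sub_add_cancel (orderOf_pos a), pow_orderOf_eq_one]
      rw [this]; exact hper _
  have hD1 : D1 = D0 := by
    refine eq_of_le_of_card_ge hD1le ?_
    have h31 : 3 ∣ Nat.card ↥D1 := by
      have := D1.orderOf_dvd_natCard (x := ρ) (subset_closure (by simp))
      rwa [orderOf_rho T] at this
    have h81 : 8 ∣ Nat.card ↥D1 := by
      have hle : (planeHom e).range ≤ D1 := by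
        rintro _ ⟨x, rfl⟩
        show el e (iota1 x.v) x.c ∈ D1
        have hz1 : z ∈ D1 := subset_closure (by simp)
        have h0 : ∀ k, el e (0 : Sp 4) k ∈ D1 := fun k => by
          rcases z2_cases k with rfl | rfl
          · rw [Setup.el_zero]; exact one_mem _
          · rw [S.el_one]; exact hz1
        have key : ∀ (v : Sp 4) (j k : ZMod 2), el e v j ∈ D1 → el e v k ∈ D1 := fun v j k h => by
          have := mul_mem h (h0 (j + k))
          rwa [Setup.el_mul, add_zero, beta_zero_right, add_zero,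
            show j + (j + k) = k from (by decide : ∀ j k : ZMod 2, j + (j + k) = k) j k] at this
        have hx1' : el e e0 0 ∈ D1 := subset_closure (by simp [xe])
        have hq1' : el e f0 0 ∈ D1 := subset_closure (by simp [qe])
        rw [iota1]
        rcases z2_cases (x.v 0).1 with p | p <;> rcases z2_cases (x.v 0).2 with q | q <;> rw [p, q]
        · rw [zero_smul, zero_smul, add_zero]; exact h0 _
        · rw [zero_smul, one_smul, zero_add]; exact key _ 0 _ hq1'
        · rw [zero_smul, one_smul, add_zero]; exact key _ 0 _ hx1'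
        · rw [one_smul, one_smul]
          have := mul_mem hx1' hq1'
          rw [Setup.el_mul] at this
          exact key _ _ _ this
      have hinj : Function.Injective (planeHom e) := by
        rw [injective_iff_map_eq_one]
        intro x hx'
        obtain ⟨hv, hk⟩ := Setup.el_inj (e := e) (hx'.trans Setup.el_zero.symm)
        exact ES.ext (iota1_facts.2 _ hv) hk
      have := card_dvd_of_le hle
      rwa [← Nat.card_congr (MonoidHom.ofInjective hinj).toEquiv, card_ES] at this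
    rw [h24]
    exact Nat.le_of_dvd Nat.card_pos (Nat.Coprime.mul_dvd_of_dvd_of_dvd (by norm_num : Nat.Coprime 8 3) h81 h31)
  have hsi : s⁻¹ = s := inv_eq_of_mul_eq_one_right hs2
  rcases hgen s (hD1 ▸ hsD) z (Or.inl rfl) with h | h | h
  · exact hsz (mul_inv_eq_iff_eq_mul.1 h)
  all_goals
    have hfix : qe e * (s * z * s⁻¹) * (qe e)⁻¹ = s * z * s⁻¹ := by
      have h1 : Commute (qe e) s := hsq.symm
      have h2 : Commute (qe e) z := T.q_z
      exact mul_inv_eq_iff_eq_mul.2 ((h1.mul_right h2).mul_right h1.inv_right).eq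
    rw [h] at hfix
    have hq : qe e * xe e * (qe e)⁻¹ = xe e * z := by
      rw [inv_eq_of_mul_eq_one_right S.xe_facts.2.2.2.2.2.1]; exact S.xe_facts.2.2.2.2.2.2
  · rw [hq, mul_eq_left] at hfix
    exact S.pack.z_ne hfix
  · rw [show qe e * (xe e * z) * (qe e)⁻¹ = qe e * xe e * (qe e)⁻¹ * (qe e * z * (qe e)⁻¹) by group, hq,
      mul_inv_eq_iff_eq_mul.2 T.q_z, mul_assoc, hzz, mul_one] at hfix
    exact S.pack.z_ne (left_eq_mul.1 hfix)

end FiveL

end CfsgLib.StructB.CoA9
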