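import Cfsg.Agent.Lib.StructB.CoA9.Levi
import Cfsg.Agent.Lib.ClassK.ConwayReduce
import Cfsg.Agent.Lib.Trans3.ExtraTwoOut
import Cfsg.Agent.Lib.Trans3.LargeLinear

/-!
The element of order five of the complement: its fixed points on the extraspecial subgroup.
-/

set_option autoImplicit false
set_option maxRecDepth 20000
set_option synthInstance.maxSize 2000

namespace CfsgLib.StructB.CoA9

open Subgroup CfsgLib.Trans3.ExtraTwo CfsgLib.ClassK.Conway Equiv

/-- The five-cycle `(0 1 2 3 4)`. -/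
def sb : alternatingGroup (Fin 8) :=
  ⟨swap 0 1 * swap 1 2 * swap 2 3 * swap 3 4, by simp [Perm.mem_alternatingGroup]⟩

/-- The three-cycle `(5 6 7)`. -/
def sx : alternatingGroup (Fin 8) :=
  ⟨swap 5 6 * swap 6 7, by simp [Perm.mem_alternatingGroup]⟩

/-- The element `(1 2 4 3)(5 6)` normalising both. -/
def sd : alternatingGroup (Fin 8) :=
  ⟨swap 1 2 * swap 2 4 * swap 4 3 * swap 5 6, by simp [Perm.mem_alternatingGroup]⟩

/-- The embedding of the fixed space. -/
def iotaB (w : Sp 2) : Sp 4 :=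
  (w 1).1 • e0 + (w 1).2 • f0 + up ((w 0).1 • pairVec 5 6 + (w 0).2 • pairVec 5 7)

theorem iota_facts : (∀ v w : Sp 2, iotaB (v + w) = iotaB v + iotaB w ∧
    beta (ff 4) (iotaB v) (iotaB w) = beta (tMinus 1) v w) ∧
    (∀ v, iotaB v = 0 → v = 0) := by decide +kernel

theorem psi_sb_fix : (∀ a : P2, psi sb.1 (a.1 • pairVec 5 6 + a.2 • pairVec 5 7) =
    a.1 • pairVec 5 6 + a.2 • pairVec 5 7) ∧
    ∀ u : Sp 3, psi sb.1 u = u → ∃ a : P2, u = a.1 • pairVec 5 6 + a.2 • pairVec 5 7 := by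
  decide +kernel

theorem iota_rank : ∀ v w : Sp 2, beta (tMinus 1) v v = 0 → beta (tMinus 1) w w = 0 →
    alt v w = 0 → v = 0 ∨ w = 0 ∨ v = w := by decide +kernel

variable {G : Type*} [Group G] {z : G} {Q : Subgroup G} {e : ↥Q ≃* ES 4 (ff 4)} {ρ : G}
variable [Finite G] (T : Tri z Q e ρ)
include T

/-- The element of order five. -/
noncomputable def bb : G := lam T sb

theorem orderOf_bb : orderOf (bb T) = 5 := by
  haveI : Fact (Nat.Prime 5) := ⟨by norm_num⟩
  rw [bb, orderOf_injective _ (lam_injective T)]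
  refine orderOf_eq_prime ?_ ?_
  · apply Subtype.ext; apply Equiv.ext; decide
  · intro h; exact absurd (congrArg (fun σ : alternatingGroup (Fin 8) => σ.1 0) h) (by decide)

theorem act_bb (v : Sp 4) : ∃ (s t : ZMod 2) (u : Sp 3), v = s • e0 + t • f0 + up u ∧
    act e (bb T) v = s • e0 + t • f0 + up (psi sb.1 u) := by
  have hl := lam_lev T sb
  have hi := T.setup.act_isom (Tri.memH hl.1)
  obtain ⟨s, t, u, hv, -, -⟩ := decomp v
  refine ⟨s, t, u, hv, ?_⟩
  rw [bb, hv, hi.map_add, hi.map_add, smul_map hi, smul_map hi, T.act_e0 hl.1, (T.lev_act hl).1,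
    (T.lev_act hl).2, sig_lam]

theorem act_iota (w : Sp 2) : act e (bb T) (iotaB w) = iotaB w := by
  have hl := lam_lev T sb
  have hi := T.setup.act_isom (Tri.memH hl.1)
  rw [bb, iotaB, hi.map_add, hi.map_add, smul_map hi, smul_map hi, T.act_e0 hl.1,
    (T.lev_act hl).1, (T.lev_act hl).2, sig_lam, psi_sb_fix.1]

theorem bb_comm_el (w : Sp 2) (k : ZMod 2) :
    bb T * el e (iotaB w) k = el e (iotaB w) k * bb T := by
  have S := T.setup
  have hb : bb T ∈ centralizer ({z} : Set G) := Tri.memH (lam_lev T sb).1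
  obtain ⟨k', hk⟩ := S.conj_el hb (iotaB w) k
  rw [act_iota] at hk
  by_cases h : k' = k
  · subst h; exact mul_inv_eq_iff_eq_mul.1 hk
  have hk' : k' = k + 1 := (by decide : ∀ a b : ZMod 2, ¬ a = b → a = b + 1) _ _ h
  rw [hk', S.el_add_one] at hk
  set a := el e (iotaB w) k
  set b := bb T with hbdef
  have hbz : b * z * b⁻¹ = z := mul_inv_eq_iff_eq_mul.2 (mem_centralizer_singleton_iff.1 hb)
  have h2 : b ^ 2 * a * (b ^ 2)⁻¹ = a := by
    calc b ^ 2 * a * (b ^ 2)⁻¹ = b * (b * a * b⁻¹) * b⁻¹ := by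
          rw [pow_two, mul_inv_rev]; simp only [mul_assoc]
      _ = b * (a * z) * b⁻¹ := by rw [hk]
      _ = b * a * b⁻¹ * (b * z * b⁻¹) := by group
      _ = a := by rw [hk, hbz, mul_assoc, S.pack.z_mul_z, mul_one]
  have h6 : b = (b ^ 2) ^ 3 := by
    have h5 : b ^ 5 = 1 := orderOf_bb T ▸ pow_orderOf_eq_one b
    rw [← pow_mul, show 2 * 3 = 5 + 1 by rfl, pow_succ, h5, one_mul]
  rw [h6]
  exact ((show Commute (b ^ 2) a from mul_inv_eq_iff_eq_mul.1 h2).pow_left 3).eq

/-- The fixed points of the element of order five in the extraspecial subgroup. -/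
noncomputable def fixHom (e : ↥Q ≃* ES 4 (ff 4)) : ES 2 (tMinus 1) →* G :=
  MonoidHom.mk' (fun x => el e (iotaB x.v) x.c) fun x y => by
    rw [Setup.el_mul, mul_v, mul_c, (iota_facts.1 x.v y.v).1, (iota_facts.1 x.v y.v).2]

theorem fixHom_injective : Function.Injective (fixHom e) := by
  rw [injective_iff_map_eq_one]
  intro x hx
  obtain ⟨hv, hc⟩ := Setup.el_inj (e := e) (hx.trans Setup.el_zero.symm)
  exact ES.ext (iota_facts.2 _ hv) hc

theorem range_fixHom : (fixHom e).range = Q ⊓ centralizer ({bb T} : Set G) := by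
  refine le_antisymm ?_ ?_
  · rintro _ ⟨x, rfl⟩
    exact ⟨Setup.el_mem _ _, mem_centralizer_singleton_iff.2 (bb_comm_el T _ _).symm⟩
  · rintro q ⟨hq, hqb⟩
    obtain ⟨v, k, rfl⟩ := Setup.exists_el (e := e) hq
    have hact : act e (bb T) v = v :=
      T.setup.act_eq (Tri.memH (lam_lev T sb).1) (k := k) (k' := k)
        (mul_inv_eq_iff_eq_mul.2 (mem_centralizer_singleton_iff.1 hqb).symm)
    obtain ⟨s, t, u, hv, hbv⟩ := act_bb T v
    rw [hact, hv] at hbv
    have hu : psi sb.1 u = u := (up_inj (add_left_cancel hbv)).symm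
    obtain ⟨a, rfl⟩ := psi_sb_fix.2 u hu
    exact ⟨⟨![a, (s, t)], k⟩, by
      show el e (iotaB ![a, (s, t)]) k = el e v k
      rw [hv]
      rfl⟩

theorem fix_card : Nat.card ↥(Q ⊓ centralizer ({bb T} : Set G)) = 32 := by
  rw [← range_fixHom T, ← Nat.card_congr (MonoidHom.ofInjective (fixHom_injective T)).toEquiv,
    card_ES]
  rfl

theorem fix_extraspecial : Cfsg.IsExtraspecial 2 ↥(Q ⊓ centralizer ({bb T} : Set G)) :=
  CfsgLib.Trans3.LargeLinear.isExtraspecial_of_equiv
    ((MonoidHom.ofInjective (fixHom_injective T)).trans (MulEquiv.subgroupCongr (range_fixHom T)))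
    (isExtraspecial_ES (tMinus 1) (by norm_num))

theorem fix_rank {A : Subgroup G} (hA : A ≤ Q ⊓ centralizer ({bb T} : Set G))
    (hEA : Cfsg.IsElementaryAbelian 2 A) : Nat.card A ≤ 4 := by
  classical
  rw [← range_fixHom T] at hA
  set B := A.comap (fixHom e)
  have hB : B.map (fixHom e) = A := Subgroup.map_comap_eq_self hA
  rw [← hB, Subgroup.card_map_of_injective (fixHom_injective T)]
  have hsing : ∀ x ∈ B, beta (tMinus 1) x.v x.v = 0 := fun x hx => by
    have h := hEA.2 _ hx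
    rw [pow_two, ← map_mul, ← (fixHom e).map_one] at h
    have h' := congrArg ES.c (fixHom_injective T h)
    rwa [sq_eq] at h'
  have halt : ∀ x ∈ B, ∀ y ∈ B, alt x.v y.v = 0 := fun x hx y hy => by
    refine (comm_iff _ x y).1 (fixHom_injective T ?_)
    rw [map_mul, map_mul]
    exact congrArg Subtype.val (hEA.1.is_comm.comm ⟨_, hx⟩ ⟨_, hy⟩)
  obtain ⟨v0, hv0⟩ : ∃ v0, ∀ x ∈ B, x.v = 0 ∨ x.v = v0 := by
    by_cases h : ∃ x ∈ B, x.v ≠ 0
    · obtain ⟨x, hx, hx0⟩ := h
      refine ⟨x.v, fun y hy => ?_⟩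
      rcases iota_rank y.v x.v (hsing y hy) (hsing x hx) (halt y hy x hx) with h | h | h
      exacts [Or.inl h, absurd h hx0, Or.inr h]
    · push Not at h
      exact ⟨0, fun x hx => Or.inl (h x hx)⟩
  rw [Nat.card_eq_fintype_card, Fintype.card_subtype]
  refine (Finset.card_le_card (t := (({0, v0} : Finset (Sp 2)) ×ˢ Finset.univ).map
    (toPair (tMinus 1)).symm.toEmbedding) fun x hx => ?_).trans ?_
  · rw [Finset.mem_filter] at hx
    rw [Finset.mem_map]
    exact ⟨(x.v, x.c), by simpa using hv0 x hx.2, rfl⟩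
  · rw [Finset.card_map, Finset.card_product, Finset.card_univ, ZMod.card]
    have := Finset.card_insert_le (0 : Sp 2) ({v0} : Finset (Sp 2))
    rw [Finset.card_singleton] at this
    omega

end CfsgLib.StructB.CoA9
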