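import Cfsg.Agent.Lib.StructB.CoA9.Layer

/-!
The four-group centralising `b` and `ρ`, and the element carrying `ρ` to `ρx'`.
-/

set_option autoImplicit false
set_option maxRecDepth 20000
set_option synthInstance.maxSize 2000

namespace CfsgLib.StructB.CoA9

open Subgroup CfsgLib.Trans3.ExtraTwo CfsgLib.ClassK.Conway Equiv

local notation "A8" => alternatingGroup (Fin 8)

theorem small_facts : sx * sb = sb * sx ∧ sd * sx = sx⁻¹ * sd ∧ sd * sb = sb ^ 2 * sd ∧
    sb ^ 5 = 1 ∧ sx ^ 3 = 1 ∧ sd ^ 4 = 1 ∧ sx ≠ 1 ∧ sb ∈ K567 := by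
  refine ⟨?_, ?_, ?_, ?_, ?_, ?_, ?_, ⟨?_, ?_, ?_⟩⟩
  any_goals exact Subtype.ext (Equiv.ext (by decide))
  any_goals decide

/-- Powers of the two commuting cycles meet the centraliser of `sd` trivially. -/
theorem sd_free : ∀ i j : Fin 15, sd * (sb ^ i.1 * sx ^ j.1) = sb ^ i.1 * sx ^ j.1 * sd →
    sb ^ i.1 * sx ^ j.1 = 1 := by decide +kernel

/-- An even involution centralising the five-cycle is trivial. -/
theorem invol_cent_sb (σ : A8) (h2 : σ * σ = 1) (key : ∀ i, σ.1 (sb.1 i) = sb.1 (σ.1 i)) :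
    σ = 1 := by
  have hinv : ∀ i, σ.1 (σ.1 i) = i := fun i => Equiv.congr_fun (congrArg Subtype.val h2) i
  have hsb : sb.1 0 = 1 ∧ sb.1 1 = 2 ∧ sb.1 2 = 3 ∧ sb.1 3 = 4 ∧ sb.1 4 = 0 ∧ sb.1 5 = 5 ∧
      sb.1 6 = 6 ∧ sb.1 7 = 7 := by decide
  obtain ⟨h0, h1, h2', h3, h4, h5, h6, h7⟩ := hsb
  have hmv : sb.1 (σ.1 0) ≠ σ.1 0 := fun e => by
    rw [← key, h0] at e
    exact absurd (σ.1.injective e) (by decide)
  have e1 : σ.1 1 = sb.1 (σ.1 0) := by rw [← key, h0]
  have e2 : σ.1 2 = sb.1 (σ.1 1) := by rw [← key, h1]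
  have e3 : σ.1 3 = sb.1 (σ.1 2) := by rw [← key, h2']
  have e4 : σ.1 4 = sb.1 (σ.1 3) := by rw [← key, h3]
  have hi0 := hinv 0
  rcases (by decide : ∀ k : Fin 8, sb.1 k ≠ k → k = 0 ∨ k = 1 ∨ k = 2 ∨ k = 3 ∨ k = 4) _ hmv
    with a | a | a | a | a
  rotate_left
  · rw [a, e1, a, h1] at hi0; exact absurd hi0 (by decide)
  · rw [a, e2, e1, a, h2', h3] at hi0; exact absurd hi0 (by decide)
  · rw [a, e3, e2, e1, a, h3, h4, h0] at hi0; exact absurd hi0 (by decide)
  · rw [a, e4, e3, e2, e1, a, h4, h0, h1, h2'] at hi0; exact absurd hi0 (by decide)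
  rw [a, h0] at e1
  rw [e1, h1] at e2
  rw [e2, h2'] at e3
  rw [e3, h3] at e4
  have hfix : ∀ i : Fin 8, i.1 < 5 → σ.1 i = i := by
    intro i hi
    rcases (by decide : ∀ i : Fin 8, i.1 < 5 → i = 0 ∨ i = 1 ∨ i = 2 ∨ i = 3 ∨ i = 4) i hi
      with rfl | rfl | rfl | rfl | rfl
    exacts [a, e1, e2, e3, e4]
  have hbig : ∀ i : Fin 8, ¬ i.1 < 5 → i = 5 ∨ i = 6 ∨ i = 7 := by decide
  have h567 : ∀ i : Fin 8, ¬ i.1 < 5 → σ.1 i = 5 ∨ σ.1 i = 6 ∨ σ.1 i = 7 := by
    intro i hi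
    refine hbig _ fun hlt => hi ?_
    have := hfix _ hlt
    rw [hinv] at this
    rwa [this]
  have hext : ∀ τ : Perm (Fin 8), (∀ i : Fin 8, i.1 < 5 → τ i = i) → σ.1 5 = τ 5 → σ.1 6 = τ 6 →
      σ.1 7 = τ 7 → σ.1 = τ := fun τ ht a5 a6 a7 => Equiv.ext fun i => by
    by_cases hi : i.1 < 5
    · rw [hfix i hi, ht i hi]
    · rcases hbig i hi with rfl | rfl | rfl <;> assumption
  have hodd : ∀ x y : Fin 8, x ≠ y → σ.1 ≠ swap x y := fun x y hxy hs => by
    have := Perm.mem_alternatingGroup.1 σ.2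
    rw [hs, Perm.sign_swap hxy] at this
    exact absurd this (by decide)
  rcases h567 5 (by decide) with p | p | p <;> rcases h567 6 (by decide) with q | q | q <;>
    rcases h567 7 (by decide) with r | r | r
  all_goals
    first
      | exact absurd (σ.1.injective (p.trans q.symm)) (by decide)
      | exact absurd (σ.1.injective (p.trans r.symm)) (by decide)
      | exact absurd (σ.1.injective (q.trans r.symm)) (by decide)
      | exact Subtype.ext (hext 1 (fun _ _ => rfl) p q r)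
      | exact absurd (hext (swap 5 6) (by decide) p q r) (hodd 5 6 (by decide))
      | exact absurd (hext (swap 5 7) (by decide) p q r) (hodd 5 7 (by decide))
      | exact absurd (hext (swap 6 7) (by decide) p q r) (hodd 6 7 (by decide))
      | (have := hinv 5; rw [p] at this; first | (rw [q] at this; exact absurd this (by decide)) | (rw [r] at this; exact absurd this (by decide)))

/-- In a group of order 36 with a normal four-group every involution lies in it. -/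
theorem invol_mem_of_card {J : Type*} [Group J] [Finite J] {C W : Subgroup J}
    (h36 : Nat.card ↥C = 36) (hW4 : Nat.card ↥W = 4) (hWC : W ≤ C)
    (hWn : ∀ c ∈ C, ∀ w ∈ W, c * w * c⁻¹ ∈ W) {c : J} (hc : c ∈ C) (hc2 : c * c = 1) : c ∈ W := by
  haveI : (W.subgroupOf C).Normal := ⟨fun w hw d => hWn d d.2 w hw⟩
  have hidx : (W.subgroupOf C).index = 9 := by
    have h := card_mul_index (W.subgroupOf C)
    rw [Nat.card_congr (subgroupOfEquivOfLe hWC).toEquiv, hW4, h36] at h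
    omega
  set q : ↥C ⧸ W.subgroupOf C := QuotientGroup.mk ⟨c, hc⟩
  have h2 : q ^ 2 = 1 := by
    rw [← QuotientGroup.mk_pow, show (⟨c, hc⟩ : ↥C) ^ 2 = 1 from Subtype.ext (by
      show c ^ 2 = 1; rw [pow_two, hc2])]
    rfl
  have h9 : q ^ 9 = 1 := by
    rw [← hidx, index_eq_card]; exact pow_card_eq_one'
  have : q = 1 := by
    have := pow_gcd_eq_one.2 ⟨h2, h9⟩
    simpa using this
  exact mem_subgroupOf.1 ((QuotientGroup.eq_one_iff _).1 this)

universe u

variable {G : Type u} [Group G] {z : G} {Q : Subgroup G} {e : ↥Q ≃* ES 4 (ff 4)} {ρ : G}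
variable [Finite G] {T : Tri z Q e ρ} {L : Subgroup G}

theorem rho_ne (T : Tri z Q e ρ) : ρ ≠ 1 := fun h => by
  have h1 := T.rho_z
  rw [h] at h1
  exact T.setup.xe_facts.2.2.2.1 (by rw [← h1]; group)

theorem orderOf_rho (T : Tri z Q e ρ) : orderOf ρ = 3 := by
  haveI : Fact (Nat.Prime 3) := ⟨by norm_num⟩
  exact orderOf_eq_prime (by rw [pow_succ, pow_two, T.rho3]) (rho_ne T)

/-- An element commuting with `z` and `ρ` commutes with `x`. -/
theorem comm_xe (T : Tri z Q e ρ) {c : G} (hz : c * z = z * c) (hr : c * ρ = ρ * c) :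
    c * xe e = xe e * c := by
  rw [← T.rho_z]
  exact (((show Commute c ρ from hr).mul_right hz).mul_right (show Commute c ρ from hr).inv_right).eq

namespace FiveL

variable (F : FiveL T L)
include F

theorem lam_mem_bb (σ : A8) (h : σ * sb = sb * σ) : lam T σ * bb T = bb T * lam T σ := by
  rw [bb, ← map_mul, h, map_mul]

theorem zL : z ∈ L :=
  F.mem z (lam_comm T sb).1.symm 2 (by norm_num) (by rw [pow_two]; exact T.setup.pack.z_mul_z)

theorem rhoL : ρ ∈ L :=
  F.mem ρ (lam_comm T sb).2.2.1.symm 3 (by norm_num) (by rw [pow_succ, pow_two, T.rho3])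

theorem xL : lam T sx ∈ L :=
  F.mem _ (F.lam_mem_bb sx small_facts.1) 3 (by norm_num)
    (by rw [← map_pow, small_facts.2.2.2.2.1, map_one])

theorem qeL : qe e ∈ L :=
  F.mem _ (lam_comm T sb).2.2.2.symm 2 (by norm_num) (by rw [pow_two]; exact T.setup.xe_facts.2.2.2.2.2.1)

theorem comm_bb_iff {c : G} (hc : c * bb T = bb T * c) :
    ∃ l ∈ L, ∃ i : ℕ, c = l * bb T ^ i ∧ ∀ d, d * bb T = bb T * d → d * c = c * d → d * l = l * d := by
  obtain ⟨l, hl, i, rfl⟩ := F.fac c hc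
  refine ⟨l, hl, i, rfl, fun d hd h => ?_⟩
  have h1 : Commute d (bb T ^ i) := (show Commute d (bb T) from hd).pow_right i
  have h2 : d * l * bb T ^ i = l * d * bb T ^ i := by
    rw [mul_assoc, h, mul_assoc, ← h1.eq, ← mul_assoc]
  exact mul_right_cancel h2

theorem orderOf_coe' {l : ↥L} : orderOf l = orderOf (l : G) := (orderOf_coe l).symm

/-- The basic configuration inside `L`. -/
theorem three_config : ∃ (J : Type u) (_ : Group J) (_ : Finite J) (χ : ↥L ≃* J) (zJ : J)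
    (QJ : Subgroup J), InvChar.HJType.Data zJ QJ ∧ IsConj zJ (χ ⟨z, F.zL⟩) ∧
      orderOf (χ ⟨ρ, F.rhoL⟩) = 3 ∧ orderOf (χ ⟨lam T sx, F.xL⟩) = 3 ∧
      HJ.CentZ zJ (χ ⟨lam T sx, F.xL⟩) ∧ ¬ HJ.CentZ zJ (χ ⟨ρ, F.rhoL⟩) ∧
      ¬ HJ.CentZ zJ (χ ⟨ρ * lam T sx, mul_mem F.rhoL F.xL⟩) := by
  obtain ⟨J, _, _, χ, zJ, QJ, D, hz⟩ := F.data
  have hz' := hz F.zL
  haveI : Fact (Nat.Prime 3) := ⟨by norm_num⟩
  have hxo : orderOf (lam T sx) = 3 := by
    rw [orderOf_injective _ (lam_injective T)]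
    exact orderOf_eq_prime small_facts.2.2.2.2.1 small_facts.2.2.2.2.2.2.1
  have hx : orderOf (χ ⟨lam T sx, F.xL⟩) = 3 := by
    rw [MulEquiv.orderOf_eq, ← orderOf_coe]; exact hxo
  have hr : orderOf (χ ⟨ρ, F.rhoL⟩) = 3 := by
    rw [MulEquiv.orderOf_eq, ← orderOf_coe]; exact orderOf_rho T
  have hcx : Commute ρ (lam T sx) := (lam_comm T sx).2.2.1.symm
  have hxz : HJ.CentZ zJ (χ ⟨lam T sx, F.xL⟩) := ⟨_, hz', by
    rw [← map_mul, ← map_mul]
    exact congrArg χ (Subtype.ext (lam_comm T sx).1.symm)⟩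
  have hnz : ρ * z ≠ z * ρ := fun h => by
    have h1 := T.rho_z
    rw [h, mul_inv_cancel_right] at h1
    exact T.setup.xe_facts.2.2.2.1 h1.symm
  have key : ∀ (l : ↥L), orderOf (χ l) = 3 → Commute (lam T sx) l.1 → HJ.CentZ zJ (χ l) →
      (l : G) * z = z * l := by
    intro l hl hc h
    have hmem := HJ.centZ_comm D hx hl (by
      rw [← map_mul, ← map_mul]; exact congrArg χ (Subtype.ext hc.eq)) hxz h
    obtain ⟨i, hi⟩ := mem_zpowers_iff.1 hmem
    rw [← map_zpow] at hi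
    have h' : lam T sx ^ i = (l : G) := by
      have := congrArg Subtype.val (χ.injective hi)
      simpa using this
    rw [← h']
    exact ((show Commute (lam T sx) z from (lam_comm T sx).1).zpow_left i).eq
  refine ⟨J, inferInstance, inferInstance, χ, zJ, QJ, D, hz', hr, hx, hxz,
    fun h => hnz (key ⟨ρ, F.rhoL⟩ hr hcx.symm h), fun h => ?_⟩
  have hrx : orderOf (χ ⟨ρ * lam T sx, mul_mem F.rhoL F.xL⟩) = 3 := by
    rw [MulEquiv.orderOf_eq, ← orderOf_coe]
    refine orderOf_eq_prime ?_ fun h1 => ?_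
    · show (ρ * lam T sx) ^ 3 = 1
      rw [hcx.mul_pow, pow_succ, pow_two, T.rho3, one_mul, ← map_pow, small_facts.2.2.2.2.1, map_one]
    · change ρ * lam T sx = 1 at h1
      refine hnz ?_
      rw [eq_inv_of_mul_eq_one_left h1]
      exact ((show Commute (lam T sx) z from (lam_comm T sx).1).inv_left).eq
  have := key ⟨_, mul_mem F.rhoL F.xL⟩ hrx (hcx.symm.mul_right (Commute.refl _)) h
  refine hnz (mul_right_cancel (b := lam T sx) ?_)
  calc ρ * z * lam T sx = ρ * (lam T sx * z) := by rw [mul_assoc, ← (lam_comm T sx).1]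
    _ = z * ρ * lam T sx := by rw [← mul_assoc]; simpa [mul_assoc] using this

/-- An element carrying `ρ` to `ρ x'` and centralising `A₅`. -/
theorem exists_move : ∃ g : G, g * ρ * g⁻¹ = ρ * lam T sx ∧ g * bb T = bb T * g ∧
    ∀ σ ∈ K567, lam T σ * g = g * lam T σ := by
  obtain ⟨J, _, _, χ, zJ, QJ, D, -, hr, hx, -, hnr, hnrx⟩ := F.three_config
  have hrx : orderOf (χ ⟨ρ * lam T sx, mul_mem F.rhoL F.xL⟩) = 3 := by
    haveI : Fact (Nat.Prime 3) := ⟨by norm_num⟩
    rw [MulEquiv.orderOf_eq, ← orderOf_coe]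
    refine orderOf_eq_prime ?_ fun h1 => ?_
    · show (ρ * lam T sx) ^ 3 = 1
      rw [(show Commute ρ (lam T sx) from (lam_comm T sx).2.2.1.symm).mul_pow, pow_succ, pow_two,
        T.rho3, one_mul, ← map_pow, small_facts.2.2.2.2.1, map_one]
    · change ρ * lam T sx = 1 at h1
      have h2 : (⟨ρ * lam T sx, mul_mem F.rhoL F.xL⟩ : ↥L) = 1 := Subtype.ext h1
      obtain ⟨k, r, -, -, -, hk, -⟩ := HJ.three_data D
      obtain ⟨c, hc, -⟩ := hk
      refine hnrx ⟨c, hc, ?_⟩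
      rw [h2, map_one, one_mul, mul_one]
  obtain ⟨c, hc⟩ := isConj_iff.1 ((HJ.not_centZ_cent D hr hnr).2.2 _ hrx hnrx)
  obtain ⟨l, rfl⟩ := χ.surjective c
  rw [← map_inv, ← map_mul, ← map_mul] at hc
  exact ⟨l, congrArg Subtype.val (χ.injective hc), F.cent l l.2, fun σ hσ => F.comm σ hσ l l.2⟩

/-- The centraliser of `ρ` in `L`. -/
theorem exists_four : ∃ E : Subgroup G, Nat.card ↥E = 4 ∧
    Nat.card ↥(L ⊓ centralizer ({ρ} : Set G)) = 36 ∧ E ≤ L ⊓ centralizer ({ρ} : Set G) ∧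
    (∀ w ∈ E, w * w = 1) ∧ (∀ w ∈ E, w ≠ 1 → w * z ≠ z * w) ∧
    (∀ c ∈ L, c * ρ = ρ * c → c * c = 1 → c ∈ E) := by
  classical
  obtain ⟨J, _, _, χ, zJ, QJ, D, hz, hr, -, -, hnr, -⟩ := F.three_config
  obtain ⟨h36, ⟨W, hW4, hWr, hW2, hWn⟩, -⟩ := HJ.not_centZ_cent D hr hnr
  set r := χ ⟨ρ, F.rhoL⟩
  have hC : L ⊓ centralizer ({ρ} : Set G) = ((centralizer ({r} : Set J)).comap χ.toMonoidHom).map
      L.subtype := by
    ext c
    constructor
    · rintro ⟨hc, hcr⟩
      refine ⟨⟨c, hc⟩, mem_centralizer_singleton_iff.2 ?_, rfl⟩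
      show χ _ * χ _ = χ _ * χ _
      rw [← map_mul, ← map_mul]
      exact congrArg χ (Subtype.ext (mem_centralizer_singleton_iff.1 hcr))
    · rintro ⟨l, hl, rfl⟩
      refine ⟨l.2, mem_centralizer_singleton_iff.2 ?_⟩
      have h : χ l * r = r * χ l := mem_centralizer_singleton_iff.1 hl
      rw [← map_mul, ← map_mul] at h
      exact congrArg Subtype.val (χ.injective h)
  have hcard : ∀ A : Subgroup J, Nat.card ↥((A.comap χ.toMonoidHom).map L.subtype) = Nat.card ↥A :=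
    fun A => by
    rw [card_map_of_injective L.subtype_injective]
    exact (Nat.card_congr ((χ.subgroupMap (A.comap χ.toMonoidHom)).trans
      (MulEquiv.subgroupCongr (Subgroup.map_comap_eq_self_of_surjective χ.surjective A))).toEquiv)
  refine ⟨(W.comap χ.toMonoidHom).map L.subtype, (hcard W).trans hW4, by rw [hC, hcard, h36],
    by rw [hC]; exact map_mono (comap_mono hWr), ?_, ?_, ?_⟩
  · rintro _ ⟨l, hl, rfl⟩
    have := hW2 _ hl
    rw [← map_mul, ← χ.map_one] at this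
    exact congrArg Subtype.val (χ.injective this)
  · rintro _ ⟨l, hl, rfl⟩ hne hlz
    -- then the product of two involutions would be central
    change (l : G) * z = z * l at hlz
    have hlρ : (l : G) * ρ = ρ * l := by
      have h : χ l * r = r * χ l := mem_centralizer_singleton_iff.1 (hWr hl)
      rw [← map_mul, ← map_mul] at h
      exact congrArg Subtype.val (χ.injective h)
    obtain ⟨σ, hσ⟩ := lam_surjective T hlz (comm_xe T hlz hlρ) hlρ
    have h1 : σ * sb = sb * σ := lam_injective T (by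
      rw [map_mul, map_mul, hσ]; exact F.cent l l.2)
    have h2 : σ * σ = 1 := lam_injective T (by
      have := hW2 _ hl
      rw [← map_mul, ← χ.map_one] at this
      rw [map_mul, hσ, map_one]; exact congrArg Subtype.val (χ.injective this))
    have key : ∀ i, σ.1 (sb.1 i) = sb.1 (σ.1 i) := fun i =>
      Equiv.congr_fun (congrArg Subtype.val h1) i
    exact hne (by show (l : G) = 1; rw [← hσ, invol_cent_sb σ h2 key, map_one])
  · intro c hc hcr hc2
    refine ⟨⟨c, hc⟩, ?_, rfl⟩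
    show χ ⟨c, hc⟩ ∈ W
    exact invol_mem_of_card h36 hW4 hWr hWn (mem_centralizer_singleton_iff.2 (by
      rw [← map_mul, ← map_mul]; exact congrArg χ (Subtype.ext hcr))) (by
      rw [← map_mul, show (⟨c, hc⟩ : ↥L) * ⟨c, hc⟩ = 1 from Subtype.ext hc2, map_one])

end FiveL

end CfsgLib.StructB.CoA9
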