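import Cfsg.Agent.Lib.StructB.CoA9.FpfData
import Mathlib.Data.List.GetD
import Mathlib.Algebra.BigOperators.Module

/-!
The alternating group of degree nine has no non-trivial module of order prime to ten on which the
elements of order five act without fixed points.
-/

set_option autoImplicit false
set_option maxRecDepth 20000
set_option Elab.async false

namespace CfsgLib.StructB.CoA9.Fpf

open Equiv Equiv.Perm

local notation "A9" => alternatingGroup (Fin 9)

/-- The list describes an even permutation. -/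
abbrev Ev (l : List (Fin 9 × Fin 9)) : Prop := l.length % 2 = 0 ∧ ∀ p ∈ l, p.1 ≠ p.2

theorem sign_swl : ∀ {l : List (Fin 9 × Fin 9)}, (∀ p ∈ l, p.1 ≠ p.2) →
    Perm.sign (swl l) = (-1) ^ l.length
  | [], _ => by simp [swl]
  | p :: l, h => by
    have : swl (p :: l) = swap p.1 p.2 * swl l := by simp [swl]
    rw [this, Perm.sign_mul, Perm.sign_swap (h p (List.mem_cons_self ..)),
      sign_swl fun q hq => h q (List.mem_cons_of_mem _ hq), List.length_cons, pow_succ']

theorem ev_mem {l : List (Fin 9 × Fin 9)} (h : Ev l) : swl l ∈ A9 := by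
  rw [mem_alternatingGroup, sign_swl h.2]
  obtain ⟨k, hk⟩ : Even l.length := Nat.even_iff.2 h.1
  rw [hk, ← two_mul, pow_mul]; simp

/-- `(0 1 2)`. -/
def y0 : List (Fin 9 × Fin 9) := [(0, 1), (1, 2)]

/-- `(3 4 5)`. -/
def x0 : List (Fin 9 × Fin 9) := [(3, 4), (4, 5)]

/-- `(5 6 7)`. -/
def x1 : List (Fin 9 × Fin 9) := [(5, 6), (6, 7)]

/-- The weighted classes of the summands of the first relation. -/
def items : List (ℤ × ℕ) := sixData.flatMap fun t => t.cls.map fun p => (t.coef, p.1)

/-- The weighted classes of the summands of the second relation. -/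
def items5 : List (ℤ × ℕ) := (fiveData ++ threeData).flatMap fun t => t.cls.map fun k => (t.coef, k)

theorem six_check : (∀ t ∈ sixData, Ev t.lft ∧ Ev t.gen ∧ Ev t.rgt ∧ t.cls.length = 5 ∧
    (∀ i : Fin 9, (swl t.gen)^[5] i = i) ∧ (∃ i : Fin 9, swl t.gen i ≠ i) ∧
    ∀ j : Fin 5, (t.cls.getD j (0, 0)).1 < 96 ∧ ∀ i : Fin 9,
      swl (reps.getD (t.cls.getD j (0, 0)).1 []) ((swl y0)^[(t.cls.getD j (0, 0)).2] i) =
        swl t.lft ((swl t.gen)^[j] (swl t.rgt i))) := by
  decide +kernel

theorem six_tot : ∀ k : Fin 96, Ev (reps.getD k []) ∧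
      ((items.filter fun p => p.2 == k.1).map Prod.fst).sum = if k.1 < 3 then 5 else 0 := by
  decide +kernel

theorem reps_pow : ∀ j : Fin 3, ∀ i : Fin 9, swl (reps.getD j []) i = (swl x0)^[j] i := by
  decide +kernel

theorem five_check : ∀ t ∈ fiveData, Ev t.lft ∧ Ev t.gen ∧ t.cls.length = 5 ∧
    (∀ i : Fin 9, (swl t.gen)^[5] i = i) ∧ (∃ i : Fin 9, swl t.gen i ≠ i) ∧
    ∀ j : Fin 5, t.cls.getD j 0 < 15 ∧ ∀ i : Fin 9,
      swl (els.getD (t.cls.getD j 0) []) i = swl t.lft ((swl t.gen)^[j] i) := by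
  decide +kernel

theorem three_check : ∀ t ∈ threeData, Ev t.lft ∧ Ev t.gen ∧ t.cls.length = 3 ∧
    (∃ d ∈ conjData, d.1 = t.gen) ∧ ∀ j : Fin 3, t.cls.getD j 0 < 15 ∧ ∀ i : Fin 9,
      swl (els.getD (t.cls.getD j 0) []) i = swl t.lft ((swl t.gen)^[j] i) := by
  decide +kernel

theorem five_tot : (∀ k : Fin 15, Ev (els.getD k []) ∧
      ((items5.filter fun p => p.2 == k.1).map Prod.fst).sum = if k.1 = 0 then 2 else 0) ∧
    ∀ i : Fin 9, swl (els.getD 0 []) i = i := by
  decide +kernel

theorem conj_check : ∀ d ∈ conjData, Ev d.1 ∧ Ev d.2.1 ∧ Ev d.2.2 ∧ ∀ i : Fin 9,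
    swl d.2.1 (swl y0 i) = swl d.1 (swl d.2.1 i) ∧ swl d.2.1 (swl x0 i) = swl x1 (swl d.2.1 i) ∧
      swl d.2.2 (swl x1 i) = swl d.1 (swl d.2.2 i) := by
  decide +kernel

theorem sum_items {V : Type*} [AddCommGroup V] (w : ℕ → V) (N : ℕ) :
    ∀ L : List (ℤ × ℕ), (∀ p ∈ L, p.2 < N) → (L.map fun p => p.1 • w p.2).sum =
      ∑ k ∈ Finset.range N, (((L.filter fun p => p.2 == k).map Prod.fst).sum) • w k
  | [], _ => by simp
  | p :: L, h => by
    rw [List.map_cons, List.sum_cons, sum_items w N L fun q hq => h q (List.mem_cons_of_mem _ hq)]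
    have hp : p.2 ∈ Finset.range N := Finset.mem_range.2 (h p (List.mem_cons_self ..))
    have key : ∀ k, (((p :: L).filter fun q => q.2 == k).map Prod.fst).sum • w k =
        (if p.2 = k then p.1 • w k else 0) + (((L.filter fun q => q.2 == k).map Prod.fst).sum) • w k := by
      intro k
      by_cases hk : p.2 = k
      · rw [List.filter_cons_of_pos (by simpa using hk), if_pos hk, List.map_cons, List.sum_cons,
          add_smul]
      · rw [List.filter_cons_of_neg (by simpa using hk), if_neg hk, zero_add]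
    rw [Finset.sum_congr rfl fun k _ => key k, Finset.sum_add_distrib, Finset.sum_ite_eq,
      if_pos hp]

variable {V : Type*} [AddCommGroup V] (f : A9 →* AddMonoid.End V)

open Classical in
/-- The action extended by zero to all permutations. -/
noncomputable def act (p : Perm (Fin 9)) (v : V) : V := if h : p ∈ A9 then f ⟨p, h⟩ v else 0

theorem act_of_mem {p : Perm (Fin 9)} (h : p ∈ A9) (v : V) : act f p v = f ⟨p, h⟩ v := dif_pos h

theorem act_mul {p q : Perm (Fin 9)} (hp : p ∈ A9) (hq : q ∈ A9) (v : V) :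
    act f (p * q) v = act f p (act f q v) := by
  rw [act_of_mem f (mul_mem hp hq), act_of_mem f hp, act_of_mem f hq]
  show f (⟨p, hp⟩ * ⟨q, hq⟩) v = _
  rw [map_mul]; rfl

theorem act_one (v : V) : act f 1 v = v := by
  rw [act_of_mem f (one_mem _), show (⟨1, one_mem _⟩ : A9) = 1 from rfl, map_one]; rfl

theorem act_zero (p : Perm (Fin 9)) : act f p 0 = 0 := by
  rw [act]; split <;> simp

theorem act_add {p : Perm (Fin 9)} (hp : p ∈ A9) (v w : V) :
    act f p (v + w) = act f p v + act f p w := by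
  simp only [act_of_mem f hp, map_add]

/-- The sum of the three powers. -/
noncomputable def tri (p : Perm (Fin 9)) (v : V) : V := v + act f p v + act f (p ^ 2) v

theorem tri_fix {p : Perm (Fin 9)} (hp : p ∈ A9) (h3 : p ^ 3 = 1) (v : V) :
    act f p (tri f p v) = tri f p v := by
  rw [tri, act_add f hp, act_add f hp, ← act_mul f hp hp, ← act_mul f hp (pow_mem hp 2), ← pow_two,
    ← pow_succ', h3, act_one]
  abel

theorem tri_conj {p q π : Perm (Fin 9)} (hp : p ∈ A9) (hq : q ∈ A9) (hπ : π ∈ A9)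
    (h : π * p = q * π) (v : V) : tri f q (act f π v) = act f π (tri f p v) := by
  have h2 : π * p ^ 2 = q ^ 2 * π := by
    rw [pow_two, pow_two, ← mul_assoc, h, mul_assoc, h, mul_assoc]
  rw [tri, tri, act_add f hπ, act_add f hπ, ← act_mul f hπ hp, ← act_mul f hπ (pow_mem hp 2),
    ← act_mul f hq hπ, ← act_mul f (pow_mem hq 2) hπ, h, h2]

variable (hN : ∀ c : A9, c ^ 5 = 1 → c ≠ 1 → ∀ v, ∑ i ∈ Finset.range 5, f (c ^ i) v = 0)
include hN

theorem five_sum {g c : Perm (Fin 9)} (hg : g ∈ A9) (hc : c ∈ A9) (h5 : c ^ 5 = 1) (h1 : c ≠ 1)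
    (v : V) : ∑ i ∈ Finset.range 5, act f (g * c ^ i) v = 0 := by
  have h : ∀ i, act f (g * c ^ i) v = f ⟨g, hg⟩ (f (⟨c, hc⟩ ^ i) v) := fun i => by
    rw [act_mul f hg (pow_mem hc i), act_of_mem f hg, act_of_mem f (pow_mem hc i)]; rfl
  rw [Finset.sum_congr rfl fun i _ => h i, ← map_sum,
    hN ⟨c, hc⟩ (Subtype.ext h5) (fun h => h1 (congrArg Subtype.val h)), map_zero]

/-- The first relation. -/
theorem six_rel (h5 : ∀ v : V, (5 : ℤ) • v = 0 → v = 0) {v : V} (hv : act f (swl y0) v = v) :
    tri f (swl x0) v = 0 := by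
  have hy : swl y0 ∈ A9 := ev_mem (by decide)
  have hx : swl x0 ∈ A9 := ev_mem (by decide)
  have hvn : ∀ n : ℕ, act f (swl y0 ^ n) v = v := by
    intro n
    induction n with
    | zero => rw [pow_zero, act_one]
    | succ n ih => rw [pow_succ, act_mul f (pow_mem hy n) hy, hv, ih]
  set w : ℕ → V := fun k => act f (swl (reps.getD k [])) v with hw
  have hlt : ∀ p ∈ items, p.2 < 96 := by
    intro p hp
    obtain ⟨t, ht, hp⟩ := List.mem_flatMap.1 hp
    obtain ⟨q, hq, rfl⟩ := List.mem_map.1 hp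
    obtain ⟨j, hj, rfl⟩ := List.getElem_of_mem hq
    have hlen := (six_check t ht).2.2.2.1
    have := ((six_check t ht).2.2.2.2.2.2 ⟨j, hlen ▸ hj⟩).1
    rwa [List.getD_eq_getElem _ _ hj] at this
  have hterm : ∀ t ∈ sixData, ((t.cls.map fun p => (t.coef, p.1)).map fun p => p.1 • w p.2).sum = 0 := by
    intro t ht
    obtain ⟨hl, hg, hr, hlen, hp5, ⟨i0, hi0⟩, hcls⟩ := six_check t ht
    have hw5 : ∀ j : Fin 5, w (t.cls.getD j (0, 0)).1 =
        act f (swl t.lft * swl t.gen ^ (j : ℕ)) (act f (swl t.rgt) v) := by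
      intro j
      obtain ⟨hk, hpt⟩ := hcls j
      have hk' := ev_mem (six_tot ⟨_, hk⟩).1
      rw [← act_mul f (mul_mem (ev_mem hl) (pow_mem (ev_mem hg) _)) (ev_mem hr), hw]
      show act f (swl (reps.getD _ [])) v = _
      conv_lhs => rw [← hvn (t.cls.getD j (0, 0)).2, ← act_mul f hk' (pow_mem hy _)]
      congr 1
      refine Equiv.ext fun i => ?_
      simp only [Perm.mul_apply, Perm.coe_pow]
      exact hpt i
    have h0 := five_sum f hN (ev_mem hl) (ev_mem hg) (Equiv.ext fun i => by
      rw [Perm.coe_pow]; exact hp5 i) (fun h => hi0 (by rw [h]; rfl)) (act f (swl t.rgt) v)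
    rw [Finset.sum_range, ← Finset.sum_congr rfl fun j _ => hw5 j, Fin.sum_univ_five] at h0
    match hcl : t.cls, hlen with
    | [a, b, c, d, g], _ =>
      rw [hcl] at h0
      simp only [List.map_cons, List.map_nil, List.sum_cons, List.sum_nil, add_zero]
      calc _ = t.coef • (w a.1 + w b.1 + w c.1 + w d.1 + w g.1) := by
            simp only [smul_add]; abel
        _ = 0 := by
            rw [show w a.1 + w b.1 + w c.1 + w d.1 + w g.1 = 0 from h0, smul_zero]
  have hsum : (items.map fun p => p.1 • w p.2).sum = 0 := by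
    rw [items, List.flatMap_def, List.map_flatten, List.sum_flatten, List.map_map, List.map_map]
    refine List.sum_eq_zero fun a ha => ?_
    obtain ⟨t, ht, rfl⟩ := List.mem_map.1 ha
    exact hterm t ht
  rw [sum_items w 96 items hlt, Finset.sum_range fun k => _] at hsum
  rw [Finset.sum_congr rfl fun (k : Fin 96) _ => by rw [(six_tot k).2]] at hsum
  rw [← Finset.sum_range fun k => (if k < 3 then (5 : ℤ) else 0) • w k,
    ← Finset.sum_subset (s₁ := Finset.range 3) (fun a ha => Finset.mem_range.2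
      (lt_trans (Finset.mem_range.1 ha) (by norm_num))) (fun a _ ha => by
        rw [if_neg (fun h => ha (Finset.mem_range.2 h)), zero_smul])] at hsum
  simp only [Finset.sum_range_succ, Finset.sum_range_zero, zero_add, Nat.reduceLT, if_true,
    ← smul_add] at hsum
  have hw3 : ∀ j : Fin 3, w j = act f (swl x0 ^ (j : ℕ)) v := fun j => by
    rw [hw]; dsimp only; congr 1
    refine Equiv.ext fun i => ?_
    rw [Perm.coe_pow]; exact reps_pow j i
  have := h5 _ hsum
  rw [show w 0 = v from (hw3 0).trans (by rw [Fin.val_zero, pow_zero, act_one]),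
    show w 1 = act f (swl x0) v from (hw3 1).trans (by rw [Fin.val_one, pow_one]),
    show w 2 = act f (swl x0 ^ 2) v from hw3 2] at this
  exact this

/-- The second relation. -/
theorem five_rel (h2 : ∀ v : V, (2 : ℤ) • v = 0 → v = 0) {v : V}
    (hA : ∀ d ∈ conjData, tri f (swl d.1) v = 0) : v = 0 := by
  set w : ℕ → V := fun k => act f (swl (els.getD k [])) v with hw
  have hall : ∀ t ∈ fiveData ++ threeData,
      ((t.cls.map fun k => (t.coef, k)).map fun p => p.1 • w p.2).sum = 0 ∧ ∀ k ∈ t.cls, k < 15 := by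
    intro t ht
    rcases List.mem_append.1 ht with ht | ht
    · obtain ⟨hl, hg, hlen, hp5, ⟨i0, hi0⟩, hcls⟩ := five_check t ht
      refine ⟨?_, fun k hk => by
        obtain ⟨j, hj, rfl⟩ := List.getElem_of_mem hk
        have := (hcls ⟨j, hlen ▸ hj⟩).1
        rwa [List.getD_eq_getElem _ _ hj] at this⟩
      have hw5 : ∀ j : Fin 5, w (t.cls.getD j 0) = act f (swl t.lft * swl t.gen ^ (j : ℕ)) v := by
        intro j
        rw [hw]; dsimp only; congr 1
        refine Equiv.ext fun i => ?_
        rw [Perm.mul_apply, Perm.coe_pow]; exact (hcls j).2 i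
      have h0 := five_sum f hN (ev_mem hl) (ev_mem hg) (Equiv.ext fun i => by
        rw [Perm.coe_pow]; exact hp5 i) (fun h => hi0 (by rw [h]; rfl)) v
      rw [Finset.sum_range, ← Finset.sum_congr rfl fun j _ => hw5 j, Fin.sum_univ_five] at h0
      match hcl : t.cls, hlen with
      | [a, b, c, d, g], _ =>
        rw [hcl] at h0
        simp only [List.map_cons, List.map_nil, List.sum_cons, List.sum_nil, add_zero]
        calc _ = t.coef • (w a + w b + w c + w d + w g) := by simp only [smul_add]; abel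
          _ = 0 := by rw [show w a + w b + w c + w d + w g = 0 from h0, smul_zero]
    · obtain ⟨hl, hg, hlen, ⟨d, hd, hdt⟩, hcls⟩ := three_check t ht
      refine ⟨?_, fun k hk => by
        obtain ⟨j, hj, rfl⟩ := List.getElem_of_mem hk
        have := (hcls ⟨j, hlen ▸ hj⟩).1
        rwa [List.getD_eq_getElem _ _ hj] at this⟩
      have hw3 : ∀ j : Fin 3, w (t.cls.getD j 0) =
          act f (swl t.lft) (act f (swl t.gen ^ (j : ℕ)) v) := by
        intro j
        rw [← act_mul f (ev_mem hl) (pow_mem (ev_mem hg) _), hw]; dsimp only; congr 1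
        refine Equiv.ext fun i => ?_
        rw [Perm.mul_apply, Perm.coe_pow]; exact (hcls j).2 i
      have h0 : act f (swl t.lft) (tri f (swl t.gen) v) = 0 := by
        rw [← hdt, hA d hd, act_zero]
      rw [tri, act_add f (ev_mem hl), act_add f (ev_mem hl)] at h0
      have e0 := hw3 0
      have e1 := hw3 1
      have e2 := hw3 2
      simp only [Fin.val_zero, Fin.val_one, Fin.val_two, pow_zero, pow_one, act_one] at e0 e1 e2
      rw [← e0, ← e1, ← e2] at h0
      match hcl : t.cls, hlen with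
      | [a, b, c], _ =>
        rw [hcl] at h0
        simp only [List.map_cons, List.map_nil, List.sum_cons, List.sum_nil, add_zero]
        calc _ = t.coef • (w a + w b + w c) := by simp only [smul_add]; abel
          _ = 0 := by rw [show w a + w b + w c = 0 from h0, smul_zero]
  have hsum : (items5.map fun p => p.1 • w p.2).sum = 0 := by
    rw [items5, List.flatMap_def, List.map_flatten, List.sum_flatten, List.map_map, List.map_map]
    refine List.sum_eq_zero fun a ha => ?_
    obtain ⟨t, ht, rfl⟩ := List.mem_map.1 ha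
    exact (hall t ht).1
  have hlt : ∀ p ∈ items5, p.2 < 15 := by
    intro p hp
    obtain ⟨t, ht, hp⟩ := List.mem_flatMap.1 hp
    obtain ⟨q, hq, rfl⟩ := List.mem_map.1 hp
    exact (hall t ht).2 q hq
  rw [sum_items w 15 items5 hlt, Finset.sum_range fun k => _] at hsum
  rw [Finset.sum_congr rfl fun (k : Fin 15) _ => by rw [(five_tot.1 k).2]] at hsum
  rw [← Finset.sum_range fun k => (if k = 0 then (2 : ℤ) else 0) • w k,
    Finset.sum_eq_single 0 (fun a _ ha => by rw [if_neg ha, zero_smul])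
      (fun h => absurd (Finset.mem_range.2 (by norm_num)) h), if_pos rfl] at hsum
  have := h2 _ hsum
  have e0 : w 0 = v := by
    show act f (swl (els.getD 0 [])) v = v
    rw [show swl (els.getD 0 []) = 1 from Equiv.ext five_tot.2, act_one]
  rwa [e0] at this

/-- There is no such module. -/
theorem eq_zero (h2 : ∀ v : V, (2 : ℤ) • v = 0 → v = 0) (h5 : ∀ v : V, (5 : ℤ) • v = 0 → v = 0)
    (v : V) : v = 0 := by
  have hy : swl y0 ∈ A9 := ev_mem (by decide)
  have hx : swl x0 ∈ A9 := ev_mem (by decide)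
  have hx1 : swl x1 ∈ A9 := ev_mem (by decide)
  have hy3 : swl y0 ^ 3 = 1 := Equiv.ext (by decide +kernel)
  have hAA : ∀ u, tri f (swl x0) (tri f (swl y0) u) = 0 := fun u =>
    six_rel f hN h5 (tri_fix f hy hy3 u)
  have hinvc : ∀ {π : Perm (Fin 9)}, π ∈ A9 → ∀ u : V, act f π (act f π⁻¹ u) = u := fun {π} hπ u => by
    rw [← act_mul f hπ (inv_mem hπ), mul_inv_cancel, act_one]
  have hcomm : ∀ {p q : Perm (Fin 9)}, p ∈ A9 → q ∈ A9 → p * q = q * p → ∀ u : V,
      tri f p (tri f q u) = tri f q (tri f p u) := by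
    intro p q hp hq h u
    have e1 : tri f q (act f p u) = act f p (tri f q u) := tri_conj f hq hq hp h u
    have h' : p ^ 2 * q = q * p ^ 2 := ((show Commute p q from h).pow_left 2).eq
    have e2 : tri f q (act f (p ^ 2) u) = act f (p ^ 2) (tri f q u) :=
      tri_conj f hq hq (pow_mem hp 2) h' u
    have hadd : ∀ a b, tri f q (a + b) = tri f q a + tri f q b := fun a b => by
      simp only [tri, act_add f hq, act_add f (pow_mem hq 2)]; abel
    conv_rhs => rw [show tri f p u = u + act f p u + act f (p ^ 2) u from rfl, hadd, hadd, e1, e2]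
    rfl
  have hz : ∀ u, tri f (swl x1) u = 0 := by
    intro u
    refine five_rel f hN h2 fun d hd => ?_
    obtain ⟨hy', hπ, -, hcj⟩ := conj_check d hd
    have h1 : swl d.2.1 * swl y0 = swl d.1 * swl d.2.1 := Equiv.ext fun i => (hcj i).1
    have h2' : swl d.2.1 * swl x0 = swl x1 * swl d.2.1 := Equiv.ext fun i => (hcj i).2.1
    rw [← hinvc (ev_mem hπ) u, tri_conj f hx hx1 (ev_mem hπ) h2',
      tri_conj f hy (ev_mem hy') (ev_mem hπ) h1]
    have hc : swl y0 * swl x0 = swl x0 * swl y0 := Equiv.ext (by decide +kernel)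
    rw [hcomm hy hx hc, hAA, act_zero]
  refine five_rel f hN h2 fun d hd => ?_
  obtain ⟨hy', -, hπ, hcj⟩ := conj_check d hd
  have h : swl d.2.2 * swl x1 = swl d.1 * swl d.2.2 := Equiv.ext fun i => (hcj i).2.2
  rw [← hinvc (ev_mem hπ) v, tri_conj f hx1 (ev_mem hy') (ev_mem hπ) h, hz, act_zero]

end CfsgLib.StructB.CoA9.Fpf
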