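import Mathlib.GroupTheory.SpecificGroups.Alternating

/-!
Certificates showing that the alternating group of degree nine has no module of order prime to ten
in which the elements of order five act without fixed points.
-/

set_option autoImplicit false

namespace CfsgLib.StructB.CoA9.Fpf

/-- A product of transpositions given by a list. -/
def swl (l : List (Fin 9 × Fin 9)) : Equiv.Perm (Fin 9) := (l.map fun p => Equiv.swap p.1 p.2).prod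

/-- A translate of a five-sum with the classes of its summands. -/
structure Term where
  coef : ℤ
  lft : List (Fin 9 × Fin 9)
  gen : List (Fin 9 × Fin 9)
  rgt : List (Fin 9 × Fin 9)
  cls : List (ℕ × ℕ)

/-- A left translate of a cyclic sum with its summands. -/
structure Term' where
  coef : ℤ
  lft : List (Fin 9 × Fin 9)
  gen : List (Fin 9 × Fin 9)
  cls : List ℕ

/-- Coset representatives. -/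
def reps : List (List (Fin 9 × Fin 9)) := [
  [],
  [(3, 4), (4, 5)],
  [(3, 5), (4, 5)],
  [(1, 3), (2, 5), (3, 4), (4, 5)],
  [(1, 2), (2, 4), (3, 4), (4, 5)],
  [(1, 5), (2, 5)],
  [(1, 4), (2, 3)],
  [(0, 1), (1, 2), (2, 5), (3, 5)],
  [(0, 1), (1, 3), (2, 5), (3, 5)],
  [(1, 3), (2, 5)],
  [(1, 3), (3, 5)],
  [(0, 1), (1, 2), (2, 4), (4, 5)],
  [(0, 2), (1, 4), (2, 3), (4, 5)],
  [(1, 4), (2, 3), (3, 4), (4, 5)],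
  [(2, 3), (4, 5)],
  [(1, 4), (2, 4), (3, 4), (4, 5)],
  [(0, 1), (1, 5), (2, 3), (4, 5)],
  [(0, 1), (1, 5), (2, 4), (3, 4)],
  [(1, 5), (2, 3)],
  [(2, 3), (3, 4)],
  [(0, 1), (1, 5), (2, 3), (3, 5)],
  [(0, 1), (1, 2), (2, 5), (4, 5)],
  [(0, 1), (1, 4), (3, 5), (4, 5)],
  [(0, 3), (1, 4), (2, 5), (3, 5)],
  [(1, 5), (3, 4)],
  [(0, 1), (1, 5), (2, 4), (3, 5)],
  [(1, 2), (2, 4), (3, 5), (4, 5)],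
  [(0, 1), (1, 4)],
  [(1, 2), (2, 3), (3, 4), (4, 5)],
  [(0, 3), (1, 4), (2, 5), (4, 5)],
  [(1, 2), (2, 5)],
  [(0, 2), (1, 3), (2, 4), (3, 5)],
  [(1, 4), (2, 5), (3, 5), (4, 5)],
  [(0, 2), (1, 3), (2, 4), (3, 4)],
  [(0, 1), (1, 5), (3, 5), (4, 5)],
  [(0, 1), (1, 4), (3, 4), (4, 5)],
  [(0, 2), (1, 3), (2, 5), (3, 5)],
  [(0, 1), (1, 3), (2, 4), (4, 5)],
  [(2, 4), (3, 5)],
  [(0, 2), (1, 4), (2, 5), (4, 5)],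
  [(1, 2), (3, 5)],
  [(0, 1), (1, 4), (2, 3), (3, 5)],
  [(1, 2), (2, 3), (3, 5), (4, 5)],
  [(1, 4), (2, 3), (3, 5), (4, 5)],
  [(1, 2), (4, 5)],
  [(0, 1), (1, 3), (3, 4), (4, 5)],
  [(2, 4), (4, 5)],
  [(1, 3), (2, 4), (3, 4), (4, 5)],
  [(1, 2), (2, 5), (3, 4), (4, 5)],
  [(0, 1), (1, 2), (2, 3), (4, 5)],
  [(0, 2), (1, 4), (2, 5), (3, 4)],
  [(0, 1), (1, 5), (2, 4), (4, 5)],
  [(0, 1), (1, 3), (2, 5), (4, 5)],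
  [(1, 3), (2, 3), (3, 4), (4, 5)],
  [(0, 1), (1, 2), (2, 3), (3, 4)],
  [(1, 4), (2, 4), (3, 5), (4, 5)],
  [(2, 5), (4, 5)],
  [(1, 3), (3, 4)],
  [(1, 4), (2, 5), (3, 4), (4, 5)],
  [(0, 2), (1, 3), (2, 4), (4, 5)],
  [(1, 2), (2, 4)],
  [(1, 5), (2, 4)],
  [(1, 4), (3, 4)],
  [(0, 1), (1, 2), (2, 4), (3, 5)],
  [(0, 1), (1, 4), (2, 5), (4, 5)],
  [(0, 3), (1, 5), (2, 4), (4, 5)],
  [(1, 2), (2, 5), (3, 5), (4, 5)],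
  [(0, 1), (1, 5), (3, 4), (4, 5)],
  [(0, 1), (1, 2), (2, 3), (3, 5)],
  [(0, 3), (1, 5), (2, 4), (3, 4)],
  [(1, 4), (4, 5)],
  [(1, 3), (2, 4), (3, 5), (4, 5)],
  [(1, 4), (2, 4)],
  [(1, 5), (2, 3), (3, 5), (4, 5)],
  [(0, 1), (1, 2), (2, 5), (3, 4)],
  [(0, 1), (1, 4), (2, 3), (3, 4)],
  [(1, 3), (2, 3)],
  [(0, 1), (1, 4), (2, 3), (4, 5)],
  [(0, 2), (1, 5), (2, 3), (4, 5)],
  [(0, 1), (1, 3), (2, 4), (3, 5)],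
  [(2, 3), (3, 5)],
  [(0, 2), (1, 3), (2, 5), (4, 5)],
  [(1, 2), (2, 3)],
  [(2, 4), (3, 4)],
  [(0, 1), (1, 5), (2, 3), (3, 4)],
  [(0, 1), (1, 3)],
  [(0, 3), (1, 5), (2, 4), (3, 5)],
  [(0, 2), (1, 4), (2, 3), (3, 4)],
  [(0, 2), (1, 5), (2, 3), (3, 5)],
  [(0, 2), (1, 5), (2, 4), (4, 5)],
  [(1, 3), (2, 3), (3, 5), (4, 5)],
  [(1, 4), (2, 5)],
  [(1, 4), (3, 5)],
  [(0, 1), (1, 3), (3, 5), (4, 5)],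
  [(1, 5), (2, 5), (3, 4), (4, 5)],
  [(0, 2), (1, 5), (2, 3), (3, 4)]]

/-- The first relation. -/
def sixData : List Term := [
  ⟨5, [(2, 3), (4, 5)], [(1, 2), (2, 3), (3, 4), (4, 5)], [(2, 3), (3, 4)], [(2, 0), (3, 0), (4, 0), (5, 0), (6, 0)]⟩,
  ⟨1283, [(0, 4), (1, 4), (3, 4), (4, 5)], [(1, 2), (2, 3), (3, 4), (4, 5)], [(0, 1), (1, 3), (3, 5), (4, 5)], [(0, 0), (7, 1), (8, 0), (9, 2), (10, 1)]⟩,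
  ⟨-513, [(0, 5), (1, 5), (2, 5), (3, 5)], [(1, 2), (2, 3), (3, 4), (4, 5)], [(0, 1), (1, 2), (2, 3), (3, 4)], [(1, 0), (11, 0), (12, 0), (13, 1), (14, 2)]⟩,
  ⟨-5, [(0, 2), (1, 2)], [(1, 2), (2, 3), (3, 4), (4, 5)], [(0, 1), (1, 4), (3, 4), (4, 5)], [(15, 0), (16, 0), (6, 2), (17, 2), (18, 1)]⟩,
  ⟨-78, [(0, 1), (2, 3), (3, 5), (4, 5)], [(1, 2), (2, 3), (3, 4), (4, 5)], [(2, 5), (3, 4)], [(15, 2), (19, 1), (20, 0), (21, 0), (22, 0)]⟩,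
  ⟨370, [(0, 5), (1, 5), (2, 5), (4, 5)], [(1, 2), (2, 3), (3, 4), (4, 5)], [(2, 3), (4, 5)], [(9, 2), (21, 2), (23, 2), (24, 1), (25, 1)]⟩,
  ⟨259, [(0, 4), (1, 4), (3, 4), (4, 5)], [(1, 2), (2, 3), (3, 4), (4, 5)], [(3, 4), (4, 5)], [(26, 2), (27, 1), (25, 2), (23, 1), (13, 1)]⟩,
  ⟨1287, [(0, 1), (2, 3), (3, 5), (4, 5)], [(1, 2), (2, 3), (3, 4), (4, 5)], [(0, 1), (1, 4), (3, 5), (4, 5)], [(28, 0), (29, 0), (30, 2), (31, 0), (32, 1)]⟩,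
  ⟨307, [(2, 3), (4, 5)], [(1, 2), (2, 3), (3, 4), (4, 5)], [(0, 1), (1, 4), (3, 4), (4, 5)], [(20, 0), (33, 1), (34, 2), (29, 2), (35, 1)]⟩,
  ⟨240, [(3, 4), (4, 5)], [(1, 2), (2, 3), (3, 4), (4, 5)], [(0, 1), (1, 4), (3, 4), (4, 5)], [(34, 0), (33, 0), (25, 2), (36, 2), (37, 1)]⟩,
  ⟨366, [(0, 4), (1, 4), (2, 4), (3, 5)], [(1, 2), (2, 3), (3, 4), (4, 5)], [], [(38, 2), (17, 2), (39, 1), (33, 2), (13, 1)]⟩,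
  ⟨1, [(0, 5), (1, 5), (2, 5), (4, 5)], [(1, 2), (2, 3), (3, 4), (4, 5)], [(0, 1), (1, 4), (3, 4), (4, 5)], [(40, 0), (41, 0), (42, 2), (22, 2), (43, 1)]⟩,
  ⟨147, [(0, 1), (3, 5)], [(1, 2), (2, 3), (3, 4), (4, 5)], [(3, 5), (4, 5)], [(44, 2), (7, 0), (17, 0), (41, 0), (19, 1)]⟩,
  ⟨2082, [(0, 5), (1, 5), (2, 5), (4, 5)], [(1, 2), (2, 3), (3, 4), (4, 5)], [(0, 1), (1, 2), (2, 3), (3, 4)], [(14, 0), (45, 0), (12, 2), (4, 1), (46, 2)]⟩,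
  ⟨-131, [(0, 5), (1, 5), (3, 5), (4, 5)], [(1, 2), (2, 3), (3, 4), (4, 5)], [(0, 1), (1, 2), (2, 3), (3, 4)], [(44, 0), (45, 2), (37, 0), (47, 1), (4, 2)]⟩,
  ⟨119, [(0, 2), (1, 2), (3, 5), (4, 5)], [(1, 2), (2, 3), (3, 4), (4, 5)], [(2, 4), (4, 5)], [(10, 2), (27, 2), (48, 1), (49, 1), (50, 0)]⟩,
  ⟨-182, [(0, 5), (1, 5), (3, 4), (4, 5)], [(1, 2), (2, 3), (3, 4), (4, 5)], [], [(48, 2), (50, 2), (51, 1), (52, 2), (18, 1)]⟩,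
  ⟨-145, [(0, 5), (1, 5), (2, 5), (3, 4)], [(1, 2), (2, 3), (3, 4), (4, 5)], [(0, 1), (1, 4)], [(53, 0), (11, 0), (47, 2), (49, 2), (4, 1)]⟩,
  ⟨182, [(0, 1), (4, 5)], [(1, 2), (2, 3), (3, 4), (4, 5)], [(3, 4), (4, 5)], [(40, 2), (54, 0), (52, 0), (17, 0), (46, 1)]⟩,
  ⟨-534, [(0, 1), (3, 5)], [(1, 2), (2, 3), (3, 4), (4, 5)], [(2, 4), (4, 5)], [(55, 2), (54, 0), (56, 1), (35, 0), (8, 0)]⟩,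
  ⟨68, [(3, 5), (4, 5)], [(1, 2), (2, 3), (3, 4), (4, 5)], [(2, 4), (3, 4)], [(14, 0), (26, 0), (5, 0), (57, 0), (58, 0)]⟩,
  ⟨-340, [(2, 4), (3, 4)], [(1, 2), (2, 3), (3, 4), (4, 5)], [(2, 5), (3, 4)], [(56, 0), (55, 0), (4, 0), (57, 0), (18, 0)]⟩,
  ⟨1822, [(0, 5), (1, 5), (2, 5), (3, 5)], [(1, 2), (2, 3), (3, 4), (4, 5)], [(0, 1), (1, 3), (3, 5), (4, 5)], [(44, 0), (35, 0), (59, 0), (47, 2), (53, 1)]⟩,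
  ⟨-1743, [(0, 5), (1, 5), (3, 5), (4, 5)], [(1, 2), (2, 3), (3, 4), (4, 5)], [(0, 1), (1, 2), (2, 4), (3, 5)], [(28, 0), (35, 2), (14, 1), (59, 1), (46, 2)]⟩,
  ⟨9, [(0, 3), (1, 3), (2, 4), (3, 4)], [(1, 2), (2, 3), (3, 4), (4, 5)], [(0, 1), (1, 3)], [(60, 0), (11, 2), (21, 1), (5, 2), (61, 1)]⟩,
  ⟨791, [(0, 4), (1, 4), (3, 4), (4, 5)], [(1, 2), (2, 3), (3, 4), (4, 5)], [(2, 5), (3, 5)], [(47, 2), (62, 1), (63, 2), (64, 1), (65, 2)]⟩,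
  ⟨-316, [(0, 5), (1, 5), (2, 5), (4, 5)], [(1, 2), (2, 3), (3, 4), (4, 5)], [(2, 4), (3, 4)], [(66, 2), (64, 2), (18, 1), (67, 1), (65, 1)]⟩,
  ⟨152, [(0, 5), (1, 5), (2, 3), (4, 5)], [(1, 2), (2, 3), (3, 4), (4, 5)], [(0, 1), (1, 3)], [(42, 0), (68, 2), (63, 1), (55, 2), (43, 1)]⟩,
  ⟨124, [(0, 2), (1, 2), (2, 3), (3, 4)], [(1, 2), (2, 3), (3, 4), (4, 5)], [(3, 5), (4, 5)], [(10, 2), (33, 0), (11, 1), (67, 2), (66, 1)]⟩,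
  ⟨-212, [(0, 3), (1, 3), (2, 3), (3, 5)], [(1, 2), (2, 3), (3, 4), (4, 5)], [(0, 1), (1, 3)], [(5, 0), (64, 0), (39, 2), (60, 2), (44, 1)]⟩,
  ⟨-145, [(0, 1), (3, 4)], [(1, 2), (2, 3), (3, 4), (4, 5)], [(0, 1), (1, 2), (2, 3), (3, 5)], [(26, 0), (12, 0), (69, 2), (3, 1), (30, 2)]⟩,
  ⟨165, [(0, 4), (1, 4), (2, 3), (3, 4)], [(1, 2), (2, 3), (3, 4), (4, 5)], [(2, 4), (4, 5)], [(4, 2), (69, 2), (55, 1), (33, 2), (64, 1)]⟩,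
  ⟨-1073, [(0, 1), (3, 5)], [(1, 2), (2, 3), (3, 4), (4, 5)], [(0, 1), (1, 4), (3, 5), (4, 5)], [(70, 0), (36, 0), (32, 2), (31, 2), (3, 1)]⟩,
  ⟨-68, [(0, 1), (2, 3), (3, 5), (4, 5)], [(1, 2), (2, 3), (3, 4), (4, 5)], [(0, 1), (1, 2), (2, 4), (4, 5)], [(10, 0), (69, 0), (24, 1), (12, 0), (61, 2)]⟩,
  ⟨63, [(0, 4), (1, 4)], [(1, 2), (2, 3), (3, 4), (4, 5)], [(2, 3), (3, 5)], [(71, 2), (35, 1), (69, 2), (72, 1), (50, 1)]⟩,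
  ⟨307, [(0, 3), (1, 3), (2, 4), (3, 4)], [(1, 2), (2, 3), (3, 4), (4, 5)], [(2, 5), (3, 4)], [(73, 2), (71, 1), (12, 2), (54, 2), (8, 1)]⟩,
  ⟨63, [(0, 4), (1, 4), (2, 3), (3, 4)], [(1, 2), (2, 3), (3, 4), (4, 5)], [(0, 1), (1, 2), (2, 3), (4, 5)], [(53, 0), (54, 2), (74, 0), (48, 1), (3, 2)]⟩,
  ⟨5, [(0, 1), (3, 5)], [(1, 2), (2, 3), (3, 4), (4, 5)], [], [(40, 2), (74, 0), (51, 0), (75, 0), (14, 1)]⟩,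
  ⟨775, [(0, 1), (4, 5)], [(1, 2), (2, 3), (3, 4), (4, 5)], [(0, 1), (1, 4), (3, 5), (4, 5)], [(24, 0), (12, 0), (18, 2), (39, 2), (43, 1)]⟩,
  ⟨327, [(0, 5), (1, 5), (3, 4), (4, 5)], [(1, 2), (2, 3), (3, 4), (4, 5)], [(0, 1), (1, 2), (2, 3), (3, 4)], [(4, 0), (11, 1), (37, 2), (14, 1), (28, 2)]⟩,
  ⟨-18, [(0, 5), (1, 5), (2, 5), (4, 5)], [(1, 2), (2, 3), (3, 4), (4, 5)], [(0, 1), (1, 3), (3, 4), (4, 5)], [(76, 0), (54, 0), (33, 1), (62, 2), (72, 1)]⟩,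
  ⟨-139, [(0, 5), (1, 5), (3, 4), (4, 5)], [(1, 2), (2, 3), (3, 4), (4, 5)], [(0, 1), (1, 3), (3, 4), (4, 5)], [(62, 0), (27, 2), (75, 1), (76, 2), (57, 1)]⟩,
  ⟨-135, [(0, 3), (1, 3)], [(1, 2), (2, 3), (3, 4), (4, 5)], [(2, 5), (4, 5)], [(73, 2), (57, 1), (68, 2), (37, 1), (69, 0)]⟩,
  ⟨-134, [(0, 1), (2, 4)], [(1, 2), (2, 3), (3, 4), (4, 5)], [(0, 1), (1, 3), (3, 4), (4, 5)], [(47, 0), (31, 2), (36, 1), (24, 2), (61, 1)]⟩,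
  ⟨422, [(2, 3), (3, 4)], [(1, 2), (2, 3), (3, 4), (4, 5)], [(2, 3), (4, 5)], [(46, 0), (57, 0), (32, 0), (40, 0), (73, 0)]⟩,
  ⟨-410, [(0, 4), (1, 4), (2, 3), (3, 4)], [(1, 2), (2, 3), (3, 4), (4, 5)], [(2, 3), (3, 5)], [(38, 2), (12, 1), (51, 2), (62, 1), (23, 1)]⟩,
  ⟨365, [(0, 3), (1, 3), (2, 3), (4, 5)], [(1, 2), (2, 3), (3, 4), (4, 5)], [(0, 1), (1, 2), (2, 4), (3, 4)], [(56, 0), (11, 0), (30, 1), (51, 1), (60, 2)]⟩,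
  ⟨-290, [(0, 4), (1, 4), (2, 4), (4, 5)], [(1, 2), (2, 3), (3, 4), (4, 5)], [(2, 3), (3, 4)], [(71, 2), (17, 2), (12, 1), (58, 1), (27, 1)]⟩,
  ⟨-236, [(0, 5), (1, 5), (2, 5), (3, 4)], [(1, 2), (2, 3), (3, 4), (4, 5)], [(0, 1), (1, 2), (2, 4), (3, 5)], [(14, 0), (35, 0), (13, 1), (45, 1), (70, 2)]⟩,
  ⟨-1949, [(0, 1), (3, 5)], [(1, 2), (2, 3), (3, 4), (4, 5)], [(0, 1), (1, 3), (3, 4), (4, 5)], [(24, 0), (39, 0), (29, 2), (47, 2), (10, 1)]⟩,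
  ⟨129, [(0, 5), (1, 5), (2, 5), (4, 5)], [(1, 2), (2, 3), (3, 4), (4, 5)], [(0, 1), (1, 4)], [(44, 0), (77, 0), (28, 2), (35, 2), (13, 1)]⟩,
  ⟨-1755, [(0, 5), (1, 5), (2, 3), (4, 5)], [(1, 2), (2, 3), (3, 4), (4, 5)], [(0, 1), (1, 2), (2, 4), (3, 5)], [(53, 0), (12, 2), (44, 1), (77, 0), (4, 2)]⟩,
  ⟨222, [(0, 5), (1, 5), (2, 5), (3, 5)], [(1, 2), (2, 3), (3, 4), (4, 5)], [(2, 4), (3, 4)], [(58, 2), (8, 2), (24, 1), (51, 1), (78, 1)]⟩,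
  ⟨-56, [(0, 2), (1, 2), (2, 4), (3, 4)], [(1, 2), (2, 3), (3, 4), (4, 5)], [(2, 5), (3, 5)], [(24, 2), (4, 1), (27, 2), (68, 1), (78, 0)]⟩,
  ⟨-152, [(0, 4), (1, 4), (2, 4), (3, 5)], [(1, 2), (2, 3), (3, 4), (4, 5)], [(2, 4), (3, 4)], [(4, 2), (79, 2), (32, 1), (27, 1), (65, 2)]⟩,
  ⟨-5, [(0, 3), (1, 3), (3, 5), (4, 5)], [(1, 2), (2, 3), (3, 4), (4, 5)], [(2, 5), (3, 4)], [(13, 2), (57, 1), (36, 1), (16, 2), (79, 1)]⟩,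
  ⟨-224, [(0, 3), (1, 3), (3, 5), (4, 5)], [(1, 2), (2, 3), (3, 4), (4, 5)], [(0, 1), (1, 3), (3, 5), (4, 5)], [(24, 0), (34, 2), (17, 1), (55, 2), (62, 1)]⟩,
  ⟨-980, [(0, 2), (1, 2), (3, 4), (4, 5)], [(1, 2), (2, 3), (3, 4), (4, 5)], [(0, 1), (1, 2), (2, 3), (3, 4)], [(38, 0), (64, 0), (29, 1), (73, 1), (19, 2)]⟩,
  ⟨1335, [(0, 3), (1, 3), (2, 4), (3, 4)], [(1, 2), (2, 3), (3, 4), (4, 5)], [(2, 4), (3, 5)], [(80, 2), (29, 0), (57, 1), (77, 2), (81, 1)]⟩,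
  ⟨-1106, [(3, 5), (4, 5)], [(1, 2), (2, 3), (3, 4), (4, 5)], [(0, 1), (1, 3), (3, 5), (4, 5)], [(67, 0), (81, 0), (69, 1), (41, 2), (27, 1)]⟩,
  ⟨-1278, [(0, 4), (1, 4), (2, 4), (3, 4)], [(1, 2), (2, 3), (3, 4), (4, 5)], [(0, 1), (1, 2), (2, 4), (3, 5)], [(80, 0), (7, 0), (82, 1), (8, 1), (30, 2)]⟩,
  ⟨1412, [(0, 5), (1, 5), (3, 5), (4, 5)], [(1, 2), (2, 3), (3, 4), (4, 5)], [(0, 1), (1, 2), (2, 4), (4, 5)], [(82, 0), (27, 2), (19, 1), (33, 1), (83, 2)]⟩,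
  ⟨10, [(0, 1), (2, 3), (3, 5), (4, 5)], [(1, 2), (2, 3), (3, 4), (4, 5)], [(2, 5), (4, 5)], [(55, 2), (14, 1), (84, 0), (7, 0), (27, 0)]⟩,
  ⟨-301, [(0, 1), (2, 3)], [(1, 2), (2, 3), (3, 4), (4, 5)], [(2, 3), (3, 5)], [(40, 2), (37, 0), (21, 0), (83, 1), (84, 0)]⟩,
  ⟨192, [(0, 2), (1, 2), (3, 5), (4, 5)], [(1, 2), (2, 3), (3, 4), (4, 5)], [(2, 4), (3, 5)], [(57, 2), (35, 2), (66, 1), (68, 1), (39, 0)]⟩,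
  ⟨-323, [], [(1, 2), (2, 3), (3, 4), (4, 5)], [(0, 1), (1, 3)], [(85, 0), (12, 0), (65, 0), (25, 2), (34, 1)]⟩,
  ⟨552, [(0, 1), (4, 5)], [(1, 2), (2, 3), (3, 4), (4, 5)], [(2, 5), (3, 4)], [(55, 2), (1, 1), (85, 0), (16, 0), (64, 0)]⟩,
  ⟨187, [(0, 5), (1, 5), (3, 4), (4, 5)], [(1, 2), (2, 3), (3, 4), (4, 5)], [(2, 3), (4, 5)], [(32, 2), (67, 1), (86, 1), (5, 1), (78, 1)]⟩,
  ⟨-501, [(0, 2), (1, 2), (2, 4), (3, 4)], [(1, 2), (2, 3), (3, 4), (4, 5)], [(0, 1), (1, 2), (2, 4), (3, 5)], [(43, 0), (25, 2), (19, 1), (86, 0), (56, 2)]⟩,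
  ⟨-153, [(0, 5), (1, 5), (2, 5), (3, 5)], [(1, 2), (2, 3), (3, 4), (4, 5)], [(0, 1), (1, 2), (2, 4), (3, 4)], [(38, 0), (68, 0), (26, 1), (41, 1), (42, 2)]⟩,
  ⟨-1653, [(0, 3), (1, 3), (2, 4), (3, 4)], [(1, 2), (2, 3), (3, 4), (4, 5)], [(3, 5), (4, 5)], [(43, 2), (33, 1), (45, 1), (16, 2), (9, 1)]⟩,
  ⟨-254, [(0, 1), (2, 3), (3, 5), (4, 5)], [(1, 2), (2, 3), (3, 4), (4, 5)], [(0, 1), (1, 2), (2, 3), (3, 5)], [(3, 0), (36, 1), (39, 2), (26, 1), (47, 2)]⟩,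
  ⟨-943, [(0, 4), (1, 4), (2, 4), (3, 4)], [(1, 2), (2, 3), (3, 4), (4, 5)], [(3, 4), (4, 5)], [(46, 2), (63, 2), (33, 2), (86, 2), (32, 1)]⟩,
  ⟨1226, [(0, 1), (2, 3)], [(1, 2), (2, 3), (3, 4), (4, 5)], [(0, 1), (1, 4), (3, 5), (4, 5)], [(43, 0), (36, 1), (70, 2), (69, 2), (24, 1)]⟩,
  ⟨-1111, [(0, 5), (1, 5), (2, 5), (3, 4)], [(1, 2), (2, 3), (3, 4), (4, 5)], [(0, 1), (1, 2), (2, 3), (3, 5)], [(83, 0), (75, 0), (87, 1), (57, 1), (0, 2)]⟩,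
  ⟨1111, [(2, 3), (3, 4)], [(1, 2), (2, 3), (3, 4), (4, 5)], [(0, 1), (1, 3), (3, 5), (4, 5)], [(41, 0), (87, 2), (39, 1), (67, 2), (16, 1)]⟩,
  ⟨1177, [(0, 2), (1, 2), (2, 3), (4, 5)], [(1, 2), (2, 3), (3, 4), (4, 5)], [(0, 1), (1, 2), (2, 4), (3, 5)], [(3, 0), (75, 2), (56, 1), (86, 1), (38, 2)]⟩,
  ⟨83, [(0, 5), (1, 5), (2, 5), (4, 5)], [(1, 2), (2, 3), (3, 4), (4, 5)], [(0, 1), (1, 3), (3, 5), (4, 5)], [(53, 0), (49, 0), (59, 1), (70, 2), (15, 1)]⟩,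
  ⟨291, [], [(1, 2), (2, 3), (3, 4), (4, 5)], [(0, 1), (1, 4), (3, 5), (4, 5)], [(22, 0), (88, 0), (77, 2), (89, 2), (84, 1)]⟩,
  ⟨-62, [(2, 3), (4, 5)], [(1, 2), (2, 3), (3, 4), (4, 5)], [(0, 1), (1, 2), (2, 3), (3, 5)], [(45, 0), (88, 2), (89, 0), (17, 1), (79, 2)]⟩,
  ⟨-80, [(0, 5), (1, 5), (2, 5), (3, 5)], [(1, 2), (2, 3), (3, 4), (4, 5)], [(0, 1), (1, 3)], [(40, 0), (22, 0), (31, 0), (71, 2), (90, 1)]⟩,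
  ⟨-45, [(0, 2), (1, 2), (3, 4), (4, 5)], [(1, 2), (2, 3), (3, 4), (4, 5)], [(0, 1), (1, 3), (3, 5), (4, 5)], [(72, 0), (25, 0), (86, 2), (3, 2), (90, 1)]⟩,
  ⟨386, [(3, 4), (4, 5)], [(1, 2), (2, 3), (3, 4), (4, 5)], [], [(1, 0), (26, 0), (91, 0), (73, 0), (76, 0)]⟩,
  ⟨-167, [(0, 3), (1, 3), (3, 5), (4, 5)], [(1, 2), (2, 3), (3, 4), (4, 5)], [(0, 1), (1, 4), (3, 4), (4, 5)], [(0, 0), (39, 0), (56, 2), (11, 0), (91, 1)]⟩,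
  ⟨-219, [(0, 1), (4, 5)], [(1, 2), (2, 3), (3, 4), (4, 5)], [(0, 1), (1, 3), (3, 5), (4, 5)], [(57, 0), (78, 0), (23, 0), (91, 2), (92, 1)]⟩,
  ⟨219, [(0, 5), (1, 5), (2, 5), (3, 5)], [(1, 2), (2, 3), (3, 4), (4, 5)], [(0, 1), (1, 4), (3, 4), (4, 5)], [(55, 0), (93, 0), (92, 2), (79, 2), (10, 1)]⟩,
  ⟨-57, [(0, 1), (2, 3), (3, 5), (4, 5)], [(1, 2), (2, 3), (3, 4), (4, 5)], [(2, 3), (4, 5)], [(5, 2), (93, 0), (17, 0), (1, 1), (75, 0)]⟩,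
  ⟨-57, [(0, 1), (2, 3)], [(1, 2), (2, 3), (3, 4), (4, 5)], [(2, 5), (3, 4)], [(94, 2), (80, 1), (49, 0), (27, 0), (17, 0)]⟩,
  ⟨125, [(0, 2), (1, 2)], [(1, 2), (2, 3), (3, 4), (4, 5)], [(0, 1), (1, 3), (3, 5), (4, 5)], [(90, 0), (75, 0), (86, 0), (61, 2), (94, 1)]⟩,
  ⟨-162, [(0, 2), (1, 2), (3, 4), (4, 5)], [(1, 2), (2, 3), (3, 4), (4, 5)], [(2, 4), (4, 5)], [(24, 2), (93, 2), (60, 1), (7, 1), (59, 0)]⟩,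
  ⟨-229, [(0, 2), (1, 2), (2, 3), (3, 4)], [(1, 2), (2, 3), (3, 4), (4, 5)], [(2, 4), (4, 5)], [(1, 2), (81, 0), (26, 1), (85, 2), (89, 0)]⟩,
  ⟨-229, [(0, 4), (1, 4), (2, 4), (4, 5)], [(1, 2), (2, 3), (3, 4), (4, 5)], [(0, 1), (1, 3), (3, 5), (4, 5)], [(76, 0), (20, 0), (88, 2), (30, 2), (40, 1)]⟩,
  ⟨-134, [(0, 2), (1, 2), (3, 4), (4, 5)], [(1, 2), (2, 3), (3, 4), (4, 5)], [], [(1, 2), (22, 2), (39, 0), (78, 0), (82, 1)]⟩,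
  ⟨-68, [(0, 4), (1, 4), (2, 4), (3, 5)], [(1, 2), (2, 3), (3, 4), (4, 5)], [(0, 1), (1, 3)], [(94, 0), (74, 0), (95, 1), (57, 2), (53, 1)]⟩,
  ⟨68, [(0, 1), (3, 5)], [(1, 2), (2, 3), (3, 4), (4, 5)], [(0, 1), (1, 2), (2, 4), (4, 5)], [(26, 0), (95, 0), (61, 1), (12, 1), (18, 2)]⟩,
  ⟨272, [(0, 1), (2, 3)], [(1, 2), (2, 3), (3, 4), (4, 5)], [(0, 1), (1, 2), (2, 3), (3, 5)], [(10, 0), (12, 2), (39, 0), (32, 1), (3, 2)]⟩]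

/-- The elements of the second relation. -/
def els : List (List (Fin 9 × Fin 9)) := [
  [],
  [(0, 2), (1, 2), (2, 4), (3, 4)],
  [(0, 2), (1, 4), (2, 3), (3, 4)],
  [(0, 2), (1, 3)],
  [(1, 3), (2, 3)],
  [(0, 1), (1, 3)],
  [(0, 1), (1, 4)],
  [(0, 4), (1, 4)],
  [(0, 2), (1, 4), (2, 4), (3, 4)],
  [(0, 2), (3, 4)],
  [(0, 2), (1, 4)],
  [(1, 2), (2, 4)],
  [(0, 3), (1, 4), (2, 4), (3, 4)],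
  [(0, 4), (1, 4), (2, 3), (3, 4)],
  [(0, 4), (1, 4), (2, 4), (3, 4)]]

/-- Five-sums of the second relation. -/
def fiveData : List Term' := [
  ⟨1, [(1, 2), (2, 4)], [(0, 1), (1, 4), (2, 4), (3, 4)], [11, 9, 5, 12, 13]⟩]

/-- Three-sums of the second relation. -/
def threeData : List Term' := [
  ⟨1, [(0, 2), (1, 2), (2, 4), (3, 4)], [(1, 2), (2, 4)], [1, 2, 3]⟩,
  ⟨-1, [(1, 3), (2, 3)], [(0, 2), (2, 3)], [4, 5, 3]⟩,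
  ⟨2, [], [(0, 1), (1, 4)], [0, 6, 7]⟩,
  ⟨-1, [(0, 2), (1, 2), (2, 4), (3, 4)], [(1, 2), (2, 3)], [1, 8, 9]⟩,
  ⟨1, [(0, 2), (1, 4)], [(2, 3), (3, 4)], [10, 2, 8]⟩,
  ⟨-1, [(1, 2), (2, 4)], [(0, 1), (1, 2)], [11, 10, 7]⟩,
  ⟨-1, [(0, 4), (1, 4), (2, 4), (3, 4)], [(2, 3), (3, 4)], [14, 7, 13]⟩,
  ⟨-2, [(0, 1), (1, 4)], [(0, 2), (2, 3)], [6, 2, 12]⟩,
  ⟨1, [(1, 3), (2, 3)], [(0, 1), (1, 4)], [4, 12, 14]⟩]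

/-- The three-cycles of the second relation with conjugating elements. -/
def conjData : List (List (Fin 9 × Fin 9) × List (Fin 9 × Fin 9) × List (Fin 9 × Fin 9)) := [
  ([(1, 2), (2, 4)], [(0, 1), (1, 2), (2, 4), (3, 5), (4, 6), (5, 7)], [(1, 3), (2, 5), (3, 6), (4, 8), (5, 6), (7, 8)]),
  ([(0, 2), (2, 3)], [(1, 2), (2, 3), (3, 5), (4, 6), (5, 7), (6, 7)], [(0, 1), (1, 4), (2, 5), (3, 6), (4, 8), (5, 8), (6, 8), (7, 8)]),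
  ([(0, 1), (1, 4)], [(2, 4), (3, 5), (4, 6), (5, 7)], [(0, 2), (1, 3), (2, 5), (3, 6), (4, 8), (7, 8)]),
  ([(1, 2), (2, 3)], [(0, 1), (1, 2), (2, 3), (3, 5), (4, 6), (5, 7), (6, 7), (7, 8)], [(1, 4), (2, 5), (3, 6), (4, 7), (5, 7), (6, 7)]),
  ([(2, 3), (3, 4)], [(0, 2), (1, 3), (2, 4), (3, 5), (4, 6), (5, 7)], [(2, 5), (3, 6), (4, 8), (7, 8)]),
  ([(0, 1), (1, 2)], [(3, 5), (4, 6), (5, 7), (6, 7)], [(0, 3), (1, 4), (2, 5), (3, 6), (4, 8), (5, 6), (6, 8), (7, 8)])]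

end CfsgLib.StructB.CoA9.Fpf
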