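import Cfsg.Agent.Lib.StructB.CoA9.VBase

/-!
Permutations as elements of `R`, the subgroup `⟨v⟩ × A₇`, and the elements carrying `ρ` to `ρ c`.
-/

set_option autoImplicit false
set_option maxRecDepth 20000
set_option synthInstance.maxSize 2000
set_option Elab.async false

namespace CfsgLib.StructB.CoA9

open Subgroup CfsgLib.Trans3.ExtraTwo CfsgLib.ClassK.Conway Equiv

local notation "A8" => alternatingGroup (Fin 8)
local notation "A9" => alternatingGroup (Fin 9)

/-- The three-cycle `(567)` on nine points. -/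
def sx9 : A9 := ⟨swap 5 6 * swap 6 7, Perm.mem_alternatingGroup.2 (by decide +kernel)⟩

theorem sx9_eq : ∀ i : Fin 8, sx9.1 i.castSucc = (sx.1 i).castSucc := by decide +kernel

/-- The inclusion of seven points into nine. -/
def i79 : Fin 7 ↪ Fin 9 := Fin.castLEEmb (by norm_num)

/-- The alternating group on the first seven points. -/
def e79 : alternatingGroup (Fin 7) →* A9 :=
  MonoidHom.mk' (fun a => ⟨a.1.viaFintypeEmbedding i79, Perm.mem_alternatingGroup.2 (by
    rw [Perm.viaFintypeEmbedding_sign]; exact Perm.mem_alternatingGroup.1 a.2)⟩) fun a b =>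
    Subtype.ext (Equiv.ext fun x => by
      show (a.1 * b.1).viaFintypeEmbedding i79 x = a.1.viaFintypeEmbedding i79 (b.1.viaFintypeEmbedding i79 x)
      by_cases hx : x ∈ Set.range i79
      · obtain ⟨i, rfl⟩ := hx
        rw [Perm.viaFintypeEmbedding_apply_image, Perm.viaFintypeEmbedding_apply_image,
          Perm.viaFintypeEmbedding_apply_image]
        rfl
      · rw [Perm.viaFintypeEmbedding_apply_notMem_range _ _ hx,
          Perm.viaFintypeEmbedding_apply_notMem_range _ _ hx,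
          Perm.viaFintypeEmbedding_apply_notMem_range _ _ hx])

theorem e79_apply (a : alternatingGroup (Fin 7)) (i : Fin 7) : (e79 a).1 (i79 i) = i79 (a.1 i) :=
  Perm.viaFintypeEmbedding_apply_image a.1 i79 i

theorem i79_range : ∀ x : Fin 9, x = 7 ∨ x = 8 ∨ ∃ i : Fin 7, i79 i = x := by decide +kernel

theorem i79_not : ∀ i : Fin 7, i79 i ≠ 7 ∧ i79 i ≠ 8 := by decide +kernel

theorem e79_fix (a : alternatingGroup (Fin 7)) : (e79 a).1 7 = 7 ∧ (e79 a).1 8 = 8 :=
  ⟨Perm.viaFintypeEmbedding_apply_notMem_range _ _ (by rintro ⟨i, hi⟩; exact (i79_not i).1 hi),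
    Perm.viaFintypeEmbedding_apply_notMem_range _ _ (by rintro ⟨i, hi⟩; exact (i79_not i).2 hi)⟩

theorem e79_injective : Function.Injective e79 := fun a b h =>
  Subtype.ext (Equiv.ext fun i => i79.injective (by rw [← e79_apply, h, e79_apply]))

theorem e79_surj {π : A9} (h7 : π.1 7 = 7) (h8 : π.1 8 = 8) : ∃ a, e79 a = π := by
  have hf : ∀ i, ∃ j, i79 j = π.1 (i79 i) := fun i => by
    rcases i79_range (π.1 (i79 i)) with h | h | h
    · exact absurd (π.1.injective (h.trans h7.symm)) (i79_not i).1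
    · exact absurd (π.1.injective (h.trans h8.symm)) (i79_not i).2
    · exact h
  choose f hf using hf
  have hinj : Function.Injective f := fun a b h =>
    i79.injective (π.1.injective (by rw [← hf, ← hf, h]))
  let σ : Perm (Fin 7) := Equiv.ofBijective f (Finite.injective_iff_bijective.1 hinj)
  have hσ : σ.viaFintypeEmbedding i79 = π.1 := Equiv.ext fun x => by
    rcases i79_range x with rfl | rfl | ⟨i, rfl⟩
    · rw [h7]
      exact Perm.viaFintypeEmbedding_apply_notMem_range _ _ (by rintro ⟨i, hi⟩; exact (i79_not i).1 hi)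
    · rw [h8]
      exact Perm.viaFintypeEmbedding_apply_notMem_range _ _ (by rintro ⟨i, hi⟩; exact (i79_not i).2 hi)
    · rw [Perm.viaFintypeEmbedding_apply_image]
      exact hf i
  refine ⟨⟨σ, Perm.mem_alternatingGroup.2 ?_⟩, Subtype.ext hσ⟩
  have := Perm.mem_alternatingGroup.1 π.2
  rw [← hσ, Perm.viaFintypeEmbedding_sign] at this
  exact this

universe u

variable {G : Type u} [Group G] [Finite G] {z : G} {Q : Subgroup G} {e : ↥Q ≃* ES 4 (ff 4)} {ρ : G}
variable {T : Tri z Q e ρ} {v : G} {pt : Fin 9 → G} {θ : ↥(RR e ρ) ≃* A9}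

/-- A permutation of nine points as an element of `R`. -/
noncomputable def em (θ : ↥(RR e ρ) ≃* A9) : A9 →* G := (RR e ρ).subtype.comp θ.symm.toMonoidHom

theorem em_mem (a : A9) : em θ a ∈ RR e ρ := (θ.symm a).2

theorem em_rho (a : A9) : Commute (em θ a) ρ := (mem_RR.1 (em_mem a)).2

theorem em_qe (a : A9) : Commute (em θ a) (qe e) := (mem_RR.1 (em_mem a)).1

theorem em_injective : Function.Injective (em θ) := fun _ _ h =>
  θ.symm.injective (Subtype.ext h)

theorem eq_em {r : G} (hr : r ∈ RR e ρ) : em θ (θ ⟨r, hr⟩) = r :=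
  congrArg Subtype.val (θ.symm_apply_apply ⟨r, hr⟩)

theorem lam_eq_em (N : Nine T pt θ) (σ : A8) (a : A9) (hl : a.1 (Fin.last 8) = Fin.last 8)
    (hc : ∀ i : Fin 8, a.1 i.castSucc = (σ.1 i).castSucc) : em θ a = lam T σ := by
  have h : θ ⟨lam T σ, lam_mem_RR T σ⟩ = a := Subtype.ext (Equiv.ext fun x => by
    induction x using Fin.lastCases with
    | last => rw [N.lam_last, hl]
    | cast i => rw [N.lam_cast, hc])
  rw [← h, eq_em]

/-- The alternating group of degree seven inside `R`. -/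
noncomputable def iota7 (θ : ↥(RR e ρ) ≃* A9) : alternatingGroup (Fin 7) →* G :=
  (em θ).comp e79

theorem iota7_injective : Function.Injective (iota7 θ) := em_injective.comp e79_injective

theorem iota7_range (N : Nine T pt θ) : (iota7 θ).range = LamS T := by
  refine le_antisymm ?_ fun g hg => ?_
  · rintro _ ⟨a, rfl⟩
    show ((θ.symm (e79 a) : ↥(RR e ρ)) : G) ∈ LamS T
    refine (Vee.mem_LamS_iff N).2 ?_
    rw [MulEquiv.apply_symm_apply]
    exact e79_fix a
  · obtain ⟨σ, hσ, rfl⟩ := hg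
    obtain ⟨h7, h8⟩ := (Vee.mem_LamS_iff N (r := ⟨lam T σ, lam_mem_RR T σ⟩)).1 ⟨σ, hσ, rfl⟩
    obtain ⟨a, ha⟩ := e79_surj h7 h8
    exact ⟨a, by show em θ (e79 a) = _; rw [ha, eq_em]⟩

theorem em_mem_LamS (N : Nine T pt θ) {a : A9} : em θ a ∈ LamS T ↔ a.1 7 = 7 ∧ a.1 8 = 8 := by
  show ((θ.symm a : ↥(RR e ρ)) : G) ∈ LamS T ↔ _
  rw [Vee.mem_LamS_iff N, MulEquiv.apply_symm_apply]

/-- The subgroup `⟨v⟩ × A₇`. -/
noncomputable def HH (T : Tri z Q e ρ) (v : G) : Subgroup G := zpowers v ⊔ LamS T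

theorem mem_HH (V : Vee T v) {g : G} :
    g ∈ HH T v ↔ ∃ i : ℕ, ∃ l ∈ LamS T, g = v ^ i * l := by
  constructor
  · intro hg
    refine Subgroup.closure_induction (k := (zpowers v : Set G) ∪ LamS T)
      (p := fun g _ => ∃ i : ℕ, ∃ l ∈ LamS T, g = v ^ i * l) ?_ ?_ ?_ ?_ ?_
    · rintro g (hg | hg)
      · obtain ⟨i, rfl⟩ := mem_zpowers_iff.1 hg
        refine ⟨(i % 7).toNat, 1, one_mem _, ?_⟩
        rw [mul_one, ← zpow_natCast, Int.toNat_of_nonneg (Int.emod_nonneg _ (by norm_num)),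
          zpow_eq_zpow_iff_modEq, V.ord]
        exact (Int.mod_modEq i 7).symm
      · exact ⟨0, g, hg, by rw [pow_zero, one_mul]⟩
    · exact ⟨0, 1, one_mem _, by simp⟩
    · rintro _ _ _ _ ⟨i, l, hl, rfl⟩ ⟨j, m, hm, rfl⟩
      refine ⟨i + j, l * m, mul_mem hl hm, ?_⟩
      have hc : Commute (v ^ j) l := ((show Commute l v from V.lamS_comm hl).symm.pow_left j)
      rw [pow_add]
      calc v ^ i * l * (v ^ j * m) = v ^ i * (l * v ^ j) * m := by group
        _ = v ^ i * v ^ j * (l * m) := by rw [← hc.eq]; group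
    · rintro _ _ ⟨i, l, hl, rfl⟩
      refine ⟨6 * i, l⁻¹, inv_mem hl, ?_⟩
      have hc : Commute (v ^ i) l := ((show Commute l v from V.lamS_comm hl).symm.pow_left i)
      have h6 : (v ^ i)⁻¹ = v ^ (6 * i) := by
        refine inv_eq_of_mul_eq_one_right ?_
        rw [← pow_add, show i + 6 * i = 7 * i by ring, pow_mul, V.pow7, one_pow]
      rw [← h6, mul_inv_rev]
      exact hc.inv_inv.eq.symm
    · rw [HH, sup_eq_closure] at hg
      exact hg
  · rintro ⟨i, l, hl, rfl⟩
    exact mul_mem (mem_sup_left (pow_mem (mem_zpowers v) i)) (mem_sup_right hl)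

/-- An element carrying `ρ` to `ρ c`, for a three-cycle `c`, centralising the `A₅` on the other
five of eight points. -/
theorem exists_h (N : Nine T pt θ) (hq : HasOmega z Q) (π : A9) :
    ∃ h : G, h * ρ * h⁻¹ = ρ * em θ (π * sx9 * π⁻¹) ∧
      ∀ a : A9, (π⁻¹ * a * π).1 5 = 5 → (π⁻¹ * a * π).1 6 = 6 → (π⁻¹ * a * π).1 7 = 7 →
        (π⁻¹ * a * π).1 8 = 8 → Commute (em θ a) h := by
  obtain ⟨L, F⟩ := exists_fiveL T hq
  obtain ⟨g, hg, -, hgK⟩ := F.exists_move
  have hsx : em θ sx9 = lam T sx :=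
    lam_eq_em N sx sx9 (by decide +kernel) sx9_eq
  refine ⟨em θ π * g * (em θ π)⁻¹, ?_, fun a h5 h6 h7 h8 => ?_⟩
  · have hc : Commute (em θ π) ρ := em_rho π
    calc em θ π * g * (em θ π)⁻¹ * ρ * (em θ π * g * (em θ π)⁻¹)⁻¹
        = em θ π * g * ((em θ π)⁻¹ * ρ * em θ π) * g⁻¹ * (em θ π)⁻¹ := by group
      _ = em θ π * (g * ρ * g⁻¹) * (em θ π)⁻¹ := by
          rw [show (em θ π)⁻¹ * ρ * em θ π = ρ by rw [mul_assoc, ← hc.eq, inv_mul_cancel_left]]; group
      _ = (em θ π * ρ) * lam T sx * (em θ π)⁻¹ := by rw [hg]; group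
      _ = ρ * em θ (π * sx9 * π⁻¹) := by rw [hc.eq, map_mul, map_mul, map_inv, hsx]; group
  · set b := π⁻¹ * a * π with hb
    have hR := em_mem (θ := θ) b
    have hbl : (θ ⟨em θ b, hR⟩) = b := θ.apply_symm_apply b
    have hact := N.act ⟨em θ b, hR⟩ (Fin.last 8)
    rw [hbl, show (Fin.last 8) = (8 : Fin 9) from rfl, h8, show pt (8 : Fin 9) = z from N.last] at hact
    obtain ⟨σ, hσ⟩ := cent_z_RR T hR (mul_inv_eq_iff_eq_mul.1 hact)
    have hθ : θ ⟨lam T σ, lam_mem_RR T σ⟩ = b := by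
      rw [← hbl]; exact congrArg θ (Subtype.ext hσ)
    have hcast : ∀ i : Fin 8, b.1 i.castSucc = (σ.1 i).castSucc := fun i => by
      rw [← hθ, N.lam_cast]
    have hK : σ ∈ K567 := ⟨Fin.castSucc_injective _ (by rw [← hcast]; exact h5),
      Fin.castSucc_injective _ (by rw [← hcast]; exact h6),
      Fin.castSucc_injective _ (by rw [← hcast]; exact h7)⟩
    have hcg : Commute (em θ b) g := hσ ▸ hgK σ hK
    have ha : em θ a = em θ π * em θ b * (em θ π)⁻¹ := by
      rw [← map_inv, ← map_mul, ← map_mul, hb]; congr 1; group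
    rw [ha]
    show em θ π * em θ b * (em θ π)⁻¹ * (em θ π * g * (em θ π)⁻¹) =
      em θ π * g * (em θ π)⁻¹ * (em θ π * em θ b * (em θ π)⁻¹)
    calc em θ π * em θ b * (em θ π)⁻¹ * (em θ π * g * (em θ π)⁻¹)
        = em θ π * (em θ b * g) * (em θ π)⁻¹ := by group
      _ = _ := by rw [hcg.eq]; group

end CfsgLib.StructB.CoA9
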