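import Cfsg.Agent.Lib.InvChar.HallJankoSylowSeven

/-!
Groups of Hall-Janko type: the two kinds of elements of order three.
-/

set_option autoImplicit false

namespace CfsgLib.StructB.CoA9.HJ

open Subgroup CfsgLib.InvChar.HJType

universe u

variable {G : Type u} [Group G] [Finite G] {z : G} {Q : Subgroup G} (S : Data z Q)

theorem ord_conj {G : Type*} [Group G] (c a : G) : orderOf (c * a * c⁻¹) = orderOf a := by
  simpa using orderOf_injective (MulAut.conj c).toMonoidHom (MulAut.conj c).injective a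

/-- Commuting with a conjugate of `z`. -/
def CentZ (z y : G) : Prop := ∃ c, IsConj z c ∧ c * y = y * c

omit [Finite G] in
theorem CentZ.conj {y : G} (h : CentZ z y) (g : G) : CentZ z (g * y * g⁻¹) := by
  obtain ⟨c, hc, hcy⟩ := h
  refine ⟨g * c * g⁻¹, hc.trans (isConj_iff.2 ⟨g, rfl⟩), ?_⟩
  rw [show g * c * g⁻¹ * (g * y * g⁻¹) = g * (c * y) * g⁻¹ by group, hcy]; group

include S

theorem cent_seven {y : G} (hy : orderOf y = 7) :
    ∀ c, c * y = y * c → c ∈ zpowers y := by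
  haveI : Fact (Nat.Prime 7) := ⟨by norm_num⟩
  obtain ⟨D, hD⟩ := (IsPGroup.of_card (p := 7) (n := 1) (by rw [Nat.card_zpowers, hy]; norm_num) :
    IsPGroup 7 ↥(zpowers y)).exists_le_sylow
  obtain ⟨hC, -, -⟩ := S.sylow_seven_result D
  have hD7 : Nat.card ↥(D : Subgroup G) = 7 := by
    rw [D.card_eq_multiplicity, S.order_eq.1, show Nat.factorization 604800 7 = 1 by
      rw [show (604800 : ℕ) = 7 * 86400 by norm_num, Nat.factorization_mul (by norm_num) (by norm_num),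
        Finsupp.add_apply, Nat.Prime.factorization_self (by norm_num),
        Nat.factorization_eq_zero_of_not_dvd (show ¬ 7 ∣ 86400 by norm_num)]]
    norm_num
  have he : zpowers y = (D : Subgroup G) :=
    eq_of_le_of_card_ge hD (by rw [hD7, Nat.card_zpowers, hy])
  intro c hc
  rw [he, ← hC]
  refine mem_centralizer_iff.2 fun d hd => ?_
  rw [← he] at hd
  obtain ⟨i, rfl⟩ := mem_zpowers_iff.1 hd
  exact ((show Commute c y from hc).zpow_right i).eq.symm

/-- The classes of elements of order three. -/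
theorem three_data : ∃ k r : G, orderOf k = 3 ∧ orderOf r = 3 ∧
    (∀ y, orderOf y = 3 → IsConj y k ∨ IsConj y r) ∧ CentZ z k ∧ ¬ CentZ z r ∧ IsConj r r⁻¹ ∧
    (Nat.card ↥(centralizer ({r} : Set G)) = 36 ∧ ∃ W : Subgroup G, Nat.card ↥W = 4 ∧
      W ≤ centralizer ({r} : Set G) ∧ (∀ w ∈ W, w * w = 1) ∧
      ∀ c ∈ centralizer ({r} : Set G), ∀ w ∈ W, c * w * c⁻¹ ∈ W) ∧
    Nat.card ↥(centralizer ({k} : Set G)) = 1080 ∧
    (∀ c, orderOf c = 2 → c * k = k * c → IsConj z c) ∧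
    ∃ T : Sylow 3 G, Nat.card ↥(T : Subgroup G) = 27 ∧ (∀ c ∈ (T : Subgroup G), c * k = k * c) ∧
      k ∈ (T : Subgroup G) ∧ Cfsg.IsExtraspecial 3 ↥(T : Subgroup G) ∧
      ∀ c ∈ (T : Subgroup G), CentZ z c → c ∈ zpowers k := by
  classical
  haveI : Fact (Nat.Prime 3) := ⟨by norm_num⟩
  obtain ⟨a, W, X0, f, v, k, A, F⟩ := S.exists_five_config
  obtain ⟨⟨r, hrX⟩, hr⟩ := exists_prime_orderOf_dvd_card' (G := ↥X0) 3 (by rw [F.L.hX0c]; norm_num)
  rw [← orderOf_coe] at hr
  change orderOf r = 3 at hr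
  obtain ⟨h36, hWn, hnz, u, -, -, hur⟩ := F.cent_three S hrX hr
  obtain ⟨T, hT⟩ := (IsPGroup.of_card (p := 3) (n := 2) (by rw [F.card_E S hrX hr]; norm_num) :
    IsPGroup 3 ↥(centralizer ({r} : Set G) ⊓ centralizer ({k} : Set G) : Subgroup G)).exists_le_sylow
  obtain ⟨hes, hT27, -, hcl, hck, hkk⟩ := F.sylow_three S hrX hr T hT
  have hkT : k ∈ (T : Subgroup G) := hT (mem_inf.2
    ⟨mem_centralizer_singleton_iff.2 (F.hkX r hrX), mem_centralizer_singleton_iff.2 rfl⟩)
  have hvk : CentZ z k := ⟨v, F.L.hX0z v F.hvX (CfsgLib.Invol.invol_mul_self F.hv)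
    (CfsgLib.Invol.invol_ne_one F.hv), F.hvA k F.hkA⟩
  have hnr : ¬ CentZ z r := fun ⟨c, hc, hcr⟩ => hnz c hcr hc
  have hk1080 : Nat.card ↥(centralizer ({k} : Set G)) = 1080 := by
    have h27 : 27 ∣ Nat.card ↥(centralizer ({k} : Set G)) := hT27 ▸ card_dvd_of_le
      fun c hc => mem_centralizer_singleton_iff.2 (hck c hc)
    obtain ⟨e, he, hce⟩ := F.card_cent_k S h27
    rcases (Nat.dvd_prime (by norm_num : Nat.Prime 7)).1 he with rfl | rfl
    · rw [hce]
    exfalso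
    haveI : Fact (Nat.Prime 7) := ⟨by norm_num⟩
    obtain ⟨⟨y, hyC⟩, hy⟩ := exists_prime_orderOf_dvd_card' (G := ↥(centralizer ({k} : Set G))) 7
      (by rw [hce]; norm_num)
    rw [← orderOf_coe] at hy
    change orderOf y = 7 at hy
    have hk7 : k ∈ zpowers y := cent_seven S hy k (mem_centralizer_singleton_iff.1 hyC).symm
    have := (zpowers y).orderOf_dvd_natCard hk7
    rw [F.hk, Nat.card_zpowers, hy] at this
    norm_num at this
  refine ⟨k, r, F.hk, hr, fun y hy => ?_, hvk, hnr, (isConj_iff.2 ⟨u, hur⟩),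
    ⟨h36, W, F.L.hWc, fun w hw => mem_centralizer_singleton_iff.2
      (F.L.hWcen w hw r (F.L.hX0X hrX)), F.L.hW2, hWn⟩, hk1080,
    fun c hc h => F.invol_cent_k S hc h, T, hT27, hck, hkT, hes, fun c hc hz => ?_⟩
  · obtain ⟨U, hU⟩ := (IsPGroup.of_card (p := 3) (n := 1) (by rw [Nat.card_zpowers, hy]; norm_num) :
      IsPGroup 3 ↥(zpowers y)).exists_le_sylow
    obtain ⟨d, hd⟩ := MulAction.exists_smul_eq G U T
    have hmem : d * y * d⁻¹ ∈ (T : Subgroup G) := by
      rw [← hd, Sylow.coe_subgroup_smul]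
      exact ⟨y, hU (mem_zpowers y), rfl⟩
    have hne : d * y * d⁻¹ ≠ 1 := fun e => by
      rw [conj_eq_one_iff.1 e, orderOf_one] at hy; norm_num at hy
    have hyd : IsConj y (d * y * d⁻¹) := isConj_iff.2 ⟨d, rfl⟩
    rcases hcl _ hmem with h | h
    · rcases mem_zpowers_three F.hk h with e | e | e
      · exact absurd e hne
      · exact Or.inl (e ▸ hyd)
      · exact Or.inl ((e ▸ hyd : IsConj y k⁻¹).trans hkk.symm)
    · exact Or.inr (hyd.trans h.symm)
  · refine (hcl c hc).resolve_right fun h => hnr ?_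
    obtain ⟨g, hg⟩ := isConj_iff.1 h.symm
    exact hg ▸ hz.conj g

/-- Elements of order three commuting with a conjugate of `z`. -/
theorem centZ_cent {y : G} (hy : orderOf y = 3) (h : CentZ z y) :
    Nat.card ↥(centralizer ({y} : Set G)) = 1080 ∧
      ∀ c, orderOf c = 2 → c * y = y * c → IsConj z c := by
  obtain ⟨k, r, -, -, hcase, -, hnr, -, -, hk, hki, -⟩ := three_data S
  rcases hcase y hy with hc | hc
  · obtain ⟨g, rfl⟩ := isConj_iff.1 hc.symm
    refine ⟨card_centralizer_conj.trans hk, fun c hc2 hcy => ?_⟩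
    have h1 : IsConj z (g⁻¹ * c * g) := hki _ (by
      have e := ord_conj g⁻¹ c
      rw [inv_inv] at e
      rw [e, hc2]) (by
      calc g⁻¹ * c * g * k = g⁻¹ * (c * (g * k * g⁻¹)) * g := by group
        _ = g⁻¹ * ((g * k * g⁻¹) * c) * g := by rw [hcy]
        _ = k * (g⁻¹ * c * g) := by group)
    exact h1.trans (isConj_iff.2 ⟨g, by group⟩)
  · obtain ⟨g, hg⟩ := isConj_iff.1 hc
    exact absurd (hg ▸ h.conj g) hnr

/-- Elements of order three commuting with no conjugate of `z`. -/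
theorem not_centZ_cent {y : G} (hy : orderOf y = 3) (h : ¬ CentZ z y) :
    Nat.card ↥(centralizer ({y} : Set G)) = 36 ∧
      (∃ W : Subgroup G, Nat.card ↥W = 4 ∧ W ≤ centralizer ({y} : Set G) ∧ (∀ w ∈ W, w * w = 1) ∧
        ∀ c ∈ centralizer ({y} : Set G), ∀ w ∈ W, c * w * c⁻¹ ∈ W) ∧
      ∀ y', orderOf y' = 3 → ¬ CentZ z y' → IsConj y y' := by
  obtain ⟨k, r, -, -, hcase, hvk, hnr, -, hr, -, -, -⟩ := three_data S
  have key : ∀ y', orderOf y' = 3 → ¬ CentZ z y' → IsConj y' r := fun y' hy' h' =>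
    (hcase y' hy').resolve_left fun hc => by
      obtain ⟨g, hg⟩ := isConj_iff.1 hc.symm
      exact h' (hg ▸ hvk.conj g)
  refine ⟨?_, ?_, fun y' hy' h' => (key y hy h).trans (key y' hy' h').symm⟩
  all_goals obtain ⟨g, rfl⟩ := isConj_iff.1 (key y hy h).symm
  · exact card_centralizer_conj.trans hr.1
  obtain ⟨W, hWc, hWr, hW2, hWn⟩ := hr.2
  refine ⟨W.map (MulAut.conj g).toMonoidHom, (card_map_of_injective (MulAut.conj g).injective).trans hWc,
    ?_, ?_, ?_⟩
  · rintro _ ⟨w, hw, rfl⟩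
    refine mem_centralizer_singleton_iff.2 ?_
    show g * w * g⁻¹ * (g * r * g⁻¹) = g * r * g⁻¹ * (g * w * g⁻¹)
    rw [show g * w * g⁻¹ * (g * r * g⁻¹) = g * (w * r) * g⁻¹ by group,
      mem_centralizer_singleton_iff.1 (hWr hw)]
    group
  · rintro _ ⟨w, hw, rfl⟩
    show g * w * g⁻¹ * (g * w * g⁻¹) = 1
    rw [show g * w * g⁻¹ * (g * w * g⁻¹) = g * (w * w) * g⁻¹ by group, hW2 w hw]; group
  · rintro c hc _ ⟨w, hw, rfl⟩
    have hc' : g⁻¹ * c * g ∈ centralizer ({r} : Set G) := mem_centralizer_singleton_iff.2 (by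
      calc g⁻¹ * c * g * r = g⁻¹ * (c * (g * r * g⁻¹)) * g := by group
        _ = g⁻¹ * ((g * r * g⁻¹) * c) * g := by rw [mem_centralizer_singleton_iff.1 hc]
        _ = r * (g⁻¹ * c * g) := by group)
    refine ⟨g⁻¹ * c * g * w * (g⁻¹ * c * g)⁻¹, hWn _ hc' w hw, ?_⟩
    show g * _ * g⁻¹ = c * (g * w * g⁻¹) * c⁻¹
    group

/-- Two commuting elements of order three centralising conjugates of `z` generate the same group. -/
theorem centZ_comm {y y' : G} (hy : orderOf y = 3) (hy' : orderOf y' = 3) (hc : y * y' = y' * y)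
    (h : CentZ z y) (h' : CentZ z y') : y' ∈ zpowers y := by
  haveI : Fact (Nat.Prime 3) := ⟨by norm_num⟩
  obtain ⟨k, r, hko, -, -, -, -, -, -, -, -, T, -, -, -, -, hT⟩ := three_data S
  have hP : IsPGroup 3 ↥(zpowers y ⊔ zpowers y') := by
    refine IsPGroup.to_sup_of_normal_right' ?_ ?_ ?_
    · exact IsPGroup.of_card (n := 1) (by rw [Nat.card_zpowers, hy]; norm_num)
    · exact IsPGroup.of_card (n := 1) (by rw [Nat.card_zpowers, hy']; norm_num)
    · rw [zpowers_le]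
      refine mem_normalizer_iff.2 fun a => ?_
      constructor
      · intro ha
        obtain ⟨i, rfl⟩ := mem_zpowers_iff.1 ha
        rw [((show Commute y y' from hc).zpow_right i).eq, mul_inv_cancel_right]
        exact zpow_mem (mem_zpowers _) i
      · intro ha
        obtain ⟨i, hi⟩ := mem_zpowers_iff.1 ha
        refine mem_zpowers_iff.2 ⟨i, ?_⟩
        calc y' ^ i = y⁻¹ * (y * y' ^ i) := by group
          _ = y⁻¹ * (y' ^ i * y) := by rw [((show Commute y y' from hc).zpow_right i).eq]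
          _ = a := by rw [hi]; group
  obtain ⟨U, hU⟩ := hP.exists_le_sylow
  obtain ⟨d, hd⟩ := MulAction.exists_smul_eq G U T
  have hmem : ∀ a, a ∈ zpowers y ⊔ zpowers y' → d * a * d⁻¹ ∈ (T : Subgroup G) := by
    intro a ha
    rw [← hd, Sylow.coe_subgroup_smul]
    exact ⟨a, hU ha, rfl⟩
  have h1 := hT _ (hmem y (mem_sup_left (mem_zpowers y))) (h.conj d)
  have h2 := hT _ (hmem y' (mem_sup_right (mem_zpowers y'))) (h'.conj d)
  have hk1 : zpowers (d * y * d⁻¹) = zpowers k := eq_of_le_of_card_ge (zpowers_le.2 h1)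
    (by rw [Nat.card_zpowers, Nat.card_zpowers, hko, ord_conj, hy])
  rw [← hk1] at h2
  obtain ⟨i, hi⟩ := mem_zpowers_iff.1 h2
  refine mem_zpowers_iff.2 ⟨i, ?_⟩
  rw [conj_zpow] at hi
  exact mul_left_cancel (mul_right_cancel hi)

end CfsgLib.StructB.CoA9.HJ
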