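import Cfsg.Agent.Lib.StructB.CoA9.Model

/-!
Every isometry of the six-dimensional space of plus type is induced by a permutation.
-/

set_option autoImplicit false
set_option maxRecDepth 20000
set_option synthInstance.maxSize 2000
set_option Elab.async false

namespace CfsgLib.StructB.CoA9

open CfsgLib.Trans3.ExtraTwo CfsgLib.ClassK.Conway

/-- Consecutive pairs of points. -/
def chain (m : Fin 6) : Fin 8 × Fin 8 := (⟨m.1, by omega⟩, ⟨m.1 + 1, by omega⟩)

/-- The vectors of the consecutive pairs. -/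
def cv (m : Fin 6) : Sp 3 := pairVec (chain m).1 (chain m).2

/-- A permutation completing the match of the next pair. -/
def wit (k : Fin 6) (i j : Fin 8) : Equiv.Perm (Fin 8) :=
  if k = 0 then Equiv.swap (Equiv.swap 0 i 1) j * Equiv.swap 0 i
  else if k = 1 then
    (if i = 0 then Equiv.swap 0 1 * Equiv.swap 2 j
      else if i = 1 then Equiv.swap 2 j else Equiv.swap 0 1 * Equiv.swap 2 i)
  else if i = (chain k).1 then Equiv.swap (chain k).2 j else Equiv.swap (chain k).2 i

/-- Number of common points modulo two. -/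
def ov (p q : Fin 8 × Fin 8) : ZMod 2 :=
  ((if p.1 = q.1 then 1 else 0) + (if p.1 = q.2 then 1 else 0)) +
    ((if p.2 = q.1 then 1 else 0) + (if p.2 = q.2 then 1 else 0))

/-- Equality of unordered pairs. -/
def sameP (p q : Fin 8 × Fin 8) : Prop :=
  p.1 = q.1 ∧ p.2 = q.2 ∨ p.1 = q.2 ∧ p.2 = q.1

instance (p q : Fin 8 × Fin 8) : Decidable (sameP p q) := by unfold sameP; infer_instance

theorem wit_spec : ∀ (k : Fin 6) (i j : Fin 8), i < j →
    (∀ m, m < k → ov (i, j) (chain m) = ov (chain k) (chain m) ∧ ¬ sameP (i, j) (chain m)) →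
    sameP (wit k i j (chain k).1, wit k i j (chain k).2) (i, j) ∧
      ∀ m, m < k → sameP (wit k i j (chain m).1, wit k i j (chain m).2) (chain m) := by
  decide +kernel

theorem chain_ne : ∀ m, (chain m).1 ≠ (chain m).2 := by decide

theorem cv_total : ∀ c : Sp 3, (∀ m, alt c (cv m) = 0) → c = 0 := by decide +kernel

theorem pairVec_comm (i j : Fin 8) : pairVec i j = pairVec j i := by
  rw [pairVec, pairVec, add_comm]

theorem pairVec_same {p q : Fin 8 × Fin 8} (h : sameP p q) : pairVec p.1 p.2 = pairVec q.1 q.2 := by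
  rcases h with ⟨h1, h2⟩ | ⟨h1, h2⟩
  · rw [h1, h2]
  · rw [h1, h2, pairVec_comm]

theorem exists_match {f : Sp 3 → Sp 3} (hf : Isom f) :
    ∀ k : ℕ, k ≤ 6 → ∃ σ : Equiv.Perm (Fin 8), ∀ m : Fin 6, m.1 < k → psi σ (cv m) = f (cv m) := by
  intro k hk
  induction k with
  | zero => exact ⟨1, fun m hm => absurd hm (Nat.not_lt_zero _)⟩
  | succ k ih =>
    obtain ⟨σ, hσ⟩ := ih (by omega)
    set K : Fin 6 := ⟨k, by omega⟩
    have hfix : ∀ m : Fin 6, m < K → psi σ⁻¹ (f (cv m)) = cv m := fun m hm => by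
      rw [← hσ m hm, ← psi_mul, inv_mul_cancel, psi_one]
    have hg : Isom (psi σ⁻¹ ∘ f) := (psi_isom σ⁻¹).comp hf
    have hq : qd (psi σ⁻¹ (f (cv K))) = 1 :=
      (hg.map_qd (cv K)).trans (refl_pairVec _ _ (chain_ne K)).1
    obtain ⟨i, j, hij, hw⟩ := pairVec_cases _ hq
    have hcond : ∀ m, m < K → ov (i, j) (chain m) = ov (chain K) (chain m) ∧
        ¬ sameP (i, j) (chain m) := fun m hm => by
      refine ⟨?_, fun h => ?_⟩
      · have h1 := hg.map_alt (cv K) (cv m)
        rw [Function.comp_apply, Function.comp_apply, hfix m hm, ← hw, cv, cv,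
          alt_pairVec _ _ _ _ hij.ne (chain_ne m), alt_pairVec _ _ _ _ (chain_ne K) (chain_ne m)] at h1
        exact h1
      · have h1 : pairVec i j = cv m := pairVec_same (p := (i, j)) h
        rw [hw, ← hfix m hm] at h1
        have h2 := hg.injective h1
        have h3 := congrArg (fun v => alt v (cv m)) h2
        have : ∀ a b : Fin 6, cv a = cv b → a = b := by decide +kernel
        exact absurd (this _ _ h2).symm hm.ne
    obtain ⟨hK, hm'⟩ := wit_spec K i j hij hcond
    refine ⟨σ * wit K i j, fun m hm => ?_⟩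
    rw [psi_mul]
    rcases Nat.lt_succ_iff_lt_or_eq.1 hm with h | h
    · rw [cv, psi_pairVec _ (chain_ne m)]
      exact (congrArg (psi σ) (pairVec_same
        (p := (wit K i j (chain m).1, wit K i j (chain m).2)) (hm' m h))).trans (hσ m h)
    · obtain rfl : m = K := Fin.ext h
      rw [cv, psi_pairVec _ (chain_ne K)]
      refine (congrArg (psi σ) (pairVec_same
        (p := (wit K i j (chain K).1, wit K i j (chain K).2)) hK)).trans ?_
      rw [hw, ← psi_mul, mul_inv_cancel, psi_one]
      rfl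

theorem isom_eq_psi {f : Sp 3 → Sp 3} (hf : Isom f) : ∃ σ, ∀ v, f v = psi σ v := by
  obtain ⟨σ, hσ⟩ := exists_match hf 6 le_rfl
  refine ⟨σ, fun v => ?_⟩
  have hg : Isom (psi σ⁻¹ ∘ f) := (psi_isom σ⁻¹).comp hf
  have hfix : ∀ m, (psi σ⁻¹ ∘ f) (cv m) = cv m := fun m => by
    rw [Function.comp_apply, ← hσ m m.2, ← psi_mul, inv_mul_cancel, psi_one]
  have h0 : psi σ⁻¹ (f v) + v = 0 := cv_total _ fun m => by
    have h := hg.map_alt v (cv m)
    rw [hfix m, Function.comp_apply] at h
    rw [alt_add_left, h, z2_add_self]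
  have h1 : psi σ⁻¹ (f v) = v := by
    calc psi σ⁻¹ (f v) = psi σ⁻¹ (f v) + v + v := by rw [add_assoc, sp_add_self, add_zero]
      _ = v := by rw [h0, zero_add]
  conv_rhs => rw [← h1, ← psi_mul, mul_inv_cancel, psi_one]

end CfsgLib.StructB.CoA9
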