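import Cfsg.Agent.Lib.StructB.CoA9.AltNine
import Cfsg.Agent.Lib.ClassK.ConwayBC
import Cfsg.Agent.Lib.ClassK.ConwaySep
import Cfsg.Agent.Lib.Invol.BrauerSuzuki

/-!
The involution `q` is isolated in the normaliser of `⟨ρ⟩`.
-/

set_option autoImplicit false
set_option maxRecDepth 20000
set_option synthInstance.maxSize 2000

namespace CfsgLib.StructB.CoA9

open Subgroup CfsgLib.Trans3.ExtraTwo CfsgLib.ClassK.Conway Equiv

local notation "A8" => alternatingGroup (Fin 8)

/-- An involutory isometry moving a singular point as a Siegel element does. -/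
def HasPoint (f : Sp 3 → Sp 3) : Prop :=
  ∃ w, f w + w ≠ 0 ∧ qd (f w + w) = 0 ∧
    ∀ v, alt v (f w + w) = 0 → f v + v = 0 ∨ f v + v = f w + w

theorem point_double : HasPoint (psi (swap 0 1 * swap 2 3 : Perm (Fin 8))) := by
  unfold HasPoint; decide +kernel

theorem point_four : HasPoint (psi (swap 0 1 * swap 2 3 * swap 4 5 * swap 6 7 : Perm (Fin 8))) := by
  unfold HasPoint; decide +kernel

theorem type_two {p : Perm (Fin 8)} (h2 : p * p = 1) (h1 : p ≠ 1) {n : ℕ}
    (hn : p.support.card = n * 2) : p.cycleType = Multiset.replicate n 2 := by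
  have ho : orderOf p = 2 := by
    haveI : Fact (Nat.Prime 2) := ⟨Nat.prime_two⟩
    exact orderOf_eq_prime (by rw [pow_two, h2]) h1
  obtain ⟨m, hm⟩ := Perm.cycleType_prime_order (ho.symm ▸ Nat.prime_two : (orderOf p).Prime)
  rw [ho] at hm
  have hs := p.sum_cycleType
  rw [hm, Multiset.sum_replicate, smul_eq_mul, hn] at hs
  rw [hm, Nat.eq_of_mul_eq_mul_right (by norm_num : 0 < 2) hs]

theorem double_type : (swap 0 1 * swap 2 3 : Perm (Fin 8)).cycleType = Multiset.replicate 2 2 :=
  type_two (by decide) (by decide) (by decide +kernel)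

theorem four_type : (swap 0 1 * swap 2 3 * swap 4 5 * swap 6 7 : Perm (Fin 8)).cycleType =
    Multiset.replicate 4 2 :=
  type_two (by decide) (by decide) (by decide +kernel)

theorem HasPoint.transfer {p q : Perm (Fin 8)} (hc : IsConj p q) (h : HasPoint (psi p)) :
    HasPoint (psi q) := by
  obtain ⟨π, rfl⟩ := isConj_iff.1 hc
  obtain ⟨w, h1, h2, h3⟩ := h
  have hi := psi_isom π
  have key : ∀ v, psi (π * p * π⁻¹) (psi π v) + psi π v = psi π (psi p v + v) := fun v => by
    rw [← psi_mul, inv_mul_cancel_right, psi_mul, hi.map_add]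
  refine ⟨psi π w, ?_, ?_, fun v hv => ?_⟩
  · rw [key]; exact fun h => h1 (hi.injective (h.trans hi.map_zero.symm))
  · rw [key, hi.map_qd, h2]
  · obtain ⟨u, rfl⟩ := hi.surjective v
    rw [key, hi.map_alt] at hv
    rw [key, key]
    rcases h3 u hv with h | h
    · exact Or.inl (by rw [h, hi.map_zero])
    · exact Or.inr (by rw [h])

theorem point_of_invol (σ : A8) (h2 : σ * σ = 1) (h1 : σ ≠ 1) : HasPoint (psi σ.1) := by
  have ho : orderOf σ.1 = 2 := by
    haveI : Fact (Nat.Prime 2) := ⟨Nat.prime_two⟩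
    refine orderOf_eq_prime ?_ fun h => h1 (Subtype.ext h)
    rw [pow_two]; exact congrArg Subtype.val h2
  obtain ⟨n, hn⟩ := Perm.cycleType_prime_order (ho.symm ▸ Nat.prime_two : (orderOf σ.1).Prime)
  rw [ho] at hn
  have hs := σ.1.sum_cycleType
  have hle := Finset.card_le_univ σ.1.support
  rw [hn, Multiset.sum_replicate, smul_eq_mul] at hs
  rw [Fintype.card_fin] at hle
  have hsign := Perm.mem_alternatingGroup.1 σ.2
  rw [Perm.sign_of_cycleType, hn, Multiset.sum_replicate, Multiset.card_replicate, smul_eq_mul] at hsign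
  have hn4 : n < 4 := by omega
  interval_cases n
  · exact absurd hsign (by decide)
  · exact HasPoint.transfer (Perm.isConj_iff_cycleType_eq.2 (double_type.trans hn.symm)) point_double
  · exact absurd hsign (by decide)
  · exact HasPoint.transfer (Perm.isConj_iff_cycleType_eq.2 (four_type.trans hn.symm)) point_four

universe u

variable {G : Type u} [Group G] {z : G} {Q : Subgroup G} {e : ↥Q ≃* ES 4 (ff 4)} {ρ : G}
variable [Finite G] (T : Tri z Q e ρ)
include T

/-- A central involution in the radical of the pair has proportional slots. -/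
theorem inU_zclass {i j : ZMod 2} {a b : Sp 3} (hz : IsConj z (nm z e ρ i j a b))
    (h : nm z e ρ i j a b * nm z e ρ i j a b = 1) : a = 0 ∨ b = 0 ∨ a = b := by
  by_contra hcon
  rw [not_or, not_or] at hcon
  obtain ⟨ha, hb, hab⟩ := hcon
  have hsq := h
  rw [T.nm_mul] at hsq
  obtain ⟨q1, q2, -, -⟩ := T.nm_eq_one hsq
  have qb : qd b = alt a b :=
    (by decide : ∀ i p q : ZMod 2, i + i + p + q = 0 → q = p) i _ _ (alt_comm a b ▸ q1)
  have qa : qd a = alt a b :=
    (by decide : ∀ i p q : ZMod 2, i + i + p + q = 0 → q = p) j _ _ (alt_comm a b ▸ q2)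
  obtain ⟨-, -, -, -, -, -, -, -, -, -, -, -, hn, n1, n2, n3', n4'⟩ := basic_facts
  have tr : ∀ {A B : Sp 3}, (∃ c, CE z e c ∧ c * nm z e ρ i j a b * c⁻¹ = nm z e ρ 0 0 A B) →
      IsConj z (nm z e ρ 0 0 A B) := fun ⟨c, _, hc⟩ => hz.trans (isConj_iff.2 ⟨c, hc⟩)
  rcases z2_cases (alt a b) with hB | hB <;> rw [hB] at qa qb
  · exact T.not_conj_sing (tr (T.pair_conj n1 n2 (by decide +kernel)
      (to_sing_pair qa qb hB ha hb hab) i j))
  · exact T.not_conj_ell (tr (T.pair_conj n3' n4' (by decide +kernel)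
      (to_ell_pair qa qb hB) i j))

/-- An involution of the radical of central type centralises what it fixes. -/
theorem inU_commute {i j : ZMod 2} {a b : Sp 3} (hz : IsConj z (nm z e ρ i j a b))
    (h : nm z e ρ i j a b * nm z e ρ i j a b = 1) (hne : a ≠ 0) {q : G} (hq : q ∈ Q)
    (hfix : act e (nm z e ρ i j a b) (pi e q) = pi e q) :
    q * nm z e ρ i j a b = nm z e ρ i j a b * q := by
  have S := T.setup
  obtain ⟨v, k, rfl⟩ := Setup.exists_el (e := e) hq
  rw [Setup.pi_el] at hfix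
  obtain ⟨σ, τ, w, rfl, -, -⟩ := decomp v
  have hH : nm z e ρ i j a b ∈ centralizer ({z} : Set G) := Tri.memH (T.nm_ce _ _ _ _)
  have hyH : yl e ρ a ∈ centralizer ({z} : Set G) := Tri.memH (T.yl_ce _)
  have heH : ep z e i j ∈ centralizer ({z} : Set G) := S.pack.mem_centralizer_z (T.ep_memQ i j)
  have hdH : dl e b ∈ centralizer ({z} : Set G) := S.mem_H
  have hact : ∀ v, act e (nm z e ρ i j a b) v = act e (yl e ρ a) v := fun v => by
    rw [nm, S.act_mul heH (mul_mem hyH hdH), S.act_mul hyH hdH,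
      S.act_mem (T.ep_memQ _ _), S.act_mem (show dl e b ∈ Q from Setup.el_mem _ _)]
  obtain ⟨he, hf, hu⟩ := T.act_yl a
  have hi := S.act_isom hyH
  rw [hact, hi.map_add, hi.map_add, smul_map hi, smul_map hi, he, hf, hu] at hfix
  rcases z2_cases τ with rfl | rfl
  swap
  · exfalso
    refine hne ?_
    rw [one_smul, one_smul] at hfix
    have := congrArg (fun u : Sp 4 => fun m : Fin 3 => u m.succ) hfix
    simp only [Pi.add_apply, Pi.smul_apply, up, Fin.cons_succ, e0, f0] at this
    funext m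
    have hm := congrFun this m
    fin_cases m <;> simpa using hm
  rw [zero_smul, zero_smul, add_zero] at hfix
  have haw : alt w a = 0 := by
    have := congrArg (fun u => alt u f0) hfix
    simp only [alt_add_left, alt_smul_left, (beta_e0_up w).2.2.2.2.2, alt_comm (up w) f0,
      basic_facts.2.2.1, mul_one, add_zero] at this
    exact add_eq_left.1 this
  have hab : alt w b = 0 := by
    rcases inU_zclass T hz h with h0 | h0 | h0
    · exact absurd h0 hne
    · rw [h0, alt_zero_right]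
    · rw [← h0, haw]
  rw [zero_smul, add_zero, T.el_split]
  have hd := T.dl_comm_nm w a b
  rw [haw, hab, add_zero, T.ep_zero, one_mul] at hd
  have hsplit : nm z e ρ i j a b = ep z e i j * nm z e ρ 0 0 a b := by
    rw [nm, nm, T.ep_zero, one_mul]
  have hdc : dl e w * nm z e ρ i j a b = nm z e ρ i j a b * dl e w := by
    rw [hsplit, ← mul_assoc, T.ce_ep (T.dl_ce w), mul_assoc, hd, mul_assoc]
  rw [mul_assoc, hdc, ← mul_assoc, ← T.ce_ep (T.nm_ce i j a b), mul_assoc]

/-- An involution moving a fixed element of `Q` as a Siegel element is not of central type. -/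
theorem not_conj_of_point {t : G} (htH : t ∈ centralizer ({z} : Set G)) (ht2 : t * t = 1)
    {w : Sp 4} (hp : act e t w + w ≠ 0) (hq : qd (act e t w + w) = 0)
    (hperp : ∀ v, alt v (act e t w + w) = 0 → act e t v + v = 0 ∨ act e t v + v = act e t w + w)
    {q : G} (hqQ : q ∈ Q) (hfix : act e t (pi e q) = pi e q) (hne : q * t ≠ t * q) :
    ¬ IsConj z t := fun hz => by
  have S := T.setup
  obtain ⟨c, hc, hcw⟩ := S.exists_to_e0 hq hp
  have hCE := S.to_CE htH ht2 hc hcw
  have hci := S.act_isom hc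
  set s := c * t * c⁻¹ with hs
  have hs2 : s * s = 1 := conj_invol ht2
  have hsH : s ∈ centralizer ({z} : Set G) := mul_mem (mul_mem hc htH) (inv_mem hc)
  have hsig : ∀ w', sig e s w' = w' := by
    intro w'
    obtain ⟨y, hy⟩ := hci.surjective (up w')
    have hyp : alt y (act e t w + w) = 0 := by
      rw [← hci.map_alt, hy, hcw, alt_comm, (beta_e0_up w').2.2.2.2.1]
    have h := T.sig_of_comm hCE w'
    rw [← hy, S.act_conj hc htH, ← hci.map_add] at h
    generalize alt (act e c (act e t y)) f0 = ε at h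
    have h2 : ∀ δ : ZMod 2, δ • e0 = ε • e0 + up (sig e s w' + w') → sig e s w' = w' := by
      intro δ hδ
      have e1 : sig e s w' + w' = 0 := by
        funext m
        have := congrFun hδ m.succ
        simp only [Pi.add_apply, Pi.smul_apply, up, Fin.cons_succ] at this
        fin_cases m <;> simpa [e0] using this.symm
      calc sig e s w' = sig e s w' + w' + w' := by rw [add_assoc, sp_add_self, add_zero]
        _ = w' := by rw [e1, zero_add]
    rcases hperp y hyp with h0 | h0 <;> rw [h0] at h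
    · rw [hci.map_zero] at h
      exact h2 0 (by rw [zero_smul]; exact h)
    · rw [hcw] at h
      exact h2 1 (by rw [one_smul]; exact h)
  obtain ⟨i, j, a, b, hU⟩ := T.inU_of_sig hCE hsig
  have hzs : IsConj z s := hz.trans (isConj_iff.2 ⟨c, rfl⟩)
  have ha : a ≠ 0 := by
    rintro rfl
    refine hp ?_
    have h1 : act e s (act e c w) = act e c w := by
      rw [hU, S.act_mem (T.nm_memQ i j b)]
    rw [hs, S.act_conj hc htH] at h1
    rw [hci.injective h1, sp_add_self]
  have hqc : c * q * c⁻¹ ∈ Q := S.conj_mem hc hqQ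
  obtain ⟨v, k, rfl⟩ := Setup.exists_el (e := e) hqQ
  obtain ⟨k', hk'⟩ := S.conj_el hc v k
  rw [Setup.pi_el] at hfix
  have h3 := inU_commute T (hU ▸ hzs) (hU ▸ hs2) ha hqc (by
    rw [← hU, hk', Setup.pi_el, hs, S.act_conj hc htH, hfix])
  rw [← hU, hs] at h3
  refine hne ?_
  calc el e v k * t = c⁻¹ * (c * el e v k * c⁻¹ * (c * t * c⁻¹)) * c := by group
    _ = c⁻¹ * (c * t * c⁻¹ * (c * el e v k * c⁻¹)) * c := by rw [h3]
    _ = t * el e v k := by group

/-- The translates of `q` by involutions of the complement are not of central type. -/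
theorem qe_lam_not_conj {σ : A8} (h2 : σ * σ = 1) (h1 : σ ≠ 1) :
    ¬ IsConj z (qe e * lam T σ) := by
  have S := T.setup
  obtain ⟨w, hw0, hwq, hperp⟩ := point_of_invol σ h2 h1
  obtain ⟨hz, hx, -, hq⟩ := lam_comm T σ
  have hqQ : qe e ∈ Q := Setup.el_mem _ _
  have hH : lam T σ ∈ centralizer ({z} : Set G) := mem_centralizer_singleton_iff.2 hz
  have htH : qe e * lam T σ ∈ centralizer ({z} : Set G) :=
    mul_mem (S.pack.mem_centralizer_z hqQ) hH
  have hact : ∀ v, act e (qe e * lam T σ) v = act e (lam T σ) v := fun v => by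
    rw [S.act_mul (S.pack.mem_centralizer_z hqQ) hH, S.act_mem hqQ]
  obtain ⟨hlf, hlu⟩ := T.lev_act (lam_lev T σ)
  have hup : ∀ u, act e (qe e * lam T σ) (up u) + up u = up (psi σ.1 u + u) := fun u => by
    rw [hact, hlu, sig_lam, up_add]
  have hi := S.act_isom hH
  refine not_conj_of_point T htH ?_ (w := up w) ?_ ?_ ?_ (q := xe e) (Setup.el_mem _ _) ?_ ?_
  · rw [mul_assoc, ← mul_assoc (lam T σ), hq, mul_assoc (qe e), ← map_mul, h2, map_one, mul_one]
    exact S.xe_facts.2.2.2.2.2.1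
  · rw [hup]; exact fun h => hw0 (up_inj (h.trans up_zero.symm))
  · rw [hup, qd_up, hwq]
  · intro v hv
    obtain ⟨s, t, u, rfl, -, -⟩ := decomp v
    rw [hup] at hv ⊢
    simp only [alt_add_left, alt_smul_left, (beta_e0_up _).2.2.2.2.1, (beta_e0_up _).2.2.2.2.2,
      alt_up, mul_zero, zero_add] at hv
    have e1 : act e (qe e * lam T σ) (s • e0 + t • f0 + up u) + (s • e0 + t • f0 + up u) =
        up (psi σ.1 u + u) := by
      rw [hact, hi.map_add, hi.map_add, smul_map hi, smul_map hi, hlf, T.act_e0 (lam_lev T σ).1,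
        hlu, sig_lam, ← up_add]
      calc s • e0 + t • f0 + up (psi σ.1 u) + (s • e0 + t • f0 + up u)
          = (s • e0 + s • e0) + (t • f0 + t • f0) + (up (psi σ.1 u) + up u) := by abel
        _ = _ := by rw [sp_add_self, sp_add_self, zero_add, zero_add]
    rw [e1]
    rcases hperp u hv with h | h
    · exact Or.inl (by rw [h, up_zero])
    · exact Or.inr (by rw [h])
  · rw [xe, Setup.pi_el, hact, T.act_e0 (lam_lev T σ).1]
  · intro h
    refine S.pack.z_ne ?_
    rw [mul_assoc, hx, ← mul_assoc, ← mul_assoc] at h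
    have h5 := mul_right_cancel h
    have h6 := S.xe_facts.2.2.2.2.2.2
    rw [← h5, mul_assoc, S.xe_facts.2.2.2.2.2.1, mul_one] at h6
    exact mul_eq_left.1 h6.symm

variable {pt : Fin 9 → G} {θ : ↥(RR e ρ) ≃* alternatingGroup (Fin 9)}

omit T in
theorem Nine.exists_to_last {T : Tri z Q e ρ} (N : Nine T pt θ) (hz : ∀ i, ∃ s ∈ RR e ρ, s * z * s⁻¹ = pt i)
    {r : G} (hr : r ∈ RR e ρ) (hr2 : r * r = 1) :
    ∃ s ∈ RR e ρ, ∃ σ, lam T σ = s⁻¹ * r * s := by
  classical
  set p := (θ ⟨r, hr⟩).1 with hp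
  obtain ⟨i, hi⟩ : ∃ i, p i = i := by
    by_contra hcon
    push Not at hcon
    have hp2 : p ^ 2 = 1 := by
      have : θ ⟨r, hr⟩ * θ ⟨r, hr⟩ = 1 := by
        rw [← map_mul, show (⟨r, hr⟩ : ↥(RR e ρ)) * ⟨r, hr⟩ = 1 from Subtype.ext hr2, map_one]
      rw [pow_two, hp]; exact congrArg Subtype.val this
    have hdvd : 2 ∣ p.support.card := by
      rw [← Perm.sum_cycleType]
      refine Multiset.dvd_sum fun x hx => ?_
      haveI : Fact (Nat.Prime 2) := ⟨Nat.prime_two⟩
      have := (Perm.dvd_of_mem_cycleType hx).trans (orderOf_dvd_of_pow_eq_one hp2)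
      rw [(Nat.prime_two.eq_one_or_self_of_dvd x this).resolve_left (Perm.one_lt_of_mem_cycleType hx).ne']
    rw [show p.support = Finset.univ from Finset.eq_univ_of_forall fun i => Perm.mem_support.2 (hcon i),
      Finset.card_univ, Fintype.card_fin] at hdvd
    norm_num at hdvd
  obtain ⟨s, hs, hsi⟩ := hz i
  refine ⟨s, hs, cent_z_RR T (mul_mem (mul_mem (inv_mem hs) hr) hs) ?_⟩
  have h := N.act ⟨r, hr⟩ i
  rw [← hp, hi, ← hsi] at h
  change r * (s * z * s⁻¹) * r⁻¹ = s * z * s⁻¹ at h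
  refine mul_inv_eq_iff_eq_mul.1 ?_
  calc s⁻¹ * r * s * z * (s⁻¹ * r * s)⁻¹ = s⁻¹ * (r * (s * z * s⁻¹) * r⁻¹) * s := by group
    _ = z := by rw [h]; group

omit T in
theorem Nine.qe_mul_not_conj {T : Tri z Q e ρ} (N : Nine T pt θ)
    (hz : ∀ i, ∃ s ∈ RR e ρ, s * z * s⁻¹ = pt i) {r : G} (hr : r ∈ RR e ρ) (hr2 : r * r = 1)
    (hr1 : r ≠ 1) : ¬ IsConj z (qe e * r) := by
  obtain ⟨s, hs, σ, hσ⟩ := N.exists_to_last hz hr hr2
  have h2 : σ * σ = 1 := lam_injective T (by
    rw [map_mul, map_one, hσ, show s⁻¹ * r * s * (s⁻¹ * r * s) = s⁻¹ * (r * r) * s by group, hr2]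
    group)
  have h1 : σ ≠ 1 := fun h => hr1 (by
    rw [h, map_one] at hσ
    calc r = s * (s⁻¹ * r * s) * s⁻¹ := by group
      _ = 1 := by rw [← hσ]; group)
  intro h
  refine qe_lam_not_conj T h2 h1 (h.trans (isConj_iff.2 ⟨s⁻¹, ?_⟩))
  have hsq : Commute s⁻¹ (qe e) := Commute.inv_left (mem_RR.1 hs).1
  rw [hσ, inv_inv, ← mul_assoc, hsq.eq]; group

end CfsgLib.StructB.CoA9
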