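import Cfsg.Agent.Lib.StructB.CoA9.Quot
import Mathlib.GroupTheory.SpecificGroups.Alternating

/-!
The centraliser of the element of order five is `⟨b⟩ × L` with `L` of Hall-Janko type, and the
centraliser of `L` is the alternating group on the five points moved by `b`.
-/

set_option autoImplicit false
set_option maxRecDepth 20000
set_option synthInstance.maxSize 2000

namespace CfsgLib.StructB.CoA9

open Subgroup CfsgLib.Trans3.ExtraTwo CfsgLib.ClassK.Conway Equiv
open scoped commutatorElement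

local notation "A8" => alternatingGroup (Fin 8)

/-- The permutations fixing `5`, `6` and `7`. -/
def K567 : Subgroup A8 where
  carrier := {σ | σ.1 5 = 5 ∧ σ.1 6 = 6 ∧ σ.1 7 = 7}
  one_mem' := ⟨rfl, rfl, rfl⟩
  mul_mem' {σ τ} hs ht := ⟨by rw [Subgroup.coe_mul, Perm.mul_apply, ht.1, hs.1],
    by rw [Subgroup.coe_mul, Perm.mul_apply, ht.2.1, hs.2.1],
    by rw [Subgroup.coe_mul, Perm.mul_apply, ht.2.2, hs.2.2]⟩
  inv_mem' {σ} hs := ⟨σ.1.symm_apply_eq.2 hs.1.symm, σ.1.symm_apply_eq.2 hs.2.1.symm,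
    σ.1.symm_apply_eq.2 hs.2.2.symm⟩

theorem mem_K567 {σ : A8} : σ ∈ K567 ↔ σ.1 5 = 5 ∧ σ.1 6 = 6 ∧ σ.1 7 = 7 := Iff.rfl

theorem card_K567_le : Nat.card ↥K567 ≤ 60 := by
  classical
  let p : Fin 8 → Prop := fun i => i.1 < 5
  have hfix : ∀ (σ : ↥K567) (i : Fin 8), ¬ p i → σ.1.1 i = i := by
    intro σ i hi
    have hi' : i = 5 ∨ i = 6 ∨ i = 7 := (by decide : ∀ i : Fin 8, ¬ i.1 < 5 → i = 5 ∨ i = 6 ∨ i = 7) i hi
    rcases hi' with rfl | rfl | rfl
    exacts [σ.2.1, σ.2.2.1, σ.2.2.2]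
  have hp : ∀ (σ : ↥K567) (i : Fin 8), p (σ.1.1 i) ↔ p i := by
    intro σ i
    constructor
    · intro h
      by_contra hi
      exact hi ((congrArg p (hfix σ i hi)).mp h)
    · intro h
      by_contra hi
      exact hi ((congrArg p (σ.1.1.injective (hfix σ _ hi))).mpr h)
  let f : ↥K567 → ↥(alternatingGroup {i : Fin 8 // p i}) := fun σ =>
    ⟨σ.1.1.subtypePerm (hp σ), Perm.mem_alternatingGroup.2 (by
      rw [Perm.sign_subtypePerm σ.1.1 (hp σ) fun i hi => by
        by_contra h; exact hi (hfix σ i h)]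
      exact Perm.mem_alternatingGroup.1 σ.1.2)⟩
  have hf : Function.Injective f := by
    intro σ τ h
    refine Subtype.ext (Subtype.ext (Equiv.ext fun i => ?_))
    by_cases hi : p i
    · exact congrArg Subtype.val (Equiv.congr_fun (congrArg Subtype.val h) ⟨i, hi⟩)
    · rw [hfix σ i hi, hfix τ i hi]
  refine (Nat.card_le_card_of_injective f hf).trans ?_
  haveI : Nontrivial {i : Fin 8 // p i} := ⟨⟨⟨0, by decide⟩, ⟨1, by decide⟩, by decide⟩⟩
  rw [nat_card_alternatingGroup, Nat.card_eq_fintype_card,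
    show Fintype.card {i : Fin 8 // p i} = 5 by decide]
  rfl

theorem shift_cases : ∀ i : Fin 8, sx.1 i ≠ i → i = 5 ∨ i = 6 ∨ i = 7 := by decide

theorem commutator_fix {σ τ : A8} (hs : σ * sx = sx * σ) (ht : τ * sx = sx * τ) :
    ⁅σ, τ⁆ ∈ K567 := by
  have hval : ∀ {π : A8}, π * sx = sx * π → ∀ i, π.1 (sx.1 i) = sx.1 (π.1 i) := fun h i =>
    Equiv.congr_fun (congrArg Subtype.val h) i
  have hmove : ∀ {π : A8}, π * sx = sx * π → π.1 5 = 5 ∨ π.1 5 = 6 ∨ π.1 5 = 7 := by
    intro π h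
    refine shift_cases _ fun e => ?_
    rw [← hval h] at e
    exact absurd (π.1.injective e) (by decide)
  have hx : sx.1 5 = 6 ∧ sx.1 6 = 7 ∧ sx.1 7 = 5 := by decide
  have h67 : ∀ {π : A8}, π * sx = sx * π → π.1 6 = sx.1 (π.1 5) ∧ π.1 7 = sx.1 (sx.1 (π.1 5)) := by
    intro π h
    refine ⟨by rw [← hval h, hx.1], by rw [← hval h, hx.1, ← hval h, hx.2.1]⟩
  have key : σ.1 (τ.1 5) = τ.1 (σ.1 5) := by
    obtain ⟨s6, s7⟩ := h67 hs
    obtain ⟨t6, t7⟩ := h67 ht
    rcases hmove hs with a | a | a <;> rcases hmove ht with b | b | b <;>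
      simp [a, b, s6, s7, t6, t7, hx]
  have hc : ⁅σ, τ⁆ * sx = sx * ⁅σ, τ⁆ := by
    have h1 : Commute σ sx := hs
    have h2 : Commute τ sx := ht
    rw [commutatorElement_def]
    exact (((h1.mul_left h2).mul_left h1.inv_left).mul_left h2.inv_left).eq
  have h5 : (⁅σ, τ⁆ : A8).1 5 = 5 := by
    rw [commutatorElement_def]
    show σ.1 (τ.1 (σ.1.symm (τ.1.symm 5))) = 5
    set a := σ.1.symm (τ.1.symm 5)
    have h : τ.1 (σ.1 a) = 5 := by simp [a]
    -- `σ` and `τ` commute on the orbit of `5`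
    have hcomm : ∀ i, (i = 5 ∨ i = 6 ∨ i = 7) → σ.1 (τ.1 i) = τ.1 (σ.1 i) := by
      intro i hi
      have step : ∀ j, σ.1 (τ.1 j) = τ.1 (σ.1 j) → σ.1 (τ.1 (sx.1 j)) = τ.1 (σ.1 (sx.1 j)) := by
        intro j hj
        rw [hval ht, hval hs, hval hs, hval ht, hj]
      rcases hi with rfl | rfl | rfl
      · exact key
      · rw [← hx.1]; exact step 5 key
      · rw [← hx.2.1]; exact step 6 (by rw [← hx.1]; exact step 5 key)
    have ha : a = 5 ∨ a = 6 ∨ a = 7 := by
      refine shift_cases a fun e => ?_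
      have : sx.1 (τ.1 (σ.1 a)) = τ.1 (σ.1 a) := by rw [← hval ht, ← hval hs, e]
      rw [h, hx.1] at this
      exact absurd this (by decide)
    rw [hcomm a ha, h]
  obtain ⟨h6, h7⟩ := h67 hc
  exact ⟨h5, by rw [h6, h5, hx.1], by rw [h7, h5, hx.1, hx.2.1]⟩

universe u

variable {G : Type u} [Group G] {z : G} {Q : Subgroup G} {e : ↥Q ≃* ES 4 (ff 4)} {ρ : G}
variable [Finite G]

/-- The data on the centraliser of the element of order five. -/
structure FiveL (T : Tri z Q e ρ) (L : Subgroup G) : Prop where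
  cent : ∀ l ∈ L, l * bb T = bb T * l
  norm : ∀ c, c * bb T = bb T * c → ∀ l ∈ L, c * l * c⁻¹ ∈ L
  fac : ∀ c, c * bb T = bb T * c → ∃ l ∈ L, ∃ i : ℕ, c = l * bb T ^ i
  mem : ∀ c, c * bb T = bb T * c → ∀ n : ℕ, n.Coprime 5 → c ^ n = 1 → c ∈ L
  inter : ∀ i : ℕ, bb T ^ i ∈ L → bb T ^ i = 1
  comm : ∀ σ ∈ K567, ∀ l ∈ L, lam T σ * l = l * lam T σ
  data : ∃ (J : Type u) (_ : Group J) (_ : Finite J) (χ : ↥L ≃* J) (zJ : J) (QJ : Subgroup J),
    InvChar.HJType.Data zJ QJ ∧ ∀ hz : z ∈ L, IsConj zJ (χ ⟨z, hz⟩)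

theorem exists_fiveL (T : Tri z Q e ρ) (hq : HasOmega z Q) : ∃ L, FiveL T L := by
  classical
  obtain ⟨L, hLC, hidx, hL, hnorm, ⟨eC⟩⟩ := exists_layer T hq
  set b := bb T with hbdef
  set CBb := centralizer ({b} : Set G)
  obtain ⟨J, _, _, χ, zJ, QJ, D, hsur, hker, hz⟩ := exists_quot T hq
  have hcoe : ∀ {c : G}, c ∈ CBb ↔ c * b = b * c := mem_centralizer_singleton_iff
  have hb5 : b ^ 5 = 1 := orderOf_bb T ▸ pow_orderOf_eq_one b
  have hb1 : b ≠ 1 := fun h => by
    have := orderOf_bb T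
    rw [← hbdef, h, orderOf_one] at this
    norm_num at this
  haveI hN : (L.subgroupOf CBb).Normal := ⟨fun l hl c => hnorm c (hcoe.1 c.2) l hl⟩
  have hindex : (L.subgroupOf CBb).index = 5 := by
    have h := card_mul_index (L.subgroupOf CBb)
    rw [Nat.card_congr (subgroupOfEquivOfLe hLC).toEquiv, hidx, mul_comm] at h
    exact Nat.eq_of_mul_eq_mul_right (by rw [hL]; norm_num) h
  have hmem : ∀ c, c * b = b * c → ∀ n : ℕ, n.Coprime 5 → c ^ n = 1 → c ∈ L := by
    intro c hc n hn h1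
    set q : ↥CBb ⧸ L.subgroupOf CBb := QuotientGroup.mk ⟨c, hcoe.2 hc⟩
    have h5 : q ^ 5 = 1 := by
      rw [← hindex, index_eq_card]
      exact pow_card_eq_one'
    have hn1 : q ^ n = 1 := by
      rw [← QuotientGroup.mk_pow, show (⟨c, hcoe.2 hc⟩ : ↥CBb) ^ n = 1 from Subtype.ext h1]
      rfl
    have : q = 1 := by
      have := pow_gcd_eq_one.2 ⟨hn1, h5⟩
      rwa [Nat.Coprime.gcd_eq_one hn, pow_one] at this
    exact mem_subgroupOf.1 ((QuotientGroup.eq_one_iff _).1 this)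
  -- the centraliser of `L`
  have hK : ∀ c ∈ centralizer (L : Set G), ∃ σ, σ * sx = sx * σ ∧ lam T σ = c := by
    have hx : ∀ c, c * b = b * c → ∀ n : ℕ, n.Coprime 5 → c ^ n = 1 →
        ∀ d ∈ centralizer (L : Set G), d * c = c * d := fun c hc n hn h1 d hd =>
      (mem_centralizer_iff.1 hd c (hmem c hc n hn h1)).symm
    intro c hc
    obtain ⟨-, hlx, hlr, -⟩ := lam_comm T sb
    have hsx : (sx : A8) * sb = sb * sx := by
      apply Subtype.ext; apply Equiv.ext; decide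
    obtain ⟨σ, rfl⟩ := lam_surjective T
      (hx z (lam_comm T sb).1.symm 2 (by norm_num) (by rw [pow_two]; exact T.setup.pack.z_mul_z) c hc)
      (hx (xe e) hlx.symm 2 (by norm_num) (by rw [pow_two]; exact T.setup.xe_facts.2.1) c hc)
      (hx ρ hlr.symm 3 (by norm_num) (by rw [pow_succ, pow_two, T.rho3]) c hc)
    refine ⟨σ, lam_injective T ?_, rfl⟩
    rw [map_mul, map_mul]
    refine hx (lam T sx) ?_ 3 (by norm_num) ?_ _ hc
    · rw [hbdef, bb, ← map_mul, ← map_mul, hsx]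
    · rw [← map_pow, show sx ^ 3 = 1 from Subtype.ext (Equiv.ext (by decide)), map_one]
  set S := (centralizer (L : Set G)).comap (lam T) with hS
  have hSc : Nat.card ↥S = 60 := by
    have hSm : S.map (lam T) = centralizer (L : Set G) :=
      Subgroup.map_comap_eq_self fun c hc => by
        obtain ⟨σ, -, hσ⟩ := hK c hc
        exact ⟨σ, hσ⟩
    rw [← card_map_of_injective (K := S) (lam_injective T), hSm, Nat.card_congr eC.toEquiv,
      nat_card_alternatingGroup, Nat.card_fin]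
    rfl
  have hScomm : ∀ σ ∈ S, σ * sx = sx * σ := fun σ hσ => by
    obtain ⟨σ', h, h'⟩ := hK _ hσ
    rwa [← lam_injective T h']
  have hperf : ⁅S, S⁆ = S := by
    have hSm : S.map (lam T) = centralizer (L : Set G) :=
      Subgroup.map_comap_eq_self fun c hc => by
        obtain ⟨σ, -, hσ⟩ := hK c hc
        exact ⟨σ, hσ⟩
    have htop : ⁅(⊤ : Subgroup ↥(alternatingGroup (Fin 5))), (⊤ : Subgroup ↥(alternatingGroup (Fin 5)))⁆ = ⊤ := by
      haveI := alternatingGroup.normal (α := Fin 5)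
      rw [← commutator_def]
      exact commutator_alternatingGroup_eq_top (by simp)
    have hr : eC.symm.toMonoidHom.range = ⊤ := MonoidHom.range_eq_top.2 eC.symm.surjective
    apply map_injective (lam_injective T)
    rw [map_commutator, hSm]
    have h := congrArg (Subgroup.map ((centralizer (L : Set G)).subtype.comp eC.symm.toMonoidHom)) htop
    rw [map_commutator, ← MonoidHom.range_eq_map, MonoidHom.range_comp,
      hr, ← MonoidHom.range_eq_map, range_subtype] at h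
    exact h
  have hSK : S = K567 := by
    refine eq_of_le_of_card_ge ?_ (by rw [hSc]; exact card_K567_le)
    conv_lhs => rw [← hperf]
    exact commutator_le.2 fun σ hσ τ hτ => commutator_fix (hScomm σ hσ) (hScomm τ hτ)
  have hinter : ∀ i : ℕ, b ^ i ∈ L → b ^ i = 1 := by
    intro i hi
    by_contra hne
    haveI : Fact (Nat.Prime 5) := ⟨by norm_num⟩
    -- then `b` lies in the centre of `C(L)`
    have hbL : b ∈ L := by
      have hgen : b ∈ zpowers (b ^ i) := mem_zpowers_pow_iff.2 (by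
        rw [hbdef, orderOf_bb]
        refine ((Nat.prime_five.coprime_iff_not_dvd).2 fun h => hne ?_).symm
        obtain ⟨k, rfl⟩ := h
        rw [pow_mul, hb5, one_pow])
      exact (zpowers_le.2 hi) hgen
    have hbC : b ∈ centralizer (L : Set G) :=
      mem_centralizer_iff.2 fun l hl => hcoe.1 (hLC hl)
    have hcen : (⟨b, hbC⟩ : ↥(centralizer (L : Set G))) ∈ center _ := Subgroup.mem_center_iff.2
      fun d => Subtype.ext (mem_centralizer_iff.1 d.2 b hbL).symm
    have h1 : eC ⟨b, hbC⟩ ∈ center ↥(alternatingGroup (Fin 5)) := Subgroup.mem_center_iff.2 fun y => by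
      obtain ⟨y, rfl⟩ := eC.surjective y
      rw [← map_mul, ← map_mul, Subgroup.mem_center_iff.1 hcen y]
    rw [alternatingGroup.center_eq_bot (by simp), mem_bot, map_eq_one_iff _ eC.injective] at h1
    exact hb1 (congrArg Subtype.val h1)
  let χL : ↥L →* J := χ.comp (inclusion hLC)
  have hχi : Function.Injective χL := by
    rw [injective_iff_map_eq_one]
    intro l hl
    have h1 : (l : G) ∈ zpowers b := (hker _).1 hl
    rw [← mem_powers_iff_mem_zpowers] at h1
    obtain ⟨i, hi⟩ := h1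
    change b ^ i = (l : G) at hi
    refine Subtype.ext ?_
    rw [OneMemClass.coe_one, ← hi]
    exact hinter i (hi ▸ l.2)
  have hχ : Function.Bijective χL := by
    rw [Nat.bijective_iff_injective_and_card]
    exact ⟨hχi, by rw [hL, D.order_eq.1]⟩
  refine ⟨L, fun l hl => hcoe.1 (hLC hl), hnorm, fun c hc => ?_, hmem, hinter,
    fun σ hσ l hl => ?_, J, inferInstance, inferInstance, MulEquiv.ofBijective χL hχ, zJ, QJ, D,
    fun hzL => hz (hLC hzL)⟩
  · obtain ⟨l, hl⟩ := hχ.2 (χ ⟨c, hcoe.2 hc⟩)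
    have h1 : ((inclusion hLC l)⁻¹ * ⟨c, hcoe.2 hc⟩ : ↥CBb).1 ∈ zpowers b :=
      (hker _).1 (by rw [map_mul, map_inv]; exact inv_mul_eq_one.2 hl)
    rw [← mem_powers_iff_mem_zpowers] at h1
    obtain ⟨i, hi⟩ := h1
    refine ⟨l, l.2, i, ?_⟩
    change b ^ i = (l : G)⁻¹ * c at hi
    rw [hi, mul_inv_cancel_left]
  · rw [← hSK] at hσ
    exact (mem_centralizer_iff.1 hσ l hl).symm

end CfsgLib.StructB.CoA9
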