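import Cfsg.Agent.Lib.StructB.CoA9.Iso
import Cfsg.Agent.Lib.ClassK.ConwayLevi
import Mathlib.GroupTheory.Perm.Sign

/-!
In a group of Conway type the complement `C(z) ∩ C(x) ∩ C(ρ)` is the alternating group of degree
eight, acting on the middle space as on the even sets of eight points.
-/

set_option autoImplicit false
set_option maxRecDepth 20000
set_option synthInstance.maxSize 2000

namespace CfsgLib.StructB.CoA9

open Subgroup CfsgLib.Trans3.ExtraTwo CfsgLib.ClassK.Conway Equiv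

variable {G : Type*} [Group G] {z : G} {Q : Subgroup G} {e : ↥Q ≃* ES 4 (ff 4)} {ρ : G}
variable [Finite G] (T : Tri z Q e ρ)
include T

theorem lev_one : Lev z e ρ (1 : G) ∧ ∀ v, sig e (1 : G) v = psi 1 v :=
  ⟨⟨⟨by simp, by simp⟩, by simp⟩, fun v => by rw [psi_one, ← T.nm_one, T.sig_nm]⟩

theorem exists_lev_psi (σ : Perm (Fin 8)) :
    if Perm.sign σ = 1 then ∃ l, Lev z e ρ l ∧ ∀ v, sig e l v = psi σ v
    else ∀ i j, i ≠ j → ∃ l, Lev z e ρ l ∧ ∀ v, sig e l v = psi (swap i j * σ) v := by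
  induction σ using Equiv.Perm.swap_induction_on with
  | one => rw [if_pos (map_one _)]; exact ⟨1, lev_one T⟩
  | swap_mul f x y hxy ih =>
    rw [Perm.sign_mul, Perm.sign_swap hxy]
    rcases Int.units_eq_one_or (Perm.sign f) with h | h
    · rw [h, if_pos rfl] at ih
      rw [h, if_neg (by decide)]
      intro i j hij
      obtain ⟨l, hl, hls⟩ := ih
      obtain ⟨p, hp, hps⟩ := T.exists_pair (refl_pairVec i j hij).1 (refl_pairVec x y hxy).1
      refine ⟨p * l, hp.mul hl, fun v => ?_⟩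
      rw [T.sig_mul hp.1 hl.1, hps, hls, (refl_pairVec x y hxy).2, (refl_pairVec i j hij).2, psi_mul,
        psi_mul]
    · rw [h, if_neg (by decide)] at ih
      rw [h, if_pos (by decide)]
      exact ih x y hxy

theorem exists_lam (σ : alternatingGroup (Fin 8)) :
    ∃ l, Lev z e ρ l ∧ ∀ v, sig e l v = psi σ.1 v := by
  have h := exists_lev_psi T σ.1
  rwa [if_pos (Perm.mem_alternatingGroup.1 σ.2)] at h

/-- The isomorphism of the alternating group of degree eight with the complement. -/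
noncomputable def lam : alternatingGroup (Fin 8) →* G :=
  MonoidHom.mk' (fun σ => (exists_lam T σ).choose) fun σ τ => by
    obtain ⟨h1, h1'⟩ := (exists_lam T σ).choose_spec
    obtain ⟨h2, h2'⟩ := (exists_lam T τ).choose_spec
    obtain ⟨h3, h3'⟩ := (exists_lam T (σ * τ)).choose_spec
    refine T.lev_ext h3 (h1.mul h2) fun v => ?_
    rw [h3', T.sig_mul h1.1 h2.1, h1', h2', Subgroup.coe_mul, psi_mul]

theorem lam_lev (σ : alternatingGroup (Fin 8)) : Lev z e ρ (lam T σ) :=
  (exists_lam T σ).choose_spec.1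

theorem sig_lam (σ : alternatingGroup (Fin 8)) (v : Sp 3) : sig e (lam T σ) v = psi σ.1 v :=
  (exists_lam T σ).choose_spec.2 v

theorem lam_injective : Function.Injective (lam T) := fun σ τ h =>
  Subtype.ext (psi_injective fun v => by rw [← sig_lam T, h, sig_lam T])

theorem lam_comm (σ : alternatingGroup (Fin 8)) :
    lam T σ * z = z * lam T σ ∧ lam T σ * xe e = xe e * lam T σ ∧
      lam T σ * ρ = ρ * lam T σ ∧ lam T σ * qe e = qe e * lam T σ :=
  ⟨(lam_lev T σ).1.1, (lam_lev T σ).1.2, (lam_lev T σ).2, (T.lev_q (lam_lev T σ)).symm⟩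

/-- The complement is the whole of `C(z) ∩ C(x) ∩ C(ρ)`. -/
theorem lam_surjective {c : G} (hcz : c * z = z * c) (hcx : c * xe e = xe e * c)
    (hcr : c * ρ = ρ * c) : ∃ σ, lam T σ = c := by
  have hc : Lev z e ρ c := ⟨⟨hcz, hcx⟩, hcr⟩
  obtain ⟨σ, hσ⟩ := isom_eq_psi (T.sig_isom hc.1)
  rcases Int.units_eq_one_or (Perm.sign σ) with h | h
  · exact ⟨⟨σ, Perm.mem_alternatingGroup.2 h⟩, T.lev_ext (lam_lev T _) hc fun v => by
      rw [sig_lam, hσ]⟩
  · exfalso
    set μ : alternatingGroup (Fin 8) := ⟨swap 0 1 * σ, Perm.mem_alternatingGroup.2 (by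
      rw [Perm.sign_mul, Perm.sign_swap (by decide), h]; rfl)⟩
    obtain ⟨v, hv⟩ := T.no_refl (hc.mul (lam_lev T μ⁻¹)).1
      (refl_pairVec 0 1 (by decide)).1
    refine hv ?_
    rw [T.sig_mul hc.1 (lam_lev T μ⁻¹).1, hσ, sig_lam, ← psi_mul,
      (refl_pairVec 0 1 (by decide)).2]
    congr 1
    show σ * (swap 0 1 * σ)⁻¹ = swap 0 1
    rw [mul_inv_rev, mul_inv_cancel_left, swap_inv]

end CfsgLib.StructB.CoA9
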