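import Cfsg.Agent.Lib.ClassK.ConwayFacts

/-!
The six-dimensional space of plus type over two elements as the even subsets of eight points
modulo complementation, and the isometries induced by the permutations of the points.
-/

set_option autoImplicit false
set_option maxRecDepth 20000
set_option synthInstance.maxSize 2000
set_option Elab.async false

namespace CfsgLib.StructB.CoA9

open CfsgLib.Trans3.ExtraTwo CfsgLib.ClassK.Conway

/-- Sets of points, as characteristic vectors. -/
abbrev W8 : Type := Fin 8 → ZMod 2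

/-- Parity of the cardinality. -/
def par (w : W8) : ZMod 2 := ∑ i, w i

/-- Scalar product. -/
def dot8 (v w : W8) : ZMod 2 := ∑ i, v i * w i

/-- The singular sets spanning the first half. -/
def bsA : Fin 3 → W8 :=
  ![![1, 1, 1, 1, 0, 0, 0, 0], ![1, 0, 0, 1, 1, 1, 0, 0], ![0, 0, 1, 1, 1, 0, 1, 0]]

/-- Their partners. -/
def bsB : Fin 3 → W8 :=
  ![![1, 1, 1, 0, 1, 0, 0, 0], ![0, 1, 0, 1, 1, 1, 0, 0], ![1, 1, 0, 0, 0, 1, 1, 0]]

/-- The set of a vector. -/
def enc (v : Sp 3) : W8 := ∑ k, ((v k).1 • bsA k + (v k).2 • bsB k)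

/-- The vector of an even set. -/
def dec (w : W8) : Sp 3 := fun k => (dot8 w (bsB k), dot8 w (bsA k))

/-- Moving a set by a permutation. -/
def mv (σ : Equiv.Perm (Fin 8)) (w : W8) : W8 := fun i => w (σ.symm i)

/-- The isometry of a permutation. -/
def psi (σ : Equiv.Perm (Fin 8)) (v : Sp 3) : Sp 3 := dec (mv σ (enc v))

/-- The vector of a pair of points. -/
def pairVec (i j : Fin 8) : Sp 3 := dec (Pi.single i 1 + Pi.single j 1)

theorem dec_add (v w : W8) : dec (v + w) = dec v + dec w := by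
  funext k
  simp only [dec, dot8, Pi.add_apply, add_mul, Finset.sum_add_distrib, Prod.mk_add_mk]

theorem enc_add (u v : Sp 3) : enc (u + v) = enc u + enc v := by
  simp only [enc, Pi.add_apply, Prod.fst_add, Prod.snd_add, add_smul, ← Finset.sum_add_distrib]
  exact Finset.sum_congr rfl fun k _ => by abel

theorem mv_add (σ : Equiv.Perm (Fin 8)) (v w : W8) : mv σ (v + w) = mv σ v + mv σ w := rfl

theorem mv_mul (σ τ : Equiv.Perm (Fin 8)) (w : W8) : mv (σ * τ) w = mv σ (mv τ w) := rfl

theorem mv_one (w : W8) : mv 1 w = w := rfl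

theorem par_mv (σ : Equiv.Perm (Fin 8)) (w : W8) : par (mv σ w) = par w :=
  Equiv.sum_comp σ.symm w

theorem dot_mv (σ : Equiv.Perm (Fin 8)) (v w : W8) : dot8 (mv σ v) (mv σ w) = dot8 v w :=
  Equiv.sum_comp σ.symm fun i => v i * w i

theorem dec_enc : ∀ v : Sp 3, dec (enc v) = v ∧ par (enc v) = 0 := by decide +kernel

theorem enc_dec : ∀ w : W8, par w = 0 → enc (dec w) = w ∨ enc (dec w) = w + 1 := by decide +kernel

theorem dec_zero : dec 0 = 0 := by decide +kernel

theorem dec_ones : dec 1 = 0 ∧ ∀ i, mv (Equiv.refl _) (1 : W8) i = 1 := by decide +kernel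

theorem par_enc (v : Sp 3) : par (enc v) = 0 := (dec_enc v).2

theorem alt_dec : ∀ v w : W8, par v = 0 → par w = 0 → alt (dec v) (dec w) = dot8 v w := by
  intro v w hv hw
  have key : ∀ v : W8, par v = 0 → ∀ i : Fin 8,
      alt (dec v) (dec (Pi.single i 1 + Pi.single 7 1)) = v i + v 7 := by decide +kernel
  -- expand `w` as a sum of pairs with the last point
  have hw' : w = ∑ i : Fin 8, w i • (Pi.single i 1 + Pi.single 7 1 : W8) := by
    funext k
    rw [Finset.sum_apply]
    simp only [Pi.smul_apply, Pi.add_apply, smul_eq_mul, mul_add, Finset.sum_add_distrib,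
      Pi.single_apply, mul_ite, mul_one, mul_zero, Finset.sum_ite_eq, Finset.mem_univ, if_true]
    rcases eq_or_ne k 7 with rfl | h
    · have h0 : ∑ x : Fin 8, w x = 0 := hw
      simp [h0]
    · simp [h]
  have hl : ∀ (s : Finset (Fin 8)) (f : Fin 8 → W8),
      alt (dec v) (dec (∑ i ∈ s, f i)) = ∑ i ∈ s, alt (dec v) (dec (f i)) := by
    intro s f
    induction s using Finset.induction with
    | empty =>
      rw [Finset.sum_empty, Finset.sum_empty, dec_zero, alt_zero_right]
    | insert a s ha ih => rw [Finset.sum_insert ha, Finset.sum_insert ha, dec_add, alt_add_right, ih]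
  have hs : ∀ (c : ZMod 2) (u : W8), alt (dec v) (dec (c • u)) = c * alt (dec v) (dec u) := by
    intro c u
    rcases z2_cases c with rfl | rfl
    · rw [zero_smul, zero_mul, dec_zero, alt_zero_right]
    · rw [one_smul, one_mul]
  conv_lhs => rw [hw', hl]
  simp only [hs, key v hv, mul_add, Finset.sum_add_distrib]
  rw [← Finset.sum_mul]
  have h0 : ∑ x : Fin 8, w x = 0 := hw
  rw [h0, zero_mul, add_zero]
  exact Finset.sum_congr rfl fun i _ => mul_comm _ _

theorem dec_mv_enc_dec (σ : Equiv.Perm (Fin 8)) {w : W8} (hw : par w = 0) :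
    dec (mv σ (enc (dec w))) = dec (mv σ w) := by
  rcases enc_dec w hw with h | h <;> rw [h]
  rw [mv_add, dec_add, show mv σ (1 : W8) = 1 from rfl, dec_ones.1, add_zero]

theorem psi_dec (σ : Equiv.Perm (Fin 8)) {w : W8} (hw : par w = 0) :
    psi σ (dec w) = dec (mv σ w) := dec_mv_enc_dec σ hw

theorem psi_mul (σ τ : Equiv.Perm (Fin 8)) (v : Sp 3) : psi (σ * τ) v = psi σ (psi τ v) := by
  show dec (mv (σ * τ) (enc v)) = psi σ (dec (mv τ (enc v)))
  rw [psi_dec σ (by rw [par_mv, par_enc]), mv_mul]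

theorem psi_one (v : Sp 3) : psi 1 v = v := (dec_enc v).1

theorem qd_dec_eq : ∀ w : W8, par w = 0 →
    qd (dec w) = ((Finset.univ.filter fun i => w i = 1).card / 2 : ℕ) := by decide +kernel

theorem psi_isom (σ : Equiv.Perm (Fin 8)) : Isom (psi σ) where
  map_add u v := by simp only [psi, enc_add, mv_add, dec_add]
  map_qd v := by
    conv_rhs => rw [← (dec_enc v).1, qd_dec_eq _ (par_enc v)]
    rw [psi, qd_dec_eq _ (by rw [par_mv, par_enc])]
    congr 2
    refine Finset.card_equiv σ.symm fun i => ?_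
    rw [Finset.mem_filter, Finset.mem_filter]
    simp [mv]

theorem pairVec_par : ∀ i j : Fin 8, i ≠ j →
    par (Pi.single i 1 + Pi.single j 1 : W8) = 0 := by decide +kernel

theorem mv_single (σ : Equiv.Perm (Fin 8)) (i : Fin 8) :
    mv σ (Pi.single i 1) = Pi.single (σ i) 1 := by
  funext k
  simp only [mv, Pi.single_apply, Equiv.symm_apply_eq]

theorem psi_pairVec (σ : Equiv.Perm (Fin 8)) {i j : Fin 8} (h : i ≠ j) :
    psi σ (pairVec i j) = pairVec (σ i) (σ j) := by
  rw [pairVec, psi_dec σ (pairVec_par i j h), mv_add, mv_single, mv_single]; rfl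

/-- A basis vector of the first half. -/
def b1 (k : Fin 3) : Sp 3 := Pi.single k ((1, 0) : P2)

/-- A basis vector of the second half. -/
def b2 (k : Fin 3) : Sp 3 := Pi.single k ((0, 1) : P2)

/-- Two isometries agreeing on the basis are equal. -/
theorem additive_ext {f g : Sp 3 → Sp 3} (hf : Isom f) (hg : Isom g)
    (h1 : ∀ k, f (b1 k) = g (b1 k))
    (h2 : ∀ k, f (b2 k) = g (b2 k)) (v : Sp 3) : f v = g v := by
  have key : v = ∑ k, ((v k).1 • b1 k + (v k).2 • b2 k) := by
    funext m
    rw [Finset.sum_apply]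
    fin_cases m <;> simp [Fin.sum_univ_succ, b1, b2, Pi.single_apply, Prod.smul_def] <;> rfl
  let F : Sp 3 →+ Sp 3 := AddMonoidHom.mk' f hf.map_add
  let K : Sp 3 →+ Sp 3 := AddMonoidHom.mk' g hg.map_add
  show F v = K v
  rw [key, map_sum, map_sum]
  refine Finset.sum_congr rfl fun k _ => ?_
  rw [map_add, map_add]
  congr 1
  · rcases z2_cases (v k).1 with h | h <;> rw [h]
    · rw [zero_smul, map_zero, map_zero]
    · rw [one_smul]; exact h1 k
  · rcases z2_cases (v k).2 with h | h <;> rw [h]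
    · rw [zero_smul, map_zero, map_zero]
    · rw [one_smul]; exact h2 k

theorem refl_pairVec_basis : ∀ i j : Fin 8, i ≠ j → qd (pairVec i j) = 1 ∧
    (∀ k, refl (pairVec i j) (b1 k) = psi (Equiv.swap i j) (b1 k)) ∧
    ∀ k, refl (pairVec i j) (b2 k) = psi (Equiv.swap i j) (b2 k) := by
  decide +kernel

theorem refl_pairVec (i j : Fin 8) (h : i ≠ j) : qd (pairVec i j) = 1 ∧
    ∀ v, refl (pairVec i j) v = psi (Equiv.swap i j) v := by
  obtain ⟨hq, h1, h2⟩ := refl_pairVec_basis i j h
  exact ⟨hq, additive_ext (refl_isom hq) (psi_isom _) h1 h2⟩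

theorem pairVec_cases : ∀ v : Sp 3, qd v = 1 → ∃ i j, i < j ∧ pairVec i j = v := by decide +kernel

theorem pairVec_inj : ∀ i j k l : Fin 8, i < j → k < l → pairVec i j = pairVec k l →
    i = k ∧ j = l := by decide +kernel

theorem alt_pairVec : ∀ i j k l : Fin 8, i ≠ j → k ≠ l → alt (pairVec i j) (pairVec k l) =
    ((if i = k then 1 else 0) + (if i = l then 1 else 0)) +
      ((if j = k then 1 else 0) + (if j = l then 1 else 0)) := by decide +kernel

/-- The permutation representation is faithful. -/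
theorem psi_injective {σ τ : Equiv.Perm (Fin 8)} (h : ∀ v, psi σ v = psi τ v) : σ = τ := by
  refine Equiv.ext fun i => ?_
  have key : ∀ p : Equiv.Perm (Fin 8), ∀ j, j ≠ i → psi p (pairVec i j) = pairVec (p i) (p j) :=
    fun p j hj => psi_pairVec p hj.symm
  have hdist : ∀ a b c d : Fin 8, a ≠ b → c ≠ d → pairVec a b = pairVec c d →
      a = c ∧ b = d ∨ a = d ∧ b = c := by decide +kernel
  have h2 : ∀ j, j ≠ i → σ i = τ i ∧ σ j = τ j ∨ σ i = τ j ∧ σ j = τ i := fun j hj =>
    hdist _ _ _ _ (σ.injective.ne hj.symm) (τ.injective.ne hj.symm)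
      ((key σ j hj).symm.trans ((h _).trans (key τ j hj)))
  obtain ⟨j, k, hj, hk, hjk⟩ :=
    (by decide : ∀ i : Fin 8, ∃ j k : Fin 8, j ≠ i ∧ k ≠ i ∧ j ≠ k) i
  rcases h2 j hj with h' | h'
  · exact h'.1
  rcases h2 k hk with h'' | h''
  · exact h''.1
  exact absurd (τ.injective (h'.1.symm.trans h''.1)) hjk

end CfsgLib.StructB.CoA9
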