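import Cfsg.Agent.Lib.StructB.CoA9.Point
import Cfsg.Agent.Lib.ClassK.ConwayMain
import Mathlib.GroupTheory.Index

/-!
The orbit of `z` under the centraliser of `q` and `ρ` has nine points.
-/

set_option autoImplicit false
set_option maxRecDepth 20000
set_option synthInstance.maxSize 2000

namespace CfsgLib.StructB.CoA9

open Subgroup CfsgLib.Trans3.ExtraTwo CfsgLib.ClassK.Conway Equiv
open CfsgLib.PLocal.LargeExtra

local notation "A8" => alternatingGroup (Fin 8)

theorem pv_symm (i j : Fin 8) : pairVec i j = pairVec j i := by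
  rw [pairVec, pairVec, add_comm]

theorem last_pick : ∀ i : Fin 8, ∃ p ∈ [(1 : Perm (Fin 8)), swap 7 0 * swap 2 3, swap 7 1 * swap 2 3,
    swap 7 2 * swap 0 1, swap 7 3 * swap 0 1, swap 7 4 * swap 0 1, swap 7 5 * swap 0 1,
    swap 7 6 * swap 0 1], Perm.sign p = 1 ∧ p 7 = i := by decide +kernel

theorem exists_pick (i : Fin 8) : ∃ σ : A8, σ.1 7 = i := by
  obtain ⟨p, -, hp, hp7⟩ := last_pick i
  exact ⟨⟨p, Perm.mem_alternatingGroup.2 hp⟩, hp7⟩

theorem pv56_ne : ∀ i : Fin 8, pairVec 5 6 ≠ shiftVec (swap 7 i) := by decide +kernel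

theorem orb_div : ∀ k : Fin 3, (9 + 35 * k.1) * 20160 ∣ 512 * 174182400 → k.1 = 0 := by
  decide +kernel

theorem card_A8 : Nat.card ↥(alternatingGroup (Fin 8)) = 20160 := by
  rw [nat_card_alternatingGroup, Nat.card_fin]; rfl

universe u

variable {G : Type u} [Group G] {z : G} {Q : Subgroup G} {e : ↥Q ≃* ES 4 (ff 4)} {ρ : G}
variable [Finite G] {T : Tri z Q e ρ} {L : Subgroup G} {c y : G}

namespace Base

variable (B : Base T L c y)
include B

theorem mem_QT' : y ∈ QT Q ρ c := by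
  obtain ⟨r, hr, rfl⟩ := B.orb
  exact orbit_mem_QT T B.swap hr

theorem orb_conj (σ : A8) : ∃ r ∈ RR e ρ, r * z * r⁻¹ = lam T σ * y * (lam T σ)⁻¹ := by
  obtain ⟨r, hr, rfl⟩ := B.orb
  exact ⟨lam T σ * r, mul_mem (lam_mem_RR T σ) hr, by group⟩

/-- The vectors attached to the orbit outside `C(z)`. -/
def Good (_B : Base T L c y) (a : Sp 3) : Prop :=
  ∃ r ∈ RR e ρ, Anti z e (r * z * r⁻¹) ∧ Sh z e ρ c y (r * z * r⁻¹) a

theorem good_aff {a : Sp 3} (h : B.Good a) (σ : A8) : B.Good (aff σ.1 a) := by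
  obtain ⟨r, hr, hanti, hsh⟩ := h
  have he : lam T σ * (r * z * r⁻¹) * (lam T σ)⁻¹ = lam T σ * r * z * (lam T σ * r)⁻¹ := by group
  exact ⟨lam T σ * r, mul_mem (lam_mem_RR T σ) hr, he ▸ Anti.conjLam T hanti σ,
    he ▸ (B.shift σ).trans' T B.swap (hsh.conj T B.swap σ)⟩

theorem good_foldr {a : Sp 3} (h : B.Good a) :
    ∀ w : List (Fin 3), B.Good ((w.map fun k => (gen8 k).1).foldr aff a)
  | [] => h
  | k :: w => by
    rw [List.map_cons, List.foldr_cons]
    exact B.good_aff (good_foldr h w) (gen8 k)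

theorem not_good56 : ¬ B.Good (pairVec 5 6) := by
  rintro ⟨r, hr, hanti, hsh⟩
  have hbR : bb T * r ∈ RR e ρ := mul_mem (lam_mem_RR T sb) hr
  have he : lam T sb * (r * z * r⁻¹) * (lam T sb)⁻¹ = bb T * r * z * (bb T * r)⁻¹ := by
    rw [bb]; group
  have h1 := (B.shift sb).trans' T B.swap (hsh.conj T B.swap sb)
  rw [he, shiftVec, if_pos (show sb.1 7 = 7 by decide), zero_add,
    k567_fix56 sb small_facts.2.2.2.2.2.2.2] at h1
  have h2 : Sh z e ρ c (r * z * r⁻¹) (bb T * r * z * (bb T * r)⁻¹) 0 := by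
    have := (hsh.symm' T B.swap).trans' T B.swap h1
    rwa [sp_add_self] at this
  have h3 := eq_of_sh_zero T B.swap hbR hr hanti h2
  -- `r⁻¹ b r` lies in the complement
  set g := r⁻¹ * bb T * r with hg
  have hgR : g ∈ RR e ρ := mul_mem (mul_mem (inv_mem hr) (lam_mem_RR T sb)) hr
  have hgz : g * z = z * g := by
    refine mul_inv_eq_iff_eq_mul.1 ?_
    calc g * z * g⁻¹ = r⁻¹ * (bb T * r * z * (bb T * r)⁻¹) * r := by rw [hg]; group
      _ = z := by rw [h3]; group
  obtain ⟨σ, hσ⟩ := cent_z_RR T hgR hgz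
  have hσ5 : orderOf σ = 5 := by
    rw [← orderOf_injective _ (lam_injective T) σ, hσ, hg]
    calc orderOf (r⁻¹ * bb T * r) = orderOf (r⁻¹ * bb T * r⁻¹⁻¹) := by rw [inv_inv]
      _ = orderOf (bb T) := HJ.ord_conj r⁻¹ (bb T)
      _ = 5 := orderOf_bb T
  have hct : ∀ τ : A8, orderOf τ = 5 → τ.1.cycleType = {5} := by
    intro τ hτ
    have h5 : orderOf τ.1 = 5 := by rw [orderOf_coe]; exact hτ
    obtain ⟨n, hn⟩ := Perm.cycleType_prime_order (h5.symm ▸ Nat.prime_five : (orderOf τ.1).Prime)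
    rw [h5] at hn
    have hs := τ.1.sum_cycleType
    have hle := Finset.card_le_univ τ.1.support
    rw [hn, Multiset.sum_replicate, smul_eq_mul] at hs
    rw [Fintype.card_fin] at hle
    obtain rfl : n = 0 := by omega
    simpa using hn
  have hsb5 : orderOf sb = 5 := by
    rw [← orderOf_injective _ (lam_injective T) sb]; exact orderOf_bb T
  have hconj : IsConj sb σ := by
    refine alternatingGroup.isConj_of (Perm.isConj_iff_cycleType_eq.2
      ((hct sb hsb5).trans (hct σ hσ5).symm)) ?_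
    have hs := sb.1.sum_cycleType
    rw [hct sb hsb5, Multiset.sum_singleton] at hs
    rw [← hs, Fintype.card_fin]; norm_num
  obtain ⟨μ, hμ⟩ := isConj_iff.1 hconj
  set r' := r * lam T μ with hr'
  have hr'R : r' ∈ RR e ρ := mul_mem hr (lam_mem_RR T μ)
  have hr'b : r' * bb T = bb T * r' := by
    have h4 : lam T μ * bb T * (lam T μ)⁻¹ = g := by rw [bb, ← map_inv, ← map_mul, ← map_mul, hμ, hσ]
    calc r' * bb T = r * (lam T μ * bb T * (lam T μ)⁻¹) * lam T μ := by rw [hr']; group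
      _ = bb T * r' := by rw [h4, hg, hr']; group
  have hz' : r' * z * r'⁻¹ = r * z * r⁻¹ := by
    calc r' * z * r'⁻¹ = r * (lam T μ * z * (lam T μ)⁻¹) * r⁻¹ := by rw [hr']; group
      _ = _ := by rw [mul_inv_eq_iff_eq_mul.2 (lam_comm T μ).1]
  rcases B.five_orbit r' hr'R hr'b with h | ⟨τ, hτ, h⟩
  · rw [hz'] at h
    rw [Anti, h] at hanti
    exact absurd (Setup.el_inj (e := e)
      ((mul_eq_right.1 hanti.symm).trans Setup.el_zero.symm)).1 (by decide)
  · rw [hz'] at h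
    rw [h] at hsh
    have := Sh.unique T B.swap hsh (B.shift τ)
    refine pv56_ne (τ.1 7) (this.trans ?_)
    simp [shiftVec]

theorem good_cases {a : Sp 3} (h : B.Good a) : ∃ σ : A8, shiftVec σ.1 = a := by
  rcases orb_cover a with h0 | ⟨i, hi, hai⟩ | ⟨p, hp, hpa⟩
  · exact ⟨1, by rw [shiftVec, if_pos (by rfl), h0]⟩
  · obtain ⟨σ, hσ⟩ := exists_pick i
    exact ⟨σ, by rw [shiftVec, hσ, if_neg hi, hai]⟩
  · exfalso
    refine B.not_good56 ?_
    have := B.good_foldr (hpa ▸ h : B.Good (ofCode p.1)) p.2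
    rwa [orb_check p hp] at this

theorem orbit_anti {r : G} (hr : r ∈ RR e ρ) (ha : Anti z e (r * z * r⁻¹)) :
    ∃ σ : A8, r * z * r⁻¹ = lam T σ * y * (lam T σ)⁻¹ := by
  obtain ⟨a, hsh⟩ := exists_sh T B.swap B.mem_QT' (orbit_mem_QT T B.swap hr) B.anti ha
  obtain ⟨σ, rfl⟩ := B.good_cases ⟨r, hr, ha, hsh⟩
  obtain ⟨s, hs, hse⟩ := B.orb_conj σ
  refine ⟨σ, ?_⟩
  rw [← hse]
  refine eq_of_sh_zero T B.swap hr hs (hse ▸ Anti.conjLam T B.anti σ) ?_
  rw [hse]
  have := ((B.shift σ).symm' T B.swap).trans' T B.swap hsh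
  rwa [sp_add_self] at this

end Base

section

variable (T)

/-- The orbit. -/
def Orb (z : G) (e : ↥Q ≃* ES 4 (ff 4)) (ρ : G) : Set G := {v | ∃ r ∈ RR e ρ, r * z * r⁻¹ = v}

theorem self_mem_Orb : z ∈ Orb z e ρ := ⟨1, one_mem _, by group⟩

include T

theorem card_RR : Nat.card ↥(RR e ρ) = Nat.card ↥(Orb z e ρ) * 20160 := by
  classical
  set S := (centralizer ({z} : Set G)).subgroupOf (RR e ρ) with hS
  have hS1 : Nat.card ↥S = 20160 := by
    rw [← card_A8]
    refine (Nat.card_congr (Equiv.ofBijective (fun σ : A8 => (⟨⟨lam T σ, lam_mem_RR T σ⟩,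
      mem_subgroupOf.2 (mem_centralizer_singleton_iff.2 (lam_comm T σ).1)⟩ : ↥S)) ⟨?_, ?_⟩)).symm
    · exact fun σ τ h => lam_injective T (congrArg (fun s : ↥S => ((s : ↥(RR e ρ)) : G)) h)
    · rintro ⟨⟨r, hr⟩, hrz⟩
      obtain ⟨σ, rfl⟩ := cent_z_RR T hr (mem_centralizer_singleton_iff.1 (mem_subgroupOf.1 hrz))
      exact ⟨σ, rfl⟩
  have hidx : S.index = Nat.card ↥(Orb z e ρ) := by
    rw [index_eq_card]
    refine Nat.card_congr (Equiv.ofBijective (Quotient.lift (fun g : ↥(RR e ρ) =>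
      (⟨g.1 * z * g.1⁻¹, g.1, g.2, rfl⟩ : ↥(Orb z e ρ))) fun a b hab => ?_) ⟨?_, ?_⟩)
    · have h : (a : G)⁻¹ * b * z = z * ((a : G)⁻¹ * b) :=
        mem_centralizer_singleton_iff.1 (mem_subgroupOf.1 (QuotientGroup.leftRel_apply.1 hab))
      refine Subtype.ext ?_
      show (a : G) * z * (a : G)⁻¹ = (b : G) * z * (b : G)⁻¹
      calc (a : G) * z * (a : G)⁻¹ = (a : G) * (z * ((a : G)⁻¹ * b)) * (b : G)⁻¹ := by group
        _ = _ := by rw [← h]; group
    · intro a b
      induction a using Quotient.inductionOn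
      induction b using Quotient.inductionOn
      rename_i a b
      intro hab
      refine Quotient.sound (QuotientGroup.leftRel_apply.2 (mem_subgroupOf.2
        (mem_centralizer_singleton_iff.2 ?_)))
      have h : (a : G) * z * (a : G)⁻¹ = (b : G) * z * (b : G)⁻¹ := congrArg Subtype.val hab
      show (a : G)⁻¹ * b * z = z * ((a : G)⁻¹ * b)
      calc (a : G)⁻¹ * b * z = (a : G)⁻¹ * ((b : G) * z * (b : G)⁻¹) * b := by group
        _ = _ := by rw [← h]; group
    · rintro ⟨v, r, hr, rfl⟩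
      exact ⟨QuotientGroup.mk ⟨r, hr⟩, rfl⟩
  rw [← hidx, ← hS1, mul_comm, card_mul_index]

theorem card_cent_qe (hq : HasOmega z Q) :
    Nat.card ↥(centralizer ({qe e} : Set G)) = 512 * 174182400 := by
  obtain ⟨g, hg⟩ := isConj_iff.1 (show IsConj z (qe e) by
    obtain ⟨c, hc⟩ := exists_c T
    exact isConj_iff.2 ⟨c * ρ, by
      rw [show c * ρ * z * (c * ρ)⁻¹ = c * (ρ * z * ρ⁻¹) * c⁻¹ by group, T.rho_z, hc.cx]⟩)
  obtain ⟨π, hπ, hker⟩ := hq
  rw [← hg, InvChar.HJType.card_centralizer_conj, card_eq_card_quotient_mul_card_subgroup π.ker,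
    Nat.card_congr (QuotientGroup.quotientKerEquivOfSurjective π hπ).toEquiv, hker,
    Nat.card_congr (subgroupOfEquivOfLe fun a ha => T.setup.pack.mem_centralizer_z ha).toEquiv,
    Nat.card_congr e.toEquiv, card_ES, mul_comm]
  have key : ∀ q : (Fin 4 ⊕ Fin 4 → ZMod 2) → ZMod 2, q = Cfsg.quadFormPlus 4 (ZMod 2) →
      Nat.card ↥(Cfsg.Omega (ZMod 2) q) = 174182400 := by
    rintro q rfl; exact CfsgLib.ClassK.Conway.card_omega8plus
  rw [show Nat.card ↥CfsgLib.Trans3.Conway.Om = 174182400 from key _ (CfsgLib.Classical.qfPlus_coe 4)]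
  rfl

variable {T}

theorem Base.orbit_eq (B : Base T L c y) (hq : HasOmega z Q) {r : G} (hr : r ∈ RR e ρ) :
    r * z * r⁻¹ = z ∨ ∃ σ : A8, r * z * r⁻¹ = lam T σ * y * (lam T σ)⁻¹ := by
  classical
  haveI := Fintype.ofFinite G
  rcases orbit_cases T B.swap hr with hcomm | ha
  swap; · exact Or.inr (B.orbit_anti hr ha)
  refine Or.inl (by_contra fun hne => ?_)
  -- fibres over the non-zero singular vectors
  let F : Sp 3 → Finset G := fun a =>
    Finset.univ.filter fun v => v ∈ Orb z e ρ ∧ ∃ i j, v = kk z e ρ c i j a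
  have hmemF : ∀ {a v}, v ∈ F a ↔ v ∈ Orb z e ρ ∧ ∃ i j, v = kk z e ρ c i j a := fun {a v} => by
    simp [F]
  have hF2 : ∀ a, (F a).card ≤ 2 := by
    intro a
    have h2 : (Finset.univ : Finset (ZMod 2)).card = 2 := rfl
    rw [← h2]
    have hex : ∀ v, v ∈ F a → ∃ i j, v = kk z e ρ c i j a := fun v hv => (hmemF.1 hv).2
    refine Finset.card_le_card_of_injOn (fun v => if h : v ∈ F a then (hex v h).choose else 0)
      (fun v _ => Finset.mem_univ _) fun v hv v' hv' hi => ?_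
    have hv0 : v ∈ F a := hv
    have hv0' : v' ∈ F a := hv'
    simp only [dif_pos hv0, dif_pos hv0'] at hi
    obtain ⟨j, hj⟩ := (hex v hv0).choose_spec
    obtain ⟨j', hj'⟩ := (hex v' hv0').choose_spec
    generalize (hex v hv0).choose = i1 at hi hj
    generalize (hex v' hv0').choose = i2 at hi hj'
    subst hi
    obtain ⟨r1, hr1, hv1⟩ := (hmemF.1 hv0).1
    obtain ⟨r2, hr2, hv2⟩ := (hmemF.1 hv0').1
    by_contra hvv
    have hjj : j ≠ j' := fun h => hvv (by rw [hj, hj', h])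
    -- the product with `q` has the other exponent
    have hnm : v' * qe e = v := by
      have hval : ∀ i j : ZMod 2, kk z e ρ c i j a =
          pw z i * pw (qe e) j * kk z e ρ c 0 0 a := by
        intro i j
        rw [← kk_zero T B.swap i j, kk, kk, kk, (refl_isom v67_facts.1).map_zero,
          show c * nm z e ρ i j 0 0 * c⁻¹ * (c * nm z e ρ 0 0 (refl v67 a) 0 * c⁻¹) =
            c * (nm z e ρ i j 0 0 * nm z e ρ 0 0 (refl v67 a) 0) * c⁻¹ by group, T.nm_mul]
        simp [alt_zero_left, alt_zero_right, beta_zero_left, beta_zero_right]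
      have htk : qe e * kk z e ρ c 0 0 a = kk z e ρ c 0 0 a * qe e :=
        ((pack_QT T B.swap).comm_z (kk_mem T B.swap _ _ _)).symm
      rw [hj, hj', hval, hval _ j, mul_assoc _ _ (qe e), ← htk, ← mul_assoc, mul_assoc (pw z _)]
      have : j = j' + 1 := (by decide : ∀ p q : ZMod 2, p ≠ q → p = q + 1) _ _ hjj
      rw [this, pw_add T.setup.xe_facts.2.2.2.2.2.1, pw_one]
    rw [← hv1, ← hv2] at hnm
    exact not_both T hr1 hr2 hnm.symm
  have hstep : ∀ (σ : A8) (a : Sp 3), (F a).card ≤ (F (psi σ.1 a)).card := by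
    intro σ a
    refine Finset.card_le_card_of_injOn (fun v => lam T σ * v * (lam T σ)⁻¹) (fun v hv => ?_)
      (fun v _ v' _ h => mul_left_cancel (mul_right_cancel h))
    obtain ⟨⟨s, hs, rfl⟩, i, j, hv2⟩ := hmemF.1 hv
    obtain ⟨i', j', h⟩ := kk_lam T B.swap σ i j a
    exact hmemF.2 ⟨⟨lam T σ * s, mul_mem (lam_mem_RR T σ) hs, by
      show lam T σ * s * z * (lam T σ * s)⁻¹ = lam T σ * (s * z * s⁻¹) * (lam T σ)⁻¹
      group⟩, i', j', by
      show lam T σ * (s * z * s⁻¹) * (lam T σ)⁻¹ = _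
      rw [hv2, h]⟩
  have hpsi : ∀ (σ : A8) (a : Sp 3), (F (psi σ.1 a)).card = (F a).card := by
    intro σ a
    refine le_antisymm ?_ (hstep σ a)
    have h := hstep σ⁻¹ (psi σ.1 a)
    rwa [← psi_mul, Subgroup.coe_inv, inv_mul_cancel, psi_one] at h
  have hfold : ∀ (w : List (Fin 3)) (a : Sp 3),
      (F ((w.map fun k => (gen8 k).1).foldr psi a)).card = (F a).card := by
    intro w a
    induction w with
    | nil => rfl
    | cons k w ih => rw [List.map_cons, List.foldr_cons, hpsi, ih]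
  set k := (F (ofCode 1)).card with hk
  let S35 := Finset.univ.filter fun a : Sp 3 => qd a = 0 ∧ a ≠ 0
  have hS : ∀ a ∈ S35, (F a).card = k := by
    intro a ha
    obtain ⟨-, hqa, ha0⟩ := Finset.mem_filter.1 ha
    obtain ⟨p, hp, hpa⟩ := (sing_cover a hqa).resolve_left ha0
    rw [← hpa, ← hfold p.2, sing_check p hp]
  -- the nine other points
  have hcz : ∀ v ∈ Orb z e ρ, v * z = z * v → v = z ∨ ∃ a ∈ S35, v ∈ F a := by
    rintro v ⟨s, hs, rfl⟩ hvz
    obtain ⟨i, j, a, hv⟩ := exists_kk T B.swap (orbit_mem_QT T B.swap hs) hvz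
    by_cases ha : a = 0
    · left
      subst ha
      rw [kk_zero T B.swap] at hv
      rcases z2_cases i with rfl | rfl <;> rcases z2_cases j with rfl | rfl <;>
        simp only [pw_zero, pw_one, one_mul, mul_one] at hv
      · exact absurd (conj_eq_one_iff.1 hv) T.setup.pack.z_ne
      · exfalso
        have hsq : s * qe e = qe e * s := (mem_RR.1 hs).1
        refine qe_ne_z T (mul_left_cancel (a := s) ?_)
        rw [hsq, ← mul_inv_eq_iff_eq_mul.1 hv]
      · exact hv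
      · exact absurd hv (conj_ne_zt T hs)
    · refine Or.inr ⟨a, Finset.mem_filter.2 ⟨Finset.mem_univ _, ?_, ha⟩, hmemF.2 ⟨⟨s, hs, rfl⟩, i, j, hv⟩⟩
      exact kk_sq T B.swap (i := i) (j := j) (by rw [← hv]; exact orbit_sq T)
  choose pk hpk using exists_pick
  let P : Fin 8 → G := fun i => lam T (pk i) * y * (lam T (pk i))⁻¹
  have hPanti : ∀ i, Anti z e (P i) := fun i => Anti.conjLam T B.anti _
  have hPsh : ∀ i, Sh z e ρ c y (P i) (if i = 7 then 0 else pairVec 7 i) := fun i => by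
    have := B.shift (pk i)
    rwa [shiftVec, hpk] at this
  have hnanti : ∀ {v : G}, v * z = z * v → ¬ Anti z e v := fun {v} h h' => by
    rw [Anti, h] at h'
    exact absurd (Setup.el_inj (e := e) ((mul_eq_right.1 h'.symm).trans Setup.el_zero.symm)).1
      (by decide)
  have hPinj : Function.Injective P := by
    intro i j hij
    have h := hPsh i
    rw [hij] at h
    exact (by decide +kernel : ∀ i j : Fin 8,
      (if i = 7 then (0 : Sp 3) else pairVec 7 i) = (if j = 7 then 0 else pairVec 7 j) → i = j)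
      i j (Sh.unique T B.swap h (hPsh j))
  have hPmem : ∀ i, P i ∈ Orb z e ρ := fun i => B.orb_conj (pk i)
  have hPall : ∀ σ : A8, lam T σ * y * (lam T σ)⁻¹ = P (σ.1 7) := by
    intro σ
    have h7 : ((pk (σ.1 7))⁻¹ * σ).1 7 = 7 := by
      show (pk (σ.1 7)).1.symm (σ.1 7) = 7
      rw [Equiv.symm_apply_eq, hpk]
    calc lam T σ * y * (lam T σ)⁻¹ = lam T (pk (σ.1 7)) *
          (lam T ((pk (σ.1 7))⁻¹ * σ) * y * (lam T ((pk (σ.1 7))⁻¹ * σ))⁻¹) *
          (lam T (pk (σ.1 7)))⁻¹ := by rw [map_mul, map_inv]; group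
      _ = _ := by rw [mul_inv_eq_iff_eq_mul.2 (B.fix _ h7)]
  let O0 := S35.biUnion F
  let O9 := insert z (Finset.univ.image P)
  have hO9 : O9.card = 9 := by
    rw [Finset.card_insert_of_notMem, Finset.card_image_of_injective _ hPinj, Finset.card_univ,
      Fintype.card_fin]
    intro h
    obtain ⟨i, -, hi⟩ := Finset.mem_image.1 h
    exact hnanti (rfl : z * z = z * z) (hi ▸ hPanti i)
  have hO0 : O0.card = 35 * k := by
    rw [Finset.card_biUnion, Finset.sum_congr rfl hS, Finset.sum_const, sing_card, smul_eq_mul]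
    intro a _ b _ hab
    rw [Function.onFun, Finset.disjoint_left]
    intro v hva hvb
    obtain ⟨i, j, h1⟩ := (hmemF.1 hva).2
    obtain ⟨i', j', h2⟩ := (hmemF.1 hvb).2
    exact hab (kk_inj T B.swap (h1.symm.trans h2)).2.2
  have hdis : Disjoint O9 O0 := by
    rw [Finset.disjoint_left]
    intro v h9 h0
    obtain ⟨a, ha, hva⟩ := Finset.mem_biUnion.1 h0
    obtain ⟨i, j, hv⟩ := (hmemF.1 hva).2
    rcases Finset.mem_insert.1 h9 with h | h
    · have h1 : kk z e ρ c i j a = kk z e ρ c 1 0 0 := by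
        rw [← hv, h, kk_zero T B.swap, pw_one, pw_zero, mul_one]
      exact (Finset.mem_filter.1 ha).2.2 (kk_inj T B.swap h1).2.2
    · obtain ⟨m, -, rfl⟩ := Finset.mem_image.1 h
      exact hnanti (hv ▸ kk_comm_z T B.swap i j a) (hPanti m)
  have hO : Finset.univ.filter (· ∈ Orb z e ρ) = O9 ∪ O0 := by
    ext v
    rw [Finset.mem_filter, Finset.mem_union]
    constructor
    · rintro ⟨-, s, hs, rfl⟩
      rcases orbit_cases T B.swap hs with h | h
      · rcases hcz _ ⟨s, hs, rfl⟩ h with h1 | ⟨a, ha, hva⟩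
        · exact Or.inl (Finset.mem_insert.2 (Or.inl h1))
        · exact Or.inr (Finset.mem_biUnion.2 ⟨a, ha, hva⟩)
      · obtain ⟨σ, hσ⟩ := B.orbit_anti hs h
        rw [hPall] at hσ
        exact Or.inl (Finset.mem_insert.2 (Or.inr (Finset.mem_image.2 ⟨_, Finset.mem_univ _, hσ.symm⟩)))
    · rintro (h | h)
      · refine ⟨Finset.mem_univ _, ?_⟩
        rcases Finset.mem_insert.1 h with h | h
        · exact h ▸ self_mem_Orb
        · obtain ⟨m, -, rfl⟩ := Finset.mem_image.1 h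
          exact hPmem m
      · obtain ⟨a, -, hva⟩ := Finset.mem_biUnion.1 h
        exact ⟨Finset.mem_univ _, (hmemF.1 hva).1⟩
  have hcard : Nat.card ↥(Orb z e ρ) = 9 + 35 * k := by
    rw [← hO9, ← hO0, ← Finset.card_union_of_disjoint hdis, ← hO, Nat.card_eq_fintype_card]
    exact Fintype.card_subtype _
  have hdvd : Nat.card ↥(RR e ρ) ∣ Nat.card ↥(centralizer ({qe e} : Set G)) :=
    card_dvd_of_le fun g hg => mem_centralizer_singleton_iff.2 (mem_RR.1 hg).1
  rw [card_RR T, card_cent_qe T hq, hcard] at hdvd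
  have hk0 : k = 0 := orb_div ⟨k, Nat.lt_succ_of_le (hF2 _)⟩ hdvd
  rcases hcz _ ⟨r, hr, rfl⟩ hcomm with h | ⟨a, ha, hva⟩
  · exact hne h
  · have := Finset.card_pos.2 ⟨_, hva⟩
    rw [hS a ha, hk0] at this
    exact lt_irrefl 0 this

end

end CfsgLib.StructB.CoA9
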