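import Cfsg.Agent.Lib.StructB.CoA9.Isol
import Cfsg.Agent.Lib.StructB.CoA9.Fpf
import Mathlib.GroupTheory.FixedPointFree
import Mathlib.GroupTheory.NoncommCoprod
import Mathlib.GroupTheory.SpecificGroups.Dihedral
import Mathlib.GroupTheory.SpecificGroups.Alternating.Simple
import Mathlib.GroupTheory.PGroup

/-!
The normaliser of the group of order three is `S₃ × A₉`.
-/

set_option autoImplicit false
set_option maxRecDepth 20000
set_option synthInstance.maxSize 2000

namespace CfsgLib.StructB.CoA9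

open Subgroup CfsgLib.Trans3.ExtraTwo CfsgLib.ClassK.Conway Equiv

local notation "A8" => alternatingGroup (Fin 8)
local notation "A9" => alternatingGroup (Fin 9)

/-- A homomorphism from the dihedral group of order six. -/
def dihHom {H : Type*} [Group H] (a b : H) (ha : a ^ 3 = 1) (hb : b * b = 1)
    (hab : b * a * b = a⁻¹) : DihedralGroup 3 →* H :=
  MonoidHom.mk' (fun g => match g with
    | .r i => a ^ i.val
    | .sr i => b * a ^ i.val) (by
    have hadd : ∀ i j : ZMod 3, a ^ (i + j).val = a ^ i.val * a ^ j.val := fun i j => by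
      rw [← pow_add, ZMod.val_add, ← pow_eq_pow_mod _ ha]
    have hneg : ∀ i : ZMod 3, b * a ^ i.val = a ^ (-i).val * b := fun i => by
      have hi : a ^ (-i).val = (a ^ i.val)⁻¹ := eq_inv_of_mul_eq_one_left (by
        rw [← hadd, neg_add_cancel, ZMod.val_zero, pow_zero])
      have hbi : b⁻¹ = b := inv_eq_of_mul_eq_one_right hb
      have : b * a ^ i.val * b⁻¹ = (a ^ i.val)⁻¹ := by
        rw [← conj_pow, hbi, hab, inv_pow]
      rw [hi, ← this]; group
    rintro (i | i) (j | j)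
    · exact hadd i j
    · show b * a ^ (j - i).val = a ^ i.val * (b * a ^ j.val)
      rw [sub_eq_add_neg, add_comm, hadd, ← mul_assoc b, hneg (-i), neg_neg, mul_assoc]
    · show b * a ^ (i + j).val = b * a ^ i.val * a ^ j.val
      rw [hadd, mul_assoc]
    · show a ^ (j - i).val = b * a ^ i.val * (b * a ^ j.val)
      rw [hneg i, mul_assoc, ← mul_assoc b b, hb, one_mul, ← hadd, ← sub_eq_neg_add])

/-- The dihedral group of order six is the symmetric group of degree three. -/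
noncomputable def dihPerm : DihedralGroup 3 ≃* Equiv.Perm (Fin 3) :=
  MulEquiv.ofBijective (dihHom (swap 0 1 * swap 1 2) (swap 0 1) (Equiv.ext (by decide))
    (Equiv.ext (by decide)) (Equiv.ext (by decide))) (by
    rw [Fintype.bijective_iff_injective_and_card]
    refine ⟨?_, by rw [DihedralGroup.card, Fintype.card_perm, Fintype.card_fin]; rfl⟩
    unfold Function.Injective
    decide +kernel)

universe u

variable {G : Type u} [Group G] {z : G} {Q : Subgroup G} {e : ↥Q ≃* ES 4 (ff 4)} {ρ : G}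
variable [Finite G] {T : Tri z Q e ρ} {pt : Fin 9 → G}
variable {θ : ↥(RR e ρ) ≃* alternatingGroup (Fin 9)}

theorem Nine.transitive (N : Nine T pt θ) (i : Fin 9) : ∃ s ∈ RR e ρ, s * z * s⁻¹ = pt i := by
  obtain ⟨p, -, hp, hpi⟩ := (by decide +kernel : ∀ i : Fin 9, ∃ p ∈ [(1 : Perm (Fin 9)),
    swap 8 0 * swap 2 3, swap 8 1 * swap 2 3, swap 8 2 * swap 0 1, swap 8 3 * swap 0 1,
    swap 8 4 * swap 0 1, swap 8 5 * swap 0 1, swap 8 6 * swap 0 1, swap 8 7 * swap 0 1],
    Perm.sign p = 1 ∧ p 8 = i) i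
  set r := θ.symm ⟨p, Perm.mem_alternatingGroup.2 hp⟩
  refine ⟨r, r.2, ?_⟩
  have h := N.act r (Fin.last 8)
  rw [N.last, MulEquiv.apply_symm_apply] at h
  rw [h]
  exact congrArg pt hpi

theorem isConj_z_qe (T : Tri z Q e ρ) : IsConj z (qe e) := by
  obtain ⟨c, hc⟩ := exists_c T
  exact isConj_iff.2 ⟨c * ρ, by
    rw [show c * ρ * z * (c * ρ)⁻¹ = c * (ρ * z * ρ⁻¹) * c⁻¹ by group, T.rho_z, hc.cx]⟩

theorem qe_not_comm_rho (T : Tri z Q e ρ) : qe e * ρ ≠ ρ * qe e := fun h => by
  have h3 := T.qrq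
  rw [h, mul_assoc, T.setup.xe_facts.2.2.2.2.2.1, mul_one] at h3
  have : ρ * ρ = 1 := by nth_rw 2 [h3]; rw [mul_inv_cancel]
  exact rho_ne T (by rw [← T.rho3, this, one_mul])

theorem qe_mem_norm (T : Tri z Q e ρ) :
    qe e ∈ normalizer ((zpowers ρ : Subgroup G) : Set G) := by
  have hi : (qe e)⁻¹ = qe e := inv_eq_of_mul_eq_one_right T.setup.xe_facts.2.2.2.2.2.1
  have h : ∀ a ∈ zpowers ρ, qe e * a * (qe e)⁻¹ ∈ zpowers ρ := by
    intro a ha
    obtain ⟨i, rfl⟩ := mem_zpowers_iff.1 ha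
    rw [← conj_zpow, hi, T.qrq]
    exact zpow_mem (inv_mem (mem_zpowers _)) i
  refine mem_normalizer_iff.2 fun a => ⟨h a, fun ha => ?_⟩
  have := h _ ha
  rwa [hi, show qe e * (qe e * a * qe e) * qe e = (qe e * qe e) * a * (qe e * qe e) by group,
    T.setup.xe_facts.2.2.2.2.2.1, one_mul, mul_one] at this

theorem norm_cases (T : Tri z Q e ρ) {g : G} (hg : g ∈ normalizer ((zpowers ρ : Subgroup G) : Set G)) :
    g * ρ = ρ * g ∨ g * ρ = ρ⁻¹ * g := by
  have hm := (mem_normalizer_iff.1 hg ρ).1 (mem_zpowers ρ)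
  rcases CfsgLib.InvChar.HJType.mem_zpowers_three (orderOf_rho T) hm with h | h | h
  · exact absurd (conj_eq_one_iff.1 h) (rho_ne T)
  · exact Or.inl (mul_inv_eq_iff_eq_mul.1 h)
  · exact Or.inr (mul_inv_eq_iff_eq_mul.1 h)

theorem cent_qe_cases (T : Tri z Q e ρ) {g : G}
    (hg : g ∈ normalizer ((zpowers ρ : Subgroup G) : Set G)) (hgq : g * qe e = qe e * g) :
    g ∈ RR e ρ ∨ g * qe e ∈ RR e ρ := by
  rcases norm_cases T hg with h | h
  · exact Or.inl (mem_RR.2 ⟨hgq, h⟩)
  · refine Or.inr (mem_RR.2 ⟨by rw [hgq, mul_assoc, hgq], ?_⟩)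
    have hqr : qe e * ρ = ρ⁻¹ * qe e := by
      refine mul_inv_eq_iff_eq_mul.1 ?_
      rw [inv_eq_of_mul_eq_one_right T.setup.xe_facts.2.2.2.2.2.1, T.qrq]
    have hi : g * ρ⁻¹ = ρ * g := by
      rw [mul_inv_eq_iff_eq_mul, mul_assoc, h, mul_inv_cancel_left]
    rw [mul_assoc, hqr, ← mul_assoc, hi, mul_assoc]

theorem isolated_qe (N : Nine T pt θ) :
    Cfsg.IsIsolatedInvolution (⟨qe e, qe_mem_norm T⟩ :
      ↥(normalizer ((zpowers ρ : Subgroup G) : Set G))) := by
  have hqq := T.setup.xe_facts.2.2.2.2.2.1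
  have hne1 : qe e ≠ 1 := fun h => qe_not_comm_rho T (by rw [h]; group)
  haveI : Fact (Nat.Prime 2) := ⟨Nat.prime_two⟩
  refine ⟨orderOf_eq_prime (Subtype.ext (by rw [SubmonoidClass.coe_pow, pow_two]; exact hqq))
    (fun h => hne1 (congrArg Subtype.val h)), ?_⟩
  rintro ⟨g, hg⟩ hc
  have hc' : qe e * (g * qe e * g⁻¹) = g * qe e * g⁻¹ * qe e := congrArg Subtype.val hc
  refine Subtype.ext ?_
  show g * qe e * g⁻¹ = qe e
  set v := g * qe e * g⁻¹ with hv
  have hvN : v ∈ normalizer ((zpowers ρ : Subgroup G) : Set G) :=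
    mul_mem (mul_mem hg (qe_mem_norm T)) (inv_mem hg)
  have hv2 : v * v = 1 := by
    rw [hv, show g * qe e * g⁻¹ * (g * qe e * g⁻¹) = g * (qe e * qe e) * g⁻¹ by group, hqq]; group
  have hvz : IsConj z v := (isConj_z_qe T).trans (isConj_iff.2 ⟨g, rfl⟩)
  rcases cent_qe_cases T hvN hc'.symm with h | h
  · exfalso
    have hr := (mem_RR.1 h).2
    refine qe_not_comm_rho T ?_
    have hgi : g⁻¹ * ρ * g ∈ zpowers ρ := by
      have := (mem_normalizer_iff.1 (inv_mem hg) ρ).1 (mem_zpowers ρ)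
      rwa [inv_inv] at this
    obtain ⟨i, hi⟩ : ∃ i : ℤ, g * ρ * g⁻¹ = ρ ^ i := by
      obtain ⟨i, hi⟩ := mem_zpowers_iff.1 ((mem_normalizer_iff.1 hg ρ).1 (mem_zpowers ρ))
      exact ⟨i, hi.symm⟩
    have hcm : Commute v (g * ρ * g⁻¹) := by
      rw [hi]; exact (show Commute v ρ from hr).zpow_right i
    calc qe e * ρ = g⁻¹ * (v * (g * ρ * g⁻¹)) * g := by rw [hv]; group
      _ = g⁻¹ * (g * ρ * g⁻¹ * v) * g := by rw [hcm.eq]
      _ = ρ * qe e := by rw [hv]; group
  · by_contra hne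
    set r := v * qe e with hr
    have hr2 : r * r = 1 := by
      rw [hr, show v * qe e * (v * qe e) = v * (qe e * v) * qe e by group, hc', ← mul_assoc, hv2,
        one_mul, hqq]
    have hr1 : r ≠ 1 := fun h1 => hne (by
      calc v = v * (qe e * qe e) := by rw [hqq, mul_one]
        _ = qe e := by rw [← mul_assoc, ← hr, h1, one_mul])
    refine N.qe_mul_not_conj N.transitive h hr2 hr1 ?_
    have : qe e * r = v := by rw [hr, ← mul_assoc, hc', mul_assoc, hqq, mul_one]
    rwa [this]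

/-- The core of the normaliser of `⟨ρ⟩`. -/
structure Core (T : Tri z Q e ρ) (O : Subgroup G) : Prop where
  odd : Odd (Nat.card ↥O)
  le : O ≤ normalizer ((zpowers ρ : Subgroup G) : Set G)
  conj : ∀ g ∈ normalizer ((zpowers ρ : Subgroup G) : Set G), ∀ a ∈ O, g * a * g⁻¹ ∈ O
  inv : ∀ a ∈ O, qe e * a * qe e = a⁻¹
  comm : ∀ a ∈ O, ∀ b ∈ O, a * b = b * a
  rho : ρ ∈ O
  fac : ∀ g ∈ normalizer ((zpowers ρ : Subgroup G) : Set G), ∃ a ∈ O,
    (a * g) * qe e = qe e * (a * g)

theorem exists_core (N : Nine T pt θ) : ∃ O, Core T O := by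
  classical
  set Kh := normalizer ((zpowers ρ : Subgroup G) : Set G) with hKh
  set t : ↥Kh := ⟨qe e, qe_mem_norm T⟩ with ht
  have hiso := isolated_qe N
  set O' := Cfsg.oddCore ↥Kh with hO'
  haveI hn : O'.Normal := CfsgLib.Solvable.pPrimeCore_normal 2 ↥Kh
  set O := O'.map Kh.subtype with hO
  have hcard : Odd (Nat.card ↥O) := by
    rw [hO, card_map_of_injective Kh.subtype_injective]
    exact CfsgLib.Invol.odd_card_oddCore ↥Kh
  have hle : O ≤ Kh := map_subtype_le _
  have hconj : ∀ g ∈ Kh, ∀ a ∈ O, g * a * g⁻¹ ∈ O := by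
    rintro g hg _ ⟨a, ha, rfl⟩
    exact ⟨⟨g, hg⟩ * a * ⟨g, hg⟩⁻¹, hn.conj_mem a ha _, rfl⟩
  have hqq := T.setup.xe_facts.2.2.2.2.2.1
  have hqi : (qe e)⁻¹ = qe e := inv_eq_of_mul_eq_one_right hqq
  have hcm : ∀ g ∈ Kh, qe e * g * qe e * g⁻¹ ∈ O := fun g hg => by
    refine ⟨t * ⟨g, hg⟩ * t⁻¹ * ⟨g, hg⟩⁻¹, CfsgLib.Invol.zstar ↥Kh hiso _, ?_⟩
    show qe e * g * (qe e)⁻¹ * g⁻¹ = _
    rw [hqi]
  -- no element of the core centralises `q`
  have hfix : ∀ a ∈ O, a * qe e = qe e * a → a = 1 := by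
    have hR : O ⊓ RR e ρ = ⊥ := by
      set A := ((O ⊓ RR e ρ).subgroupOf (RR e ρ)).map θ.toMonoidHom with hA
      haveI : A.Normal := by
        refine Subgroup.Normal.map ⟨?_⟩ _ θ.surjective
        rintro ⟨a, ha⟩ ha' ⟨r, hr⟩
        refine mem_subgroupOf.2 ⟨hconj r ?_ a (mem_subgroupOf.1 ha').1,
          (RR e ρ).mul_mem ((RR e ρ).mul_mem hr ha) ((RR e ρ).inv_mem hr)⟩
        have hr' : Commute r ρ := (mem_RR.1 hr).2
        refine mem_normalizer_iff.2 fun x => ⟨fun hx => ?_, fun hx => ?_⟩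
        · obtain ⟨i, rfl⟩ := mem_zpowers_iff.1 hx
          rw [(hr'.zpow_right i).eq, mul_inv_cancel_right]; exact zpow_mem (mem_zpowers _) i
        · obtain ⟨i, hi⟩ := mem_zpowers_iff.1 hx
          refine mem_zpowers_iff.2 ⟨i, ?_⟩
          calc ρ ^ i = r⁻¹ * (r * ρ ^ i) := by group
            _ = r⁻¹ * (ρ ^ i * r) := by rw [(hr'.zpow_right i).eq]
            _ = x := by rw [hi]; group
      haveI : IsSimpleGroup ↥A9 := alternatingGroup.isSimpleGroup (by rw [Nat.card_fin]; norm_num)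
      rcases IsSimpleGroup.eq_bot_or_eq_top_of_normal A inferInstance with h | h
      · rw [hA, Subgroup.map_eq_bot_iff_of_injective _ θ.injective, subgroupOf_eq_bot] at h
        exact h.eq_bot_of_le inf_le_right
      · exfalso
        have h1 : Nat.card ↥A = Nat.card ↥(O ⊓ RR e ρ) := by
          rw [hA, card_map_of_injective θ.injective]
          exact Nat.card_congr (subgroupOfEquivOfLe inf_le_right).toEquiv
        have h2 : Odd (Nat.card ↥(O ⊓ RR e ρ)) :=
          hcard.of_dvd_nat (card_dvd_of_le inf_le_left)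
        rw [← h1, h, card_top, nat_card_alternatingGroup, Nat.card_fin] at h2
        exact absurd h2 (by decide)
    intro a ha hc
    rcases cent_qe_cases T (hle ha) hc with h | h
    · exact (mem_bot).1 (hR ▸ (mem_inf.2 ⟨ha, h⟩ : a ∈ O ⊓ RR e ρ))
    · exfalso
      obtain ⟨k, hk⟩ := hcard
      have hap : a ^ (2 * k + 1) = 1 := by
        rw [← hk]
        exact congrArg Subtype.val (pow_card_eq_one' (x := (⟨a, ha⟩ : ↥O)))
      have h' := pow_mem h (2 * k + 1)
      rw [(show Commute a (qe e) from hc).mul_pow, hap, one_mul, pow_succ, pow_mul, pow_two, hqq,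
        one_pow, one_mul] at h'
      exact qe_not_comm_rho T (mem_RR.1 h').2
  let φ : ↥O →* ↥O := MonoidHom.mk' (fun a => ⟨qe e * a * (qe e)⁻¹, hconj _ (qe_mem_norm T) a a.2⟩)
    fun a b => Subtype.ext (by
      show qe e * (a * b : G) * (qe e)⁻¹ = qe e * a * (qe e)⁻¹ * (qe e * b * (qe e)⁻¹)
      group)
  have hff : MonoidHom.FixedPointFree (φ : ↥O → ↥O) := fun a h =>
    Subtype.ext (hfix a a.2 (mul_inv_eq_iff_eq_mul.1 (congrArg Subtype.val h)).symm)
  have hinv2 : Function.Involutive (φ : ↥O → ↥O) := fun a => Subtype.ext (by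
    show qe e * (qe e * a * (qe e)⁻¹) * (qe e)⁻¹ = a
    rw [hqi, show qe e * (qe e * a * qe e) * qe e = (qe e * qe e) * a * (qe e * qe e) by group, hqq,
      one_mul, mul_one])
  have hinv : ∀ a ∈ O, qe e * a * qe e = a⁻¹ := fun a ha => by
    have := congrArg Subtype.val (congrFun (hff.coe_eq_inv_of_involutive hinv2) ⟨a, ha⟩)
    change qe e * a * (qe e)⁻¹ = a⁻¹ at this
    rwa [hqi] at this
  refine ⟨O, hcard, hle, hconj, hinv, fun a ha b hb =>
    congrArg Subtype.val (hff.commute_all_of_involutive hinv2 ⟨a, ha⟩ ⟨b, hb⟩).eq, ?_, ?_⟩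
  · have hρN : ρ ∈ Kh := le_normalizer (mem_zpowers ρ)
    have := hcm ρ hρN
    rwa [T.qrq, ← mul_inv_rev, inv_eq_of_mul_eq_one_right T.rho3] at this
  · intro g hg
    obtain ⟨o, ho, hog⟩ : ∃ o ∈ O, qe e * g * qe e = o * g :=
      ⟨_, hcm g hg, (inv_mul_cancel_right _ _).symm⟩
    obtain ⟨k, hk⟩ := hcard
    set a := o ^ (k + 1) with ha
    have haa : a * a = o := by
      rw [ha, ← pow_add, show k + 1 + (k + 1) = 2 * k + 1 + 1 by ring, pow_succ, ← hk,
        show o ^ Nat.card ↥O = 1 from congrArg Subtype.val (pow_card_eq_one' (x := (⟨o, ho⟩ : ↥O))),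
        one_mul]
    have haO : a ∈ O := pow_mem ho _
    refine ⟨a, haO, ?_⟩
    have h : qe e * (a * g) * qe e = a * g := by
      calc qe e * (a * g) * qe e = (qe e * a * qe e) * (qe e * g * qe e) := by
            rw [show qe e * a * qe e * (qe e * g * qe e) = qe e * a * (qe e * qe e) * g * qe e by group,
              hqq, mul_one]
            group
        _ = a * g := by rw [hinv a haO, hog, ← haa]; group
    calc a * g * qe e = qe e * (a * g) * qe e * qe e := by rw [h]
      _ = qe e * (a * g) := by rw [mul_assoc, hqq, mul_one]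

/-- The core is `⟨ρ⟩`. -/
theorem Core.eq_zpowers {O : Subgroup G} (C : Core T O) (N : Nine T pt θ) (hq : HasOmega z Q) :
    O = zpowers ρ := by
  classical
  obtain ⟨L, F⟩ := exists_fiveL T hq
  obtain ⟨E, w, hE4, -, -, hEL, h36, hE, -, -⟩ := F.exists_special
  set b := bb T with hb
  have hbR : b ∈ RR e ρ := lam_mem_RR T sb
  have hWO : zpowers ρ ≤ O := zpowers_le.2 C.rho
  have hRN : ∀ r ∈ RR e ρ, r ∈ normalizer ((zpowers ρ : Subgroup G) : Set G) := by
    intro r hr
    have hr' : Commute r ρ := (mem_RR.1 hr).2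
    refine mem_normalizer_iff.2 fun x => ⟨fun hx => ?_, fun hx => ?_⟩
    · obtain ⟨i, rfl⟩ := mem_zpowers_iff.1 hx
      rw [(hr'.zpow_right i).eq, mul_inv_cancel_right]; exact zpow_mem (mem_zpowers _) i
    · obtain ⟨i, hi⟩ := mem_zpowers_iff.1 hx
      refine mem_zpowers_iff.2 ⟨i, ?_⟩
      calc ρ ^ i = r⁻¹ * (r * ρ ^ i) := by group
        _ = r⁻¹ * (ρ ^ i * r) := by rw [(hr'.zpow_right i).eq]
        _ = x := by rw [hi]; group
  -- the centraliser of `b` in the core
  have hfixb : ∀ a ∈ O, b * a * b⁻¹ = a → a ∈ zpowers ρ := by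
    set A := O ⊓ centralizer ({b} : Set G) with hA
    set C0 := RR e ρ ⊓ centralizer ({b} : Set G) with hC0
    set H := centralizer ({b} : Set G) ⊓ centralizer ({ρ} : Set G) with hH
    have hρA : ρ ∈ A := ⟨C.rho, mem_centralizer_singleton_iff.2 (lam_comm T sb).2.2.1.symm⟩
    have hAH : A ≤ H := fun a ha => ⟨ha.2, mem_centralizer_singleton_iff.2 (C.comm a ha.1 ρ C.rho)⟩
    have hC0H : C0 ≤ H := fun a ha => ⟨ha.2, mem_centralizer_singleton_iff.2 (mem_RR.1 ha.1).2⟩
    have h60 : 60 ∣ Nat.card ↥C0 := by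
      have hEC : E ≤ C0 := fun a ha => ⟨mem_RR.2 ⟨(hE a ha).2.2.1, (hE a ha).2.1⟩,
        mem_centralizer_singleton_iff.2 (hE a ha).2.2.2.1⟩
      have hxC : lam T sx ∈ C0 := ⟨lam_mem_RR T sx,
        mem_centralizer_singleton_iff.2 (F.lam_mem_bb sx small_facts.1)⟩
      have hbC : b ∈ C0 := ⟨hbR, mem_centralizer_singleton_iff.2 rfl⟩
      have h4 : 4 ∣ Nat.card ↥C0 := hE4 ▸ card_dvd_of_le hEC
      have h3 : 3 ∣ Nat.card ↥C0 := by
        haveI : Fact (Nat.Prime 3) := ⟨by norm_num⟩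
        have ho : orderOf (lam T sx) = 3 := orderOf_eq_prime
          (by rw [← map_pow, gen_orders.2.2.2.1, map_one]) fun h => small_facts.2.2.2.2.2.2.1
          (lam_injective T (h.trans (map_one _).symm))
        exact ho ▸ C0.orderOf_dvd_natCard hxC
      have h5 : 5 ∣ Nat.card ↥C0 := orderOf_bb T ▸ C0.orderOf_dvd_natCard hbC
      exact Nat.Coprime.mul_dvd_of_dvd_of_dvd (by norm_num : Nat.Coprime 12 5)
        (Nat.Coprime.mul_dvd_of_dvd_of_dvd (by norm_num : Nat.Coprime 4 3) h4 h3) h5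
    have hH180 : Nat.card ↥H ≤ 180 := by
      let M := L ⊓ centralizer ({ρ} : Set G)
      have hb5 : b ^ 5 = 1 := orderOf_bb T ▸ pow_orderOf_eq_one b
      let f : ↥M × Fin 5 → ↥H := fun p => ⟨p.1.1 * b ^ p.2.1,
        mul_mem (mem_inf.2 ⟨mem_centralizer_singleton_iff.2 (F.cent _ p.1.2.1), p.1.2.2⟩)
          (pow_mem (mem_inf.2 ⟨mem_centralizer_singleton_iff.2 rfl,
            mem_centralizer_singleton_iff.2 (mem_RR.1 hbR).2⟩) _)⟩
      have hf : Function.Surjective f := by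
        rintro ⟨h, hh1, hh2⟩
        obtain ⟨l, hl, i, rfl⟩ := F.fac h (mem_centralizer_singleton_iff.1 hh1)
        have hlr : l * ρ = ρ * l := by
          have h1 : Commute (l * b ^ i) ρ := mem_centralizer_singleton_iff.1 hh2
          have h2 : Commute (b ^ i) ρ := Commute.pow_left (mem_RR.1 hbR).2 i
          have := (h1.mul_left h2.inv_left)
          rwa [mul_inv_cancel_right] at this
        exact ⟨(⟨l, hl, mem_centralizer_singleton_iff.2 hlr⟩, ⟨i % 5, Nat.mod_lt _ (by norm_num)⟩),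
          Subtype.ext (by show l * b ^ (i % 5) = l * b ^ i; rw [← pow_eq_pow_mod _ hb5])⟩
      refine (Nat.card_le_card_of_surjective f hf).trans ?_
      rw [Nat.card_prod, h36, Nat.card_fin]
    let g : ↥A × ↥C0 → ↥H := fun p => ⟨p.1.1 * p.2.1, mul_mem (hAH p.1.2) (hC0H p.2.2)⟩
    have hg : Function.Injective g := by
      rintro ⟨a, c⟩ ⟨a', c'⟩ h
      have h' : (a : G) * c = a' * c' := congrArg Subtype.val h
      have h1 : (a' : G)⁻¹ * a = c' * (c : G)⁻¹ := by
        rw [eq_mul_inv_iff_mul_eq, mul_assoc, h', inv_mul_cancel_left]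
      have hR : (a' : G)⁻¹ * a ∈ RR e ρ := h1 ▸ mul_mem c'.2.1 (inv_mem c.2.1)
      have hO : (a' : G)⁻¹ * a ∈ O := mul_mem (inv_mem a'.2.1) a.2.1
      have h2 := C.inv _ hO
      set d := (a' : G)⁻¹ * a
      have hd : d * d = 1 := by
        have hc : Commute d (qe e) := (mem_RR.1 hR).1
        calc d * d = (qe e * qe e) * d * d := by rw [T.setup.xe_facts.2.2.2.2.2.1, one_mul]
          _ = qe e * (qe e * d) * d := by group
          _ = (qe e * d * qe e) * d := by
            conv_lhs => rw [← hc.eq]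
            group
          _ = 1 := by rw [h2, inv_mul_cancel]
      have hd1 : d = 1 := by
        obtain ⟨k, hk⟩ := C.odd
        have : d ^ (2 * k + 1) = 1 := hk ▸ congrArg Subtype.val (pow_card_eq_one' (x := (⟨d, hO⟩ : ↥O)))
        rwa [pow_succ, pow_mul, pow_two, hd, one_pow, one_mul] at this
      have haa : (a : G) = a' := (inv_mul_eq_one.1 hd1).symm
      refine Prod.ext (Subtype.ext haa) (Subtype.ext ?_)
      rw [haa] at h'
      exact mul_left_cancel h'
    have hle := (Nat.card_le_card_of_injective g hg).trans hH180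
    rw [Nat.card_prod] at hle
    have hA3 : Nat.card ↥A ≤ 3 := by
      have := Nat.le_of_dvd Nat.card_pos h60
      nlinarith [Nat.card_pos (α := ↥A)]
    have hAW : zpowers ρ = A := eq_of_le_of_card_ge (zpowers_le.2 hρA)
      (by rw [Nat.card_zpowers, orderOf_rho T]; exact hA3)
    intro a ha hab
    rw [hAW]
    exact ⟨ha, mem_centralizer_singleton_iff.2 (mul_inv_eq_iff_eq_mul.1 hab).symm⟩
  -- all elements of order five
  have hfix5 : ∀ r ∈ RR e ρ, r ^ 5 = 1 → r ≠ 1 → ∀ a ∈ O, r * a * r⁻¹ = a → a ∈ zpowers ρ := by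
    intro r hr hr5 hr1 a ha hra
    haveI : Fact (Nat.Prime 5) := ⟨by norm_num⟩
    have hct : ∀ τ : A9, orderOf τ = 5 → τ.1.cycleType = {5} := by
      intro τ hτ
      have h5 : orderOf τ.1 = 5 := by rw [orderOf_coe]; exact hτ
      obtain ⟨n, hn⟩ := Perm.cycleType_prime_order (h5.symm ▸ Nat.prime_five : (orderOf τ.1).Prime)
      rw [h5] at hn
      have hs := τ.1.sum_cycleType
      have hle := Finset.card_le_univ τ.1.support
      rw [hn, Multiset.sum_replicate, smul_eq_mul] at hs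
      rw [Fintype.card_fin] at hle
      obtain rfl : n = 0 := by omega
      simpa using hn
    have ho : orderOf (θ ⟨r, hr⟩) = 5 := by
      rw [MulEquiv.orderOf_eq, ← orderOf_coe]; exact orderOf_eq_prime hr5 hr1
    have hob : orderOf (θ ⟨b, hbR⟩) = 5 := by
      rw [MulEquiv.orderOf_eq, ← orderOf_coe]; exact orderOf_bb T
    obtain ⟨μ, hμ⟩ := isConj_iff.1 (alternatingGroup.isConj_of (σ := θ ⟨b, hbR⟩) (τ := θ ⟨r, hr⟩)
      (Perm.isConj_iff_cycleType_eq.2 ((hct _ hob).trans (hct _ ho).symm)) (by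
        have hs := (θ ⟨b, hbR⟩).1.sum_cycleType
        rw [hct _ hob, Multiset.sum_singleton] at hs
        rw [← hs, Fintype.card_fin]; norm_num))
    obtain ⟨s, rfl⟩ := θ.surjective μ
    rw [← map_inv, ← map_mul, ← map_mul] at hμ
    have hs : (s : G) * b * (s : G)⁻¹ = r := congrArg Subtype.val (θ.injective hμ)
    have hsN := hRN s s.2
    have h1 : (s : G)⁻¹ * a * s ∈ O := by
      have := C.conj _ (inv_mem hsN) a ha
      rwa [inv_inv] at this
    have h2 := hfixb _ h1 (by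
      calc b * ((s : G)⁻¹ * a * s) * b⁻¹ = (s : G)⁻¹ * (r * a * r⁻¹) * s := by rw [← hs]; group
        _ = _ := by rw [hra])
    have h3 := (mem_normalizer_iff.1 hsN _).1 h2
    rwa [show (s : G) * ((s : G)⁻¹ * a * s) * (s : G)⁻¹ = a by group] at h3
  -- five does not divide the order of the core
  have h5free : ∀ a ∈ O, a ^ 5 = 1 → a = 1 := by
    intro a ha ha5
    by_contra hne
    haveI : Fact (Nat.Prime 5) := ⟨by norm_num⟩
    let P : Subgroup G :=
      { carrier := {x | x ∈ O ∧ x ^ 5 = 1}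
        one_mem' := ⟨one_mem _, one_pow _⟩
        mul_mem' := fun {x y} hx hy => ⟨mul_mem hx.1 hy.1, by
          rw [(show Commute x y from C.comm x hx.1 y hy.1).mul_pow, hx.2, hy.2, one_mul]⟩
        inv_mem' := fun {x} hx => ⟨inv_mem hx.1, by rw [inv_pow, hx.2, inv_one]⟩ }
    have haP : a ∈ P := ⟨ha, ha5⟩
    have h5dvd : 5 ∣ Nat.card ↥P := by
      have := P.orderOf_dvd_natCard haP
      rwa [orderOf_eq_prime ha5 hne] at this
    letI act5 : MulAction ↥(zpowers b) ↥P :=
      { smul := fun k x => ⟨(k : G) * x * (k : G)⁻¹,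
          C.conj _ (hRN _ (zpowers_le.2 hbR k.2)) _ x.2.1, by rw [conj_pow, x.2.2]; group⟩
        one_smul := fun x => Subtype.ext (by show (1 : G) * x * (1 : G)⁻¹ = x; group)
        mul_smul := fun k l x => Subtype.ext (by
          show (k * l : G) * x * (k * l : G)⁻¹ = k * (l * x * (l : G)⁻¹) * (k : G)⁻¹; group) }
    have hp : IsPGroup 5 ↥(zpowers b) := IsPGroup.of_card (n := 1) (by
      rw [Nat.card_zpowers, orderOf_bb T]; norm_num)
    have h1 : (⟨1, one_mem P⟩ : ↥P) ∈ MulAction.fixedPoints ↥(zpowers b) ↥P := fun k =>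
      Subtype.ext (by show (k : G) * 1 * (k : G)⁻¹ = 1; group)
    obtain ⟨x, hx, hx1⟩ := hp.exists_fixed_point_of_prime_dvd_card_of_fixed_point ↥P h5dvd h1
    have hxb : b * (x : G) * b⁻¹ = x := congrArg Subtype.val (hx ⟨b, mem_zpowers b⟩)
    have hxW := hfixb x x.2.1 hxb
    have := (zpowers ρ).orderOf_dvd_natCard hxW
    rw [Nat.card_zpowers, orderOf_rho T, orderOf_eq_prime x.2.2 fun h => hx1 (Subtype.ext h.symm)]
      at this
    norm_num at this
  -- the module
  refine le_antisymm (fun o ho => ?_) hWO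
  set W0 := (zpowers ρ).subgroupOf O with hW0
  haveI : W0.Normal := ⟨fun x hx y => by
    have : y * x * y⁻¹ = x := mul_inv_eq_iff_eq_mul.2 (Subtype.ext (C.comm y y.2 x x.2))
    rwa [this]⟩
  letI : CommGroup (↥O ⧸ W0) :=
    { (inferInstance : Group (↥O ⧸ W0)) with
      mul_comm := fun p q => by
        induction p using QuotientGroup.induction_on with
        | _ p =>
          induction q using QuotientGroup.induction_on with
          | _ q => exact congrArg _ (Subtype.ext (C.comm p p.2 q q.2)) }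
  let cj : ↥(RR e ρ) → (↥O →* ↥O) := fun r =>
    MonoidHom.mk' (fun a => ⟨(r : G) * a * (r : G)⁻¹, C.conj _ (hRN r r.2) a a.2⟩) fun a c =>
      Subtype.ext (by
        show (r : G) * (a * c : G) * (r : G)⁻¹ = r * a * (r : G)⁻¹ * (r * c * (r : G)⁻¹); group)
  have hcjW : ∀ r, W0 ≤ W0.comap (cj r) := fun r x hx =>
    (mem_normalizer_iff.1 (hRN r r.2) x).1 hx
  let fq : ↥(RR e ρ) → (↥O ⧸ W0 →* ↥O ⧸ W0) := fun r => QuotientGroup.map W0 W0 (cj r) (hcjW r)
  have hfq : ∀ r (a : ↥O), fq r (QuotientGroup.mk a) = QuotientGroup.mk (cj r a) := fun r a => rfl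
  let f : ↥A9 →* AddMonoid.End (Additive (↥O ⧸ W0)) :=
    { toFun := fun c => MonoidHom.toAdditive (fq (θ.symm c))
      map_one' := by
        refine AddMonoidHom.ext fun v => ?_
        obtain ⟨a, ha⟩ := QuotientGroup.mk_surjective v.toMul
        show Additive.ofMul (fq (θ.symm 1) v.toMul) = v
        rw [map_one, ← ha, hfq, show cj 1 a = a from Subtype.ext (by
          show (1 : G) * a * (1 : G)⁻¹ = a; group), ha]
        rfl
      map_mul' := fun c d => by
        refine AddMonoidHom.ext fun v => ?_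
        obtain ⟨a, ha⟩ := QuotientGroup.mk_surjective v.toMul
        show Additive.ofMul (fq (θ.symm (c * d)) v.toMul) =
          Additive.ofMul (fq (θ.symm c) (fq (θ.symm d) v.toMul))
        rw [← ha, hfq, hfq, hfq, map_mul]
        refine congrArg Additive.ofMul (congrArg _ (Subtype.ext ?_))
        show ((θ.symm c : G) * θ.symm d) * a * ((θ.symm c : G) * θ.symm d)⁻¹ =
          θ.symm c * ((θ.symm d : G) * a * (θ.symm d : G)⁻¹) * (θ.symm c : G)⁻¹
        group }
  have hord : ∀ a : ↥O, ∀ n : ℕ, n.Coprime 3 → (∀ x ∈ O, x ^ n = 1 → x = 1) →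
      a ^ n ∈ W0 → a ∈ W0 := by
    intro a n hn hfree h
    obtain ⟨i, hi⟩ := mem_zpowers_iff.1 (mem_subgroupOf.1 h)
    have h3 : ((a : G) ^ 3) ^ n = 1 := by
      rw [← pow_mul, mul_comm, pow_mul, ← SubmonoidClass.coe_pow, ← hi, ← zpow_natCast, ← zpow_mul,
        mul_comm, zpow_mul, zpow_natCast, pow_succ, pow_two, T.rho3, one_zpow]
    have ha3 := hfree _ (pow_mem a.2 3) h3
    obtain ⟨m, -, hm⟩ := Nat.exists_mul_mod_eq_one_of_coprime hn (by norm_num : 1 < 3)
    have ha : (a : G) = ((a : G) ^ n) ^ m := by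
      rw [← pow_mul, ← Nat.mod_add_div (n * m) 3, hm, pow_add, pow_one, pow_mul, ha3, one_pow, mul_one]
    refine mem_subgroupOf.2 ?_
    rw [ha]
    exact pow_mem (mem_subgroupOf.1 h) m
  have hz0 : ∀ (n : ℕ), n.Coprime 3 → (∀ x ∈ O, x ^ n = 1 → x = 1) →
      ∀ v : Additive (↥O ⧸ W0), (n : ℤ) • v = 0 → v = 0 := by
    intro n hn hfree v hv
    obtain ⟨a, ha⟩ := QuotientGroup.mk_surjective v.toMul
    rw [natCast_zsmul] at hv
    have hv' : v.toMul ^ n = 1 := hv
    rw [← ha, ← QuotientGroup.mk_pow, QuotientGroup.eq_one_iff] at hv'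
    show v.toMul = 1
    rw [← ha, QuotientGroup.eq_one_iff]
    exact hord a n hn hfree hv'
  have hsum : ∀ c : A9, c ^ 5 = 1 → c ≠ 1 → ∀ v, ∑ i ∈ Finset.range 5, f (c ^ i) v = 0 := by
    intro c hc5 hc1 v
    set S := ∑ i ∈ Finset.range 5, f (c ^ i) v with hS
    have hfix : f c S = S := by
      have hshift : ∀ i, f c (f (c ^ i) v) = f (c ^ (i + 1)) v := fun i => by
        rw [pow_succ', map_mul]; rfl
      rw [hS, map_sum, Finset.sum_congr rfl fun i _ => hshift i]
      conv_rhs => rw [Finset.sum_range_succ']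
      rw [Finset.sum_range_succ, show 4 + 1 = 5 from rfl, hc5, pow_zero]
    obtain ⟨a, ha⟩ := QuotientGroup.mk_surjective S.toMul
    set r := θ.symm c
    have h1 : fq r (QuotientGroup.mk a) = QuotientGroup.mk a := by rw [ha]; exact hfix
    rw [hfq, QuotientGroup.eq, mem_subgroupOf] at h1
    obtain ⟨i, hi⟩ := mem_zpowers_iff.1 h1
    have hr5 : (r : G) ^ 5 = 1 := by
      rw [← SubmonoidClass.coe_pow, ← map_pow, hc5, map_one]; rfl
    have hr1 : (r : G) ≠ 1 := fun h => hc1 (θ.symm.injective ((Subtype.ext h).trans (map_one _).symm))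
    have hrρ : Commute (r : G) ρ := (mem_RR.1 r.2).2
    set P := ρ ^ i with hP
    have hstep : (r : G) * a * (r : G)⁻¹ = a * P⁻¹ := by
      have : P = ((r : G) * a * (r : G)⁻¹)⁻¹ * a := hi
      rw [this]; group
    have hPr : (r : G) * P⁻¹ * (r : G)⁻¹ = P⁻¹ :=
      mul_inv_eq_iff_eq_mul.2 (hrρ.zpow_right i).inv_right.eq
    have hiter : ∀ n : ℕ, (r : G) ^ n * a * ((r : G) ^ n)⁻¹ = a * P⁻¹ ^ n := by
      intro n
      induction n with
      | zero => simp
      | succ n ih =>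
        calc (r : G) ^ (n + 1) * a * ((r : G) ^ (n + 1))⁻¹
            = (r : G) * ((r : G) ^ n * a * ((r : G) ^ n)⁻¹) * (r : G)⁻¹ := by rw [pow_succ']; group
          _ = (r : G) * a * (r : G)⁻¹ * ((r : G) * P⁻¹ * (r : G)⁻¹) ^ n := by rw [ih, conj_pow]; group
          _ = _ := by rw [hPr, hstep, mul_assoc, ← pow_succ']
    have h5 := hiter 5
    rw [hr5, one_mul, inv_one, mul_one, left_eq_mul] at h5
    have hP3 : P⁻¹ ^ 3 = 1 := by
      rw [inv_pow, hP, ← zpow_natCast, ← zpow_mul, mul_comm, zpow_mul, zpow_natCast, pow_succ,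
        pow_two, T.rho3, one_zpow, inv_one]
    have hP1 : P⁻¹ = 1 := by simpa using pow_gcd_eq_one.2 ⟨h5, hP3⟩
    have haW := hfix5 r r.2 hr5 hr1 a a.2 (by rw [hstep, hP1, mul_one])
    show S.toMul = 1
    rw [← ha, QuotientGroup.eq_one_iff]
    exact haW
  have hall := Fpf.eq_zero f hsum
    (hz0 2 (by norm_num) fun x hx h => by
      obtain ⟨k, hk⟩ := C.odd
      have : x ^ (2 * k + 1) = 1 := hk ▸ congrArg Subtype.val (pow_card_eq_one' (x := (⟨x, hx⟩ : ↥O)))
      rwa [pow_succ, pow_mul, h, one_pow, one_mul] at this)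
    (hz0 5 (by norm_num) fun x hx h => h5free x hx h)
    (Additive.ofMul (QuotientGroup.mk ⟨o, ho⟩))
  exact mem_subgroupOf.1 ((QuotientGroup.eq_one_iff _).1 hall)

/-- The normaliser of `⟨ρ⟩`. -/
theorem exists_W (T : Tri z Q e ρ) (hq : HasOmega z Q) : ∃ W : Subgroup G, Nat.card ↥W = 3 ∧
    Nonempty (↥(normalizer (W : Set G)) ≃* Equiv.Perm (Fin 3) × A9) := by
  classical
  obtain ⟨pt, θ, N⟩ := exists_nine T hq
  obtain ⟨O, C⟩ := exists_core N
  have hO := C.eq_zpowers N hq
  refine ⟨zpowers ρ, by rw [Nat.card_zpowers, orderOf_rho T], ?_⟩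
  have hqq := T.setup.xe_facts.2.2.2.2.2.1
  have hρ3 : ρ ^ 3 = 1 := orderOf_rho T ▸ pow_orderOf_eq_one ρ
  let d := dihHom ρ (qe e) hρ3 hqq T.qrq
  have hcomm : ∀ (g : DihedralGroup 3) (r : ↥(RR e ρ)), Commute (d g) (r : G) := by
    intro g r
    have h1 : Commute (qe e) (r : G) := (mem_RR.1 r.2).1.symm
    have h2 : Commute ρ (r : G) := (mem_RR.1 r.2).2.symm
    rcases g with i | i
    · exact h2.pow_left _
    · exact h1.mul_left (h2.pow_left _)
  let ψ : Equiv.Perm (Fin 3) × A9 →* G :=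
    MonoidHom.noncommCoprod (d.comp dihPerm.symm.toMonoidHom)
      ((RR e ρ).subtype.comp θ.symm.toMonoidHom) fun m n => hcomm _ _
  have hψ : ∀ m n, ψ (m, n) = d (dihPerm.symm m) * (θ.symm n : G) := fun m n => rfl
  have hdN : ∀ g, d g ∈ normalizer ((zpowers ρ : Subgroup G) : Set G) := by
    intro g
    have hρN : ρ ∈ normalizer ((zpowers ρ : Subgroup G) : Set G) := le_normalizer (mem_zpowers ρ)
    rcases g with i | i
    · exact pow_mem hρN _
    · exact mul_mem (qe_mem_norm T) (pow_mem hρN _)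
  have hRN : ∀ r ∈ RR e ρ, r ∈ normalizer ((zpowers ρ : Subgroup G) : Set G) := fun r hr =>
    mem_normalizer_iff.2 fun x => by
      have hr' : Commute r ρ := (mem_RR.1 hr).2
      constructor
      · intro hx
        obtain ⟨i, rfl⟩ := mem_zpowers_iff.1 hx
        rw [(hr'.zpow_right i).eq, mul_inv_cancel_right]; exact zpow_mem (mem_zpowers _) i
      · intro hx
        obtain ⟨i, hi⟩ := mem_zpowers_iff.1 hx
        refine mem_zpowers_iff.2 ⟨i, ?_⟩
        calc ρ ^ i = r⁻¹ * (r * ρ ^ i) := by group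
          _ = r⁻¹ * (ρ ^ i * r) := by rw [(hr'.zpow_right i).eq]
          _ = x := by rw [hi]; group
  have hrange : ψ.range = normalizer ((zpowers ρ : Subgroup G) : Set G) := by
    refine le_antisymm ?_ fun g hg => ?_
    · rintro _ ⟨⟨m, n⟩, rfl⟩
      rw [hψ]
      exact mul_mem (hdN _) (hRN _ (θ.symm n).2)
    · obtain ⟨a, ha, hag⟩ := C.fac g hg
      rw [hO] at ha
      have hrec : ∀ (δ : DihedralGroup 3) (r : G), r ∈ RR e ρ → d δ * r ∈ ψ.range := by
        intro δ r hr
        exact ⟨(dihPerm δ, θ ⟨r, hr⟩), by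
          rw [hψ, MulEquiv.symm_apply_apply, MulEquiv.symm_apply_apply]⟩
      have haR : a ∈ ψ.range := by
        obtain ⟨i, rfl⟩ := mem_zpowers_iff.1 ha
        refine zpow_mem ?_ i
        have := hrec (.r 1) 1 (one_mem _)
        rwa [mul_one, show d (.r 1) = ρ from pow_one ρ] at this
      have hagR : a * g ∈ ψ.range := by
        rcases cent_qe_cases T (mul_mem (zpowers_le.2 (le_normalizer (mem_zpowers ρ)) ha) hg) hag with
          h | h
        · have := hrec 1 (a * g) h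
          rwa [map_one, one_mul] at this
        · have := hrec (.sr 0) _ h
          rwa [show d (.sr 0) = qe e by
            show qe e * ρ ^ (0 : ZMod 3).val = qe e
            rw [ZMod.val_zero, pow_zero, mul_one], hag, ← mul_assoc, hqq, one_mul] at this
      have := mul_mem (inv_mem haR) hagR
      rwa [inv_mul_cancel_left] at this
  have hinj : Function.Injective ψ := by
    rw [injective_iff_map_eq_one]
    rintro ⟨m, n⟩ h
    rw [hψ] at h
    set δ := dihPerm.symm m with hδ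
    set r := θ.symm n with hr
    have hdR : d δ ∈ RR e ρ := by rw [eq_inv_of_mul_eq_one_left h]; exact inv_mem r.2
    have hδ1 : δ = 1 := by
      obtain ⟨h1, h2⟩ := mem_RR.1 hdR
      rcases δ with i | i
      · have h3 : ρ ^ i.val * qe e = qe e * ρ ^ i.val := h1
        have hc : Commute (qe e) (ρ ^ i.val) := h3.symm
        have h4 : (ρ ^ i.val)⁻¹ = ρ ^ i.val := by
          calc (ρ ^ i.val)⁻¹ = (qe e * ρ * (qe e)⁻¹) ^ i.val := by
                rw [inv_eq_of_mul_eq_one_right hqq, T.qrq, inv_pow]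
            _ = ρ ^ i.val := by rw [conj_pow, hc.eq, mul_inv_cancel_right]
        have h5 : (ρ ^ i.val) ^ 2 = 1 := by
          rw [pow_two]; nth_rw 1 [← h4]; rw [inv_mul_cancel]
        have h6 : (ρ ^ i.val) ^ 3 = 1 := by rw [← pow_mul, mul_comm, pow_mul, hρ3, one_pow]
        have h7 : ρ ^ i.val = 1 := by simpa using pow_gcd_eq_one.2 ⟨h5, h6⟩
        have h8 := orderOf_dvd_of_pow_eq_one h7
        rw [orderOf_rho T] at h8
        have hlt := i.val_lt
        have : i.val = 0 := Nat.eq_zero_of_dvd_of_lt h8 hlt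
        rw [(ZMod.val_eq_zero i).1 this]
        exact DihedralGroup.r_zero
      · exfalso
        have h3 : Commute (qe e * ρ ^ i.val) ρ := h2
        have h4 : Commute (qe e) ρ := by
          have := h3.mul_left ((Commute.refl ρ).pow_left i.val).inv_left
          rwa [mul_inv_cancel_right] at this
        exact qe_not_comm_rho T h4.eq
    rw [hδ1, map_one, one_mul] at h
    have h9 : r = 1 := Subtype.ext h
    refine Prod.ext (dihPerm.symm.injective (hδ1.trans (map_one _).symm)) ?_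
    exact θ.symm.injective (h9.trans (map_one _).symm)
  exact ⟨((MonoidHom.ofInjective hinj).trans (MulEquiv.subgroupCongr hrange)).symm⟩

end CfsgLib.StructB.CoA9
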