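import Cfsg.Agent.Lib.StructB.CoA9.Cert
import Cfsg.Agent.Lib.StructB.CoA9.Coord
import Cfsg.Agent.Lib.StructB.CoA9.Extra

/-!
The orbit of `z` under the centraliser of `q` and `ρ`: the base point outside `C(z)`.
-/

set_option autoImplicit false
set_option maxRecDepth 20000
set_option synthInstance.maxSize 2000

namespace CfsgLib.StructB.CoA9

open Subgroup CfsgLib.Trans3.ExtraTwo CfsgLib.ClassK.Conway Equiv
open CfsgLib.PLocal.LargeExtra

local notation "A8" => alternatingGroup (Fin 8)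

universe u

variable {G : Type u} [Group G] {z : G} {Q : Subgroup G} {e : ↥Q ≃* ES 4 (ff 4)} {ρ : G}

/-- The centraliser of `q` and `ρ`. -/
def RR (e : ↥Q ≃* ES 4 (ff 4)) (ρ : G) : Subgroup G := centralizer ({qe e, ρ} : Set G)

theorem mem_RR {g : G} : g ∈ RR e ρ ↔ g * qe e = qe e * g ∧ g * ρ = ρ * g := by
  rw [RR, mem_centralizer_iff]
  constructor
  · intro h
    exact ⟨(h _ (Or.inl rfl)).symm, (h _ (Or.inr rfl)).symm⟩
  · rintro ⟨h1, h2⟩ a (rfl | rfl)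
    exacts [h1.symm, h2.symm]

/-- Anticommuting with `z` up to `q`. -/
def Anti (z : G) (e : ↥Q ≃* ES 4 (ff 4)) (v : G) : Prop := v * z = qe e * (z * v)

/-- Two elements differ by the vector `a`. -/
def Sh (z : G) (e : ↥Q ≃* ES 4 (ff 4)) (ρ c u v : G) (a : Sp 3) : Prop :=
  ∃ i j, v = u * kk z e ρ c i j a

variable [Finite G] (T : Tri z Q e ρ)
include T

theorem lam_mem_RR (σ : A8) : lam T σ ∈ RR e ρ :=
  mem_RR.2 ⟨(lam_comm T σ).2.2.2, (lam_comm T σ).2.2.1⟩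

theorem cent_z_RR {r : G} (hr : r ∈ RR e ρ) (hz : r * z = z * r) : ∃ σ, lam T σ = r :=
  lam_surjective T hz (comm_xe T hz (mem_RR.1 hr).2) (mem_RR.1 hr).2

theorem qe_ne_z : qe e ≠ z := fun h =>
  absurd (Setup.el_inj (e := e) (h.trans T.setup.el_one.symm)).1 (by decide)

theorem conj_ne_zt {r : G} (hr : r ∈ RR e ρ) : r * z * r⁻¹ ≠ z * qe e := fun h => by
  obtain ⟨-, hrr⟩ := mem_RR.1 hr
  have hx1 := T.setup.xe_facts
  set x := xe e with hx
  set t := qe e with ht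
  have hzt : t * z = z * t := T.setup.pack.comm_z (Setup.el_mem _ _)
  have htt : t * t = 1 := hx1.2.2.2.2.2.1
  have htx : t * x * t = x * z := hx1.2.2.2.2.2.2
  have hrho : r * ρ = ρ * r := hrr
  have htr : t * ρ * t = ρ⁻¹ := T.qrq
  -- conjugate by `ρ`
  have h1 : r * x * r⁻¹ = x * (ρ * t * ρ⁻¹) := by
    calc r * x * r⁻¹ = r * (ρ * z * ρ⁻¹) * r⁻¹ := by rw [T.rho_z]
      _ = (r * ρ) * z * (r * ρ)⁻¹ := by group
      _ = ρ * (r * z * r⁻¹) * ρ⁻¹ := by rw [hrho]; group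
      _ = ρ * z * ρ⁻¹ * (ρ * t * ρ⁻¹) := by rw [h]; group
      _ = x * (ρ * t * ρ⁻¹) := by rw [T.rho_z]
  have hxz : ρ * ρ * z * (ρ * ρ)⁻¹ = x * z := by
    rw [show ρ * ρ * z * (ρ * ρ)⁻¹ = ρ * (ρ * z * ρ⁻¹) * ρ⁻¹ by group, T.rho_z, T.rho_x]
  have h2 : r * (x * z) * r⁻¹ = x * z * (ρ * ρ * t * (ρ * ρ)⁻¹) := by
    have hrho2 : r * (ρ * ρ) = ρ * ρ * r := by
      rw [← mul_assoc, hrho, mul_assoc, hrho, mul_assoc]
    calc r * (x * z) * r⁻¹ = r * (ρ * ρ * z * (ρ * ρ)⁻¹) * r⁻¹ := by rw [hxz]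
      _ = (r * (ρ * ρ)) * z * (r * (ρ * ρ))⁻¹ := by group
      _ = ρ * ρ * (r * z * r⁻¹) * (ρ * ρ)⁻¹ := by rw [hrho2]; group
      _ = ρ * ρ * z * (ρ * ρ)⁻¹ * (ρ * ρ * t * (ρ * ρ)⁻¹) := by rw [h]; group
      _ = x * z * (ρ * ρ * t * (ρ * ρ)⁻¹) := by rw [hxz]
  have hi2 : (ρ * ρ)⁻¹ = ρ := inv_eq_of_mul_eq_one_right T.rho3
  have ht1 : ρ * t * ρ⁻¹ = t * ρ := by
    have : t * (ρ * t * ρ⁻¹) = ρ := by
      calc t * (ρ * t * ρ⁻¹) = (t * ρ * t) * ρ⁻¹ := by group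
        _ = ρ := by rw [htr, ← mul_inv_rev]; exact hi2
    calc ρ * t * ρ⁻¹ = t * (t * (ρ * t * ρ⁻¹)) := by rw [← mul_assoc t t, htt, one_mul]
      _ = t * ρ := by rw [this]
  have h3 : r * (x * z) * r⁻¹ = x * (t * ρ) * (z * t) := by
    calc r * (x * z) * r⁻¹ = (r * x * r⁻¹) * (r * z * r⁻¹) := by group
      _ = x * (t * ρ) * (z * t) := by rw [h1, h, ht1]
  have h4 : x * (z * (ρ * ρ * t * ρ)) = x * (t * ρ * (z * t)) := by
    rw [← mul_assoc x, ← mul_assoc x (t * ρ), ← h3, h2, hi2]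
  have h5 := mul_left_cancel h4
  -- both sides in the normal form
  have hr2 : ρ⁻¹ = ρ * ρ := inv_eq_of_mul_eq_one_right (by rw [← mul_assoc, T.rho3])
  have hρt : ρ * t = t * (ρ * ρ) := by
    calc ρ * t = (t * t) * ρ * t := by rw [htt, one_mul]
      _ = t * (t * ρ * t) := by group
      _ = t * (ρ * ρ) := by rw [htr, hr2]
  have e1 : z * (ρ * ρ * t * ρ) = z * t * (ρ * ρ) := by
    calc z * (ρ * ρ * t * ρ) = z * (ρ * (ρ * t) * ρ) := by group
      _ = z * (ρ * (t * (ρ * ρ)) * ρ) := by rw [hρt]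
      _ = z * (ρ * t * (ρ * ρ * ρ)) := by group
      _ = z * t * (ρ * ρ) := by rw [T.rho3, mul_one, hρt, mul_assoc]
  have e2 : t * ρ * (z * t) = x * z * (ρ * ρ) := by
    calc t * ρ * (z * t) = t * (ρ * z * ρ⁻¹) * (t * t) * ρ * t := by rw [htt]; group
      _ = (t * x * t) * (t * ρ * t) := by rw [T.rho_z, hx]; group
      _ = x * z * (ρ * ρ) := by rw [htx, htr, hr2]
  rw [e1, e2] at h5
  have h6 : z * t = z * x := by
    rw [mul_right_cancel h5, T.pair.comm]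
  have h7 : t = x := mul_left_cancel h6
  exact absurd (Setup.el_inj (e := e) h7).1 (by decide)

theorem not_both {r s : G} (hr : r ∈ RR e ρ) (hs : s ∈ RR e ρ) :
    r * z * r⁻¹ ≠ s * z * s⁻¹ * qe e := fun h => by
  refine conj_ne_zt T (mul_mem (inv_mem hs) hr) ?_
  have hst : Commute s (qe e) := (mem_RR.1 hs).1
  calc s⁻¹ * r * z * (s⁻¹ * r)⁻¹ = s⁻¹ * (r * z * r⁻¹) * s := by group
    _ = s⁻¹ * (s * z * s⁻¹) * (qe e * s) := by rw [h]; group
    _ = z * qe e := by rw [← hst.eq]; group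

variable {c : G} (hc : Swap (z := z) (e := e) c)
include hc

theorem conj_mem_QT {g a : G} (hg : g * qe e = qe e * g) (ha : a ∈ QT Q ρ c) :
    g * a * g⁻¹ ∈ QT Q ρ c :=
  (mem_normalizer_iff.1 ((pack_QT T hc).norm (mem_centralizer_singleton_iff.2 hg)) a).1 ha

theorem orbit_mem_QT {r : G} (hr : r ∈ RR e ρ) : r * z * r⁻¹ ∈ QT Q ρ c :=
  conj_mem_QT T hc (mem_RR.1 hr).1 (z_mem_QT T hc)

omit hc in
theorem orbit_sq {r : G} : r * z * r⁻¹ * (r * z * r⁻¹) = 1 := by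
  rw [show r * z * r⁻¹ * (r * z * r⁻¹) = r * (z * z) * r⁻¹ by group, T.setup.pack.z_mul_z]; group

theorem orbit_cases {r : G} (hr : r ∈ RR e ρ) :
    (r * z * r⁻¹ * z = z * (r * z * r⁻¹)) ∨ Anti z e (r * z * r⁻¹) :=
  comm_cases T hc (orbit_mem_QT T hc hr) (z_mem_QT T hc)

theorem exists_sh {u v : G} (hu : u ∈ QT Q ρ c) (hv : v ∈ QT Q ρ c) (hua : Anti z e u)
    (hva : Anti z e v) : ∃ a, Sh z e ρ c u v a := by
  have P := pack_QT T hc
  have htz : qe e * z = z * qe e := (P.comm_z (z_mem_QT T hc)).symm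
  have htu : qe e * u = u * qe e := (P.comm_z hu).symm
  have h1 : u⁻¹ * v * z = z * (u⁻¹ * v) := by
    refine mul_left_cancel (a := u) ?_
    calc u * (u⁻¹ * v * z) = v * z := by group
      _ = qe e * (z * v) := hva
      _ = qe e * (z * u) * (u⁻¹ * v) := by group
      _ = u * (z * (u⁻¹ * v)) := by rw [← hua]; group
  obtain ⟨i, j, a, h⟩ := exists_kk T hc (mul_mem (inv_mem hu) hv) h1
  exact ⟨a, i, j, by rw [← h]; group⟩

theorem Sh.unique {u v : G} {a b : Sp 3} (ha : Sh z e ρ c u v a) (hb : Sh z e ρ c u v b) :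
    a = b := by
  obtain ⟨i, j, h⟩ := ha
  obtain ⟨k, l, h'⟩ := hb
  exact (kk_inj T hc (mul_left_cancel (h.symm.trans h'))).2.2

theorem Sh.refl' (u : G) : Sh z e ρ c u u 0 :=
  ⟨0, 0, by rw [kk_zero T hc, pw_zero, pw_zero, one_mul, mul_one]⟩

theorem Sh.trans' {u v x : G} {a b : Sp 3} (ha : Sh z e ρ c u v a) (hb : Sh z e ρ c v x b) :
    Sh z e ρ c u x (a + b) := by
  obtain ⟨i, j, rfl⟩ := ha
  obtain ⟨k, l, rfl⟩ := hb
  obtain ⟨i', j', h⟩ := kk_mul T hc i j k l a b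
  exact ⟨i', j', by rw [mul_assoc, h]⟩

theorem Sh.symm' {u v : G} {a : Sp 3} (ha : Sh z e ρ c u v a) : Sh z e ρ c v u a := by
  obtain ⟨i, j, rfl⟩ := ha
  obtain ⟨i', j', h⟩ := kk_mul T hc i j i j a a
  rw [sp_add_self, kk_zero T hc] at h
  obtain ⟨k, l, h'⟩ := kk_mul T hc i j i' j' a 0
  rw [add_zero, kk_zero T hc] at h'
  refine ⟨k, l, ?_⟩
  have hzz := T.setup.pack.z_mul_z
  have htt := T.setup.xe_facts.2.2.2.2.2.1
  have htz : Commute (pw z i') (pw (qe e) j') := by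
    rcases z2_cases i' with r | r <;> rcases z2_cases j' with s | s <;> rw [r, s] <;>
      simp only [pw_zero, pw_one]
    · exact Commute.refl _
    · exact Commute.one_left _
    · exact Commute.one_right _
    · exact (T.setup.pack.comm_z (Setup.el_mem _ _) : qe e * z = z * qe e).symm
  have hsq : ∀ (g : G) (k : ZMod 2), g * g = 1 → pw g k * pw g k = 1 := fun g k hg => by
    rw [← pw_add hg, z2_add_self, pw_zero]
  rw [← h', mul_assoc, ← mul_assoc (kk z e ρ c i j a), h,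
    show pw z i' * pw (qe e) j' * (pw z i' * pw (qe e) j') = 1 by
      rw [htz.symm.mul_mul_mul_comm, hsq _ _ hzz, hsq _ _ htt, one_mul], mul_one]

theorem Sh.conj {u v : G} {a : Sp 3} (ha : Sh z e ρ c u v a) (σ : A8) :
    Sh z e ρ c (lam T σ * u * (lam T σ)⁻¹) (lam T σ * v * (lam T σ)⁻¹) (psi σ.1 a) := by
  obtain ⟨i, j, rfl⟩ := ha
  obtain ⟨i', j', h⟩ := kk_lam T hc σ i j a
  exact ⟨i', j', by rw [← h]; group⟩

omit hc in
theorem Anti.conjLam {v : G} (hv : Anti z e v) (σ : A8) :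
    Anti z e (lam T σ * v * (lam T σ)⁻¹) := by
  obtain ⟨hz, -, -, hq⟩ := lam_comm T σ
  set l := lam T σ
  have hzl : l * z * l⁻¹ = z := mul_inv_eq_iff_eq_mul.2 hz
  have hql : l * qe e * l⁻¹ = qe e := mul_inv_eq_iff_eq_mul.2 hq
  show l * v * l⁻¹ * z = qe e * (z * (l * v * l⁻¹))
  calc l * v * l⁻¹ * z = l * v * l⁻¹ * (l * z * l⁻¹) := by rw [hzl]
    _ = l * (v * z) * l⁻¹ := by group
    _ = (l * qe e * l⁻¹) * ((l * z * l⁻¹) * (l * v * l⁻¹)) := by rw [hv]; group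
    _ = qe e * (z * (l * v * l⁻¹)) := by rw [hzl, hql]

/-- An involution of the orbit is determined by its vector. -/
theorem eq_of_sh_zero {r s : G} (hr : r ∈ RR e ρ) (hs : s ∈ RR e ρ)
    (hsa : Anti z e (s * z * s⁻¹)) (h : Sh z e ρ c (s * z * s⁻¹) (r * z * r⁻¹) 0) :
    r * z * r⁻¹ = s * z * s⁻¹ := by
  obtain ⟨i, j, h⟩ := h
  rw [kk_zero T hc] at h
  have P := pack_QT T hc
  rcases z2_cases i with rfl | rfl
  · rcases z2_cases j with rfl | rfl
    · rwa [pw_zero, pw_zero, one_mul, mul_one] at h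
    · rw [pw_zero, pw_one, one_mul] at h
      exact absurd h (not_both T hr hs)
  · exfalso
    set u := s * z * s⁻¹ with hu
    have hu2 : u * u = 1 := orbit_sq T
    have hv2 : r * z * r⁻¹ * (r * z * r⁻¹) = 1 := orbit_sq T
    rw [h, pw_one] at hv2
    have hzz := T.setup.pack.z_mul_z
    have hcz : Commute (u * z) (pw (qe e) j) := by
      rcases z2_cases j with rfl | rfl
      · rw [pw_zero]; exact Commute.one_right _
      · rw [pw_one]
        exact P.comm_z (mul_mem (orbit_mem_QT T hc hs) (z_mem_QT T hc))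
    have hpp : pw (qe e) j * pw (qe e) j = 1 := by
      rw [← pw_add T.setup.xe_facts.2.2.2.2.2.1, z2_add_self, pw_zero]
    rw [← mul_assoc u z, hcz.symm.mul_mul_mul_comm, hpp, mul_one,
      show u * z * (u * z) = (u * z) * u * z by group, hsa, mul_assoc (qe e), mul_assoc z, hu2,
      mul_one, mul_assoc, hzz, mul_one] at hv2
    exact absurd (Setup.el_inj (e := e) (hv2.trans Setup.el_zero.symm)).1 (by decide)

end CfsgLib.StructB.CoA9
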