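import Cfsg.Agent.Lib.StructB.CoA9.PNineFac
import Cfsg.Agent.Lib.U43.DatEnd
import Cfsg.Agent.S5513
import Mathlib.FieldTheory.Finite.GaloisField

/-!
The centraliser of two disjoint three-cycles of the complement is an extension of `PSU₄(3)` by the group they
generate, so only that group and the element of order seven itself centralise such an element and both cycles.
-/

set_option autoImplicit false
set_option maxRecDepth 20000
set_option synthInstance.maxSize 2000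
set_option Elab.async false

namespace CfsgLib.StructB.CoA9.PNine

open Subgroup CfsgLib.Trans3.ExtraTwo CfsgLib.ClassK.Conway Equiv

local notation "A8" => alternatingGroup (Fin 8)

universe u

variable {G : Type u} [Group G] [Finite G] {z : G} {Q : Subgroup G} {e : ↥Q ≃* ES 4 (ff 4)} {ρ : G}
variable (T : Tri z Q e ρ)
include T

theorem exists_dat : ∃ A : U43.Dat (zq T), ∀ x, A.InQ x ↔ x ∈ Qs T := by
  obtain ⟨g1, g2, -, -⟩ := exists_gens T
  obtain ⟨r, ⟨A⟩⟩ := exists_fac T pr_one g1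
  obtain ⟨r', ⟨B⟩⟩ := exists_fac T pr_two g2
  exact ⟨{
    i1 := (piM T).comp A.j
    i2 := (piM T).comp B.j
    inj1 := (inj_aux T A B).1
    inj2 := (inj_aux T A B).2
    neg1 := congrArg (piM T) (Subtype.ext (A.neg T))
    neg2 := congrArg (piM T) (Subtype.ext (B.neg T))
    comm := fun x y => by
      simp only [MonoidHom.comp_apply]
      rw [← map_mul, ← map_mul]
      exact congrArg (piM T) (Subtype.ext (HS_commute T A.lift B.lift (A.mem x) (B.mem y)).eq)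
    sep := sep_aux T A B
    card := card_cent_zq T
    normK := normK_aux T A B
    commK := commK_aux T A B
    centQ := centQ_aux T A B }, inQ_iff T A B⟩

theorem mem_four {a : ↥(HH T)} (ha : (a : G) ^ 4 = 1) (h : piH T a ∈ Qs T) : (a : G) ∈ Q := by
  obtain ⟨m, hm, hma⟩ := h
  have := piH_sep T (a := ⟨m, m.2.1⟩) (pow_four_Q T (mem_subgroupOf.1 hm)) ha hma
  exact this ▸ mem_subgroupOf.1 hm

theorem exists_fusion : ∃ g, g * zq T * g⁻¹ ∈ Qs T ∧ g * zq T * g⁻¹ ≠ zq T := by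
  have S := T.setup
  obtain ⟨hxQ, hxx, hx1, hxz, -⟩ := S.xe_facts
  obtain ⟨⟨we, hwe⟩, -⟩ := e0_f0_fixed
  have hρ : ρ ∈ HH T := (mem_HH T).2 ⟨(lam_comm T ca).2.2.1.symm, (lam_comm T cb).2.2.1.symm⟩
  have hxM : xe e ∈ MM T := by rw [xe, hwe]; exact el_iF_mem T we 0
  have e' : piH T ⟨ρ, hρ⟩ * zq T * (piH T ⟨ρ, hρ⟩)⁻¹ = piM T ⟨xe e, hxM⟩ := by
    rw [zq, piM_apply, piM_apply, ← map_inv, ← map_mul, ← map_mul]
    exact congrArg (piH T) (Subtype.ext T.rho_z)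
  refine ⟨piH T ⟨ρ, hρ⟩, e' ▸ ⟨_, mem_subgroupOf.2 hxQ, rfl⟩, fun h => hxz ?_⟩
  exact piH_sep T (a := ⟨xe e, hxM.1⟩) (b := ⟨z, (z_mem_MM T).1⟩) (pow_four_Q T hxQ) (z_pow_four T)
    (e'.symm.trans h)

theorem meet_four (g : QT9 T) (hg : g * zq T * g⁻¹ ∈ Qs T) (hne : g * zq T * g⁻¹ ≠ zq T)
    (x : QT9 T) (hx : x ∈ Qs T) (hxg : g⁻¹ * x * g ∈ Qs T) :
    U43.InR (zq T) (g * zq T * g⁻¹) x := by
  obtain ⟨n, rfl⟩ : ∃ n, piH T n = g := QuotientGroup.mk'_surjective _ g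
  obtain ⟨q, hq, rfl⟩ := hx
  set zH : ↥(HH T) := ⟨z, (z_mem_MM T).1⟩
  set qH : ↥(HH T) := ⟨q, q.2.1⟩
  have e1 : piH T n * zq T * (piH T n)⁻¹ = piH T (n * zH * n⁻¹) := by rw [map_mul, map_mul, map_inv]; rfl
  have e2 : (piH T n)⁻¹ * piM T q * piH T n = piH T (n⁻¹ * qH * n) := by
    rw [map_mul, map_mul, map_inv]; rfl
  have ht : (n : G) * z * (n : G)⁻¹ ∈ Q := mem_four T (a := n * zH * n⁻¹) (by
    show ((n : G) * z * (n : G)⁻¹) ^ 4 = 1
    rw [conj_pow, z_pow_four T]; group) (e1 ▸ hg)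
  have htn : (n : G) * z * (n : G)⁻¹ ≠ z := fun h =>
    hne (e1.trans (congrArg (piH T) (Subtype.ext h : n * zH * n⁻¹ = zH)))
  have hqn : (n : G)⁻¹ * (q : G) * (n : G) ∈ Q := mem_four T (a := n⁻¹ * qH * n) (by
    show ((n : G)⁻¹ * (q : G) * (n : G)) ^ 4 = 1
    have := conj_pow (i := 4) (a := (n : G)⁻¹) (b := (q : G))
    rw [inv_inv] at this
    rw [this, pow_four_Q T (mem_subgroupOf.1 hq)]; group) (e2 ▸ hxg)
  rw [e1]
  rcases inter_four T ht htn (mem_subgroupOf.1 hq) hqn with h | h | h | h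
  · exact Or.inl (by rw [show q = 1 from Subtype.ext h, map_one])
  · exact Or.inr (Or.inl (congrArg (piM T) (Subtype.ext h)))
  · exact Or.inr (Or.inr (Or.inl (congrArg (piH T) (Subtype.ext h : qH = n * zH * n⁻¹))))
  · refine Or.inr (Or.inr (Or.inr ?_))
    show piH T qH = piH T zH * piH T (n * zH * n⁻¹)
    rw [← map_mul]
    exact congrArg (piH T) (Subtype.ext h)

/-- The centraliser modulo the two cycles is `PSU₄(3)`. -/
theorem exists_psu (K : Type) [Field K] [Fintype K] (hK : Fintype.card K = 9) :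
    ∃ φ : ↥(HH T) →* Cfsg.PSU 4 K 3, ∀ x, φ x = 1 ↔ (x : G) ∈ PP T := by
  obtain ⟨A, hA⟩ := exists_dat T
  obtain ⟨ψ⟩ := U43.nonempty_equiv_psu_of_dat (orderOf_zq T) A (Qs T) hA (fun h hh x hx => by
      obtain ⟨m, rfl⟩ := exists_lift_zq T h hh
      obtain ⟨q, hq, rfl⟩ := hx
      exact ⟨m * q * m⁻¹, mem_subgroupOf.2 (T.setup.conj_mem m.2.2 (mem_subgroupOf.1 hq)),
        by rw [map_mul, map_mul, map_inv]⟩)
    (exists_fusion T) (meet_four T) K hK
  refine ⟨ψ.toMonoidHom.comp (piH T), fun x => ?_⟩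
  show ψ (piH T x) = 1 ↔ _
  rw [map_eq_one_iff _ ψ.injective]
  exact (QuotientGroup.eq_one_iff _).trans mem_subgroupOf

/-- Only the obvious elements centralise both cycles and an element of order seven commuting with them. -/
theorem cent_P9_seven {v g : G} (hv7 : v ^ 7 = 1) (hv1 : v ≠ 1)
    (hva : v * pa T = pa T * v) (hvb : v * pb T = pb T * v)
    (hga : g * pa T = pa T * g) (hgb : g * pb T = pb T * g) (hgv : g * v = v * g) :
    ∃ i j k : ℕ, g = v ^ i * pa T ^ j * pb T ^ k := by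
  classical
  letI : Fintype (GaloisField 3 2) := Fintype.ofFinite _
  have hK : Fintype.card (GaloisField 3 2) = 9 := by
    rw [← Nat.card_eq_fintype_card, GaloisField.card 3 2 two_ne_zero]; rfl
  obtain ⟨φ, hφ⟩ := exists_psu T (GaloisField 3 2) hK
  set vH : ↥(HH T) := ⟨v, (mem_HH T).2 ⟨hva, hvb⟩⟩ with hvH
  set gH : ↥(HH T) := ⟨g, (mem_HH T).2 ⟨hga, hgb⟩⟩ with hgH
  haveI : Fact (Nat.Prime 7) := ⟨by norm_num⟩
  have hv7' : φ vH ^ 7 = 1 := by
    rw [← map_pow, show vH ^ 7 = 1 from Subtype.ext hv7, map_one]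
  have hv1' : φ vH ≠ 1 := fun h => hv1 (by
    have h3 : v ^ 3 = 1 := PP_pow T ((hφ vH).1 h)
    have : v ^ 7 = (v ^ 3) ^ 2 * v := by rw [← pow_mul, ← pow_succ]
    rwa [hv7, h3, one_pow, one_mul, eq_comm] at this)
  have hX : Nat.card ↥(zpowers (φ vH)) = 7 := by
    rw [Nat.card_zpowers]; exact orderOf_eq_prime hv7' hv1'
  have hgC : φ gH ∈ centralizer ((zpowers (φ vH) : Subgroup _) : Set (Cfsg.PSU 4 (GaloisField 3 2) 3)) := by
    refine mem_centralizer_iff.2 fun y hy => ?_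
    obtain ⟨k, rfl⟩ := mem_zpowers_iff.1 hy
    have : Commute (φ vH) (φ gH) := by
      show φ vH * φ gH = φ gH * φ vH
      rw [← map_mul, ← map_mul]
      exact congrArg φ (Subtype.ext hgv.symm)
    exact (this.zpow_left k).eq
  rw [(Cfsg.Agent.S5513.result _ hK _ hX).2] at hgC
  obtain ⟨i, hi⟩ := Submonoid.mem_powers_iff _ _ |>.1 (mem_powers_iff_mem_zpowers.2 hgC)
  obtain ⟨σ, ⟨j, k, rfl⟩, hp⟩ : (v ^ i)⁻¹ * g ∈ PP T := (hφ ((vH ^ i)⁻¹ * gH)).1 (by
    rw [map_mul, map_inv, map_pow, hi, inv_mul_cancel])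
  refine ⟨i, j, k, ?_⟩
  rw [map_mul, map_pow, map_pow, eq_inv_mul_iff_mul_eq, ← mul_assoc] at hp
  exact hp.symm

end CfsgLib.StructB.CoA9.PNine
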