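import Cfsg.Agent.Lib.StructB.CoA9.PNineFin
import Cfsg.Agent.Lib.StructB.CoA9.Levi
import Cfsg.Agent.Lib.ClassK.ConwayReduce

/-!
The common centraliser of `z` and two disjoint three-cycles: the induced isometries and their lifts.
-/

set_option autoImplicit false
set_option maxRecDepth 20000
set_option synthInstance.maxSize 2000
set_option Elab.async false

namespace CfsgLib.StructB.CoA9.PNine

open Subgroup CfsgLib.Trans3.ExtraTwo CfsgLib.ClassK.Conway Equiv

local notation "A8" => alternatingGroup (Fin 8)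

/-! ### Maps on the vectors -/

theorem vec_eq (v : Sp 4) : v = (v 0).1 • e0 + (v 0).2 • f0 + up (fun i => v i.succ) := by
  funext i
  refine Fin.cases ?_ (fun j => ?_) i
  · ext <;> simp [e0, f0, up]
  · fin_cases j <;> ext <;> simp [e0, f0, up] <;> rfl

theorem extP_apply_zero (σ : Perm (Fin 8)) (v : Sp 4) : extP σ v 0 = v 0 := by
  ext <;> simp [extP, e0, f0, up]

theorem extP_apply_succ (σ : Perm (Fin 8)) (v : Sp 4) :
    (fun i : Fin 3 => extP σ v i.succ) = psi σ (fun i => v i.succ) := by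
  funext i
  fin_cases i <;> ext <;> simp [extP, e0, f0, up] <;> rfl

theorem extP_mul (σ τ : Perm (Fin 8)) (v : Sp 4) : extP (σ * τ) v = extP σ (extP τ v) := by
  conv_rhs => rw [extP, extP_apply_zero, extP_apply_succ]
  rw [extP, psi_mul]

theorem extP_one (v : Sp 4) : extP 1 v = v := by
  rw [extP, psi_one, ← vec_eq]

theorem extP_up (σ : Perm (Fin 8)) (v : Sp 3) : extP σ (up v) = up (psi σ v) := by
  rw [extP, show (up v) 0 = 0 from rfl, Prod.fst_zero, Prod.snd_zero, zero_smul, zero_smul,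
    add_zero, zero_add]
  rfl

theorem extP_plane (σ : Perm (Fin 8)) : extP σ e0 = e0 ∧ extP σ f0 = f0 := by
  have h1 : (fun i : Fin 3 => e0 i.succ) = 0 := by decide
  have h2 : (fun i : Fin 3 => f0 i.succ) = 0 := by decide
  constructor
  · rw [extP, h1, (psi_isom σ).map_zero, up_zero, add_zero]; simp [e0, f0]
  · rw [extP, h2, (psi_isom σ).map_zero, up_zero, add_zero]; simp [e0, f0]

/-- The permutation of the vectors given by a permutation of the points. -/
noncomputable def EX : A8 →* Perm (Sp 4) :=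
  MonoidHom.mk'
    (fun σ =>
      { toFun := extP σ.1
        invFun := extP σ.1⁻¹
        left_inv := fun v => by rw [← extP_mul, inv_mul_cancel, extP_one]
        right_inv := fun v => by rw [← extP_mul, mul_inv_cancel, extP_one] })
    fun σ τ => Equiv.ext fun v => extP_mul σ.1 τ.1 v

theorem EX_apply (σ : A8) (v : Sp 4) : EX σ v = extP σ.1 v := rfl

theorem EX_injective : Function.Injective EX := fun σ τ h =>
  Subtype.ext (psi_injective fun v => up_inj (by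
    rw [← extP_up, ← extP_up, ← EX_apply, ← EX_apply, h]))

/-- The first rotation as a permutation. -/
def F1 : Perm (Sp 4) :=
  ⟨f1, fun v => f1 (f1 v), fun v => (gen_rel v).1, fun v => (gen_rel v).1⟩
/-- The second rotation as a permutation. -/
def F2 : Perm (Sp 4) :=
  ⟨f2, fun v => f2 (f2 v), fun v => (gen_rel v).2.1, fun v => (gen_rel v).2.1⟩
/-- The inverting map as a permutation. -/
def FW : Perm (Sp 4) :=
  ⟨fw, fw, fun v => (gen_rel v).2.2.2.2.2.2.2.1, fun v => (gen_rel v).2.2.2.2.2.2.2.1⟩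
/-- The exchanging map as a permutation. -/
def FT : Perm (Sp 4) :=
  ⟨ft, ft, fun v => (gen_rel v).2.2.2.2.2.2.2.2, fun v => (gen_rel v).2.2.2.2.2.2.2.2⟩

theorem F1_apply (v : Sp 4) : F1 v = f1 v := by rw [F1, Equiv.coe_fn_mk]
theorem F2_apply (v : Sp 4) : F2 v = f2 v := by rw [F2, Equiv.coe_fn_mk]
theorem FW_apply (v : Sp 4) : FW v = fw v := by rw [FW, Equiv.coe_fn_mk]
theorem FT_apply (v : Sp 4) : FT v = ft v := by rw [FT, Equiv.coe_fn_mk]

/-- The permutation of a word. -/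
def wordP (i j k l : ℕ) : Perm (Sp 4) := F1 ^ i * F2 ^ j * FW ^ k * FT ^ l

theorem wordP_apply (i j k l : ℕ) (v : Sp 4) : wordP i j k l v = word i j k l v := by
  simp only [wordP, word, Perm.mul_apply, Perm.coe_pow]
  rw [show ⇑F1 = f1 from funext F1_apply, show ⇑F2 = f2 from funext F2_apply,
    show ⇑FW = fw from funext FW_apply, show ⇑FT = ft from funext FT_apply]

theorem comm_gen : (Commute F1 (EX ca) ∧ Commute F1 (EX cb)) ∧ (Commute F2 (EX ca) ∧ Commute F2 (EX cb)) ∧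
    (Commute FW (EX ca) ∧ Commute FW (EX cb)) ∧ (Commute FT (EX ca) ∧ Commute FT (EX cb)) := by
  refine ⟨⟨?_, ?_⟩, ⟨?_, ?_⟩, ⟨?_, ?_⟩, ⟨?_, ?_⟩⟩ <;> refine Equiv.ext fun v => ?_ <;>
    simp only [Perm.mul_apply, F1_apply, F2_apply, FW_apply, FT_apply, EX_apply]
  exacts [(gen_comm v).1.1, (gen_comm v).1.2, (gen_comm v).2.1.1, (gen_comm v).2.1.2,
    (gen_comm v).2.2.1.1, (gen_comm v).2.2.1.2, (gen_comm v).2.2.2.1, (gen_comm v).2.2.2.2]

theorem comm_F1_F2 : Commute F1 F2 := Equiv.ext fun v => by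
  simp only [Perm.mul_apply, F1_apply, F2_apply]
  exact (gen_rel v).2.2.2.2.2.2.1

/-- The products of powers of the two cycles. -/
def P8 : Subgroup A8 where
  carrier := {σ | ∃ i j : Fin 3, σ = ca ^ i.1 * cb ^ j.1}
  one_mem' := ⟨0, 0, by simp⟩
  mul_mem' := by
    rintro _ _ ⟨i, j, rfl⟩ ⟨k, l, rfl⟩
    exact (by decide +kernel : ∀ i j k l : Fin 3, ∃ m n : Fin 3,
      ca ^ i.1 * cb ^ j.1 * (ca ^ k.1 * cb ^ l.1) = ca ^ m.1 * cb ^ n.1) i j k l
  inv_mem' := by
    rintro _ ⟨i, j, rfl⟩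
    exact (by decide +kernel : ∀ i j : Fin 3, ∃ m n : Fin 3,
      (ca ^ i.1 * cb ^ j.1)⁻¹ = ca ^ m.1 * cb ^ n.1) i j

theorem ca_mem : ca ∈ P8 := ⟨1, 0, by simp⟩

theorem cb_mem : cb ∈ P8 := ⟨0, 1, by simp⟩

theorem P8_facts : (∀ i j : Fin 3, (ca ^ i.1 * cb ^ j.1) ^ 3 = 1) ∧ ca * cb = cb * ca ∧
    ∀ i j k l : Fin 3, ca ^ i.1 * cb ^ j.1 = ca ^ k.1 * cb ^ l.1 → i = k ∧ j = l := by
  decide +kernel

theorem comm_P8 {X : Perm (Sp 4)} (ha : Commute X (EX ca)) (hb : Commute X (EX cb)) {σ : A8}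
    (hσ : σ ∈ P8) : Commute X (EX σ) := by
  obtain ⟨i, j, rfl⟩ := hσ
  rw [map_mul, map_pow, map_pow]
  exact (ha.pow_right _).mul_right (hb.pow_right _)

universe u

variable {G : Type u} [Group G] [Finite G] {z : G} {Q : Subgroup G} {e : ↥Q ≃* ES 4 (ff 4)} {ρ : G}
variable (T : Tri z Q e ρ)

/-- The first element of order three. -/
noncomputable def pa : G := lam T ca
/-- The second element of order three. -/
noncomputable def pb : G := lam T cb
/-- The group they generate. -/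
noncomputable def PP : Subgroup G := P8.map (lam T)
/-- Its centraliser. -/
noncomputable def HH : Subgroup G := centralizer ({pa T, pb T} : Set G)
/-- Its centraliser in `C(z)`. -/
noncomputable def MM : Subgroup G := HH T ⊓ centralizer ({z} : Set G)

include T

theorem mem_HH {g : G} : g ∈ HH T ↔ g * pa T = pa T * g ∧ g * pb T = pb T * g := by
  rw [HH, mem_centralizer_iff]
  simp only [Set.mem_insert_iff, Set.mem_singleton_iff, forall_eq_or_imp, forall_eq]
  exact ⟨fun h => ⟨h.1.symm, h.2.symm⟩, fun h => ⟨h.1.symm, h.2.symm⟩⟩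

theorem mem_MM {g : G} : g ∈ MM T ↔ g ∈ HH T ∧ g * z = z * g := by
  rw [MM, mem_inf, mem_centralizer_singleton_iff]

theorem pa_mem : pa T ∈ PP T := ⟨ca, ca_mem, rfl⟩

theorem pb_mem : pb T ∈ PP T := ⟨cb, cb_mem, rfl⟩

theorem HH_comm_PP {g p : G} (hg : g ∈ HH T) (hp : p ∈ PP T) : Commute g p := by
  obtain ⟨σ, ⟨i, j, rfl⟩, rfl⟩ := hp
  rw [map_mul, map_pow, map_pow]
  exact ((show Commute g (pa T) from ((mem_HH T).1 hg).1).pow_right _).mul_right
    ((show Commute g (pb T) from ((mem_HH T).1 hg).2).pow_right _)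

theorem PP_pow {p : G} (hp : p ∈ PP T) : p ^ 3 = 1 := by
  obtain ⟨σ, ⟨i, j, rfl⟩, rfl⟩ := hp
  rw [← map_pow, P8_facts.1, map_one]

theorem PP_le_MM : PP T ≤ MM T := by
  rintro _ ⟨σ, ⟨i, j, rfl⟩, rfl⟩
  refine (mem_MM T).2 ⟨(mem_HH T).2 ?_, (lam_comm T _).1⟩
  have h : Commute ca cb := P8_facts.2.1
  have k1 := (((Commute.refl ca).pow_left i.1).mul_left (h.symm.pow_left j.1)).eq
  have k2 := ((h.pow_left i.1).mul_left ((Commute.refl cb).pow_left j.1)).eq
  exact ⟨by rw [pa, ← map_mul, ← map_mul, k1], by rw [pb, ← map_mul, ← map_mul, k2]⟩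

theorem z_mem_MM : z ∈ MM T :=
  (mem_MM T).2 ⟨(mem_HH T).2 ⟨(lam_comm T ca).1.symm, (lam_comm T cb).1.symm⟩, rfl⟩

theorem MM_H {g : G} (hg : g ∈ MM T) : g ∈ centralizer ({z} : Set G) := hg.2

theorem act_lam (σ : A8) (v : Sp 4) : act e (lam T σ) v = extP σ.1 v := by
  have hl := lam_lev T σ
  have hi := T.setup.act_isom (Tri.memH hl.1)
  conv_lhs => rw [vec_eq v]
  rw [hi.map_add, hi.map_add, smul_map hi, smul_map hi, T.act_e0 hl.1, (T.lev_act hl).1,
    (T.lev_act hl).2, sig_lam]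
  rfl

/-- An element of odd order fixing a vector commutes with its lifts. -/
theorem comm_of_fix {c : G} (hc : c ∈ centralizer ({z} : Set G)) {m : ℕ} (hn : c ^ (2 * m + 1) = 1)
    {w : Sp 4} (h : act e c w = w) (k : ZMod 2) : Commute c (el e w k) := by
  have S := T.setup
  obtain ⟨k', hk⟩ := S.conj_el hc w k
  rw [h] at hk
  by_cases hkk : k' = k
  · subst hkk; exact mul_inv_eq_iff_eq_mul.1 hk
  have hk' : k' = k + 1 := (by decide : ∀ a b : ZMod 2, ¬ a = b → a = b + 1) _ _ hkk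
  rw [hk', S.el_add_one] at hk
  set a := el e w k
  have hcz : c * z * c⁻¹ = z := mul_inv_eq_iff_eq_mul.2 (mem_centralizer_singleton_iff.1 hc)
  have h2 : c ^ 2 * a * (c ^ 2)⁻¹ = a := by
    calc c ^ 2 * a * (c ^ 2)⁻¹ = c * (c * a * c⁻¹) * c⁻¹ := by
          rw [pow_two, mul_inv_rev]; simp only [mul_assoc]
      _ = c * (a * z) * c⁻¹ := by rw [hk]
      _ = c * a * c⁻¹ * (c * z * c⁻¹) := by group
      _ = a := by rw [hk, hcz, mul_assoc, S.pack.z_mul_z, mul_one]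
  have h6 : c = (c ^ 2) ^ (m + 1) := by
    rw [← pow_mul, show 2 * (m + 1) = 2 * m + 1 + 1 by ring, pow_succ, hn, one_mul]
  rw [h6]
  exact (show Commute (c ^ 2) a from mul_inv_eq_iff_eq_mul.1 h2).pow_left _

theorem el_iF_mem (w : Sp 2) (k : ZMod 2) : el e (iF w) k ∈ MM T := by
  have key : ∀ σ : A8, σ ^ 3 = 1 → extP σ.1 (iF w) = iF w →
      el e (iF w) k * lam T σ = lam T σ * el e (iF w) k := fun σ h3 hf =>
    (comm_of_fix T (Tri.memH (lam_lev T σ).1) (m := 1)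
      (by rw [← map_pow, show 2 * 1 + 1 = 3 by rfl, h3, map_one]) (by rw [act_lam, hf]) k).eq.symm
  have h3 : ca ^ 3 = 1 ∧ cb ^ 3 = 1 := by
    constructor <;> decide +kernel
  exact (mem_MM T).2 ⟨(mem_HH T).2 ⟨key ca h3.1 (iF_facts.2.2.2 w).1, key cb h3.2 (iF_facts.2.2.2 w).2⟩,
    T.setup.pack.comm_z (Setup.el_mem _ _)⟩

theorem QH_cases {g : G} (hg : g ∈ MM T) (hQ : g ∈ Q) : ∃ w k, g = el e (iF w) k := by
  obtain ⟨v, k, rfl⟩ := Setup.exists_el (e := e) hQ
  obtain ⟨ha, hb⟩ := (mem_HH T).1 ((mem_MM T).1 hg).1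
  have key : ∀ σ : A8, el e v k * lam T σ = lam T σ * el e v k → extP σ.1 v = v := fun σ h => by
    rw [← act_lam T]
    exact T.setup.act_eq (Tri.memH (lam_lev T σ).1) (k := k) (k' := k)
      (mul_inv_eq_iff_eq_mul.2 h.symm)
  obtain ⟨w, rfl⟩ := fixed_iff v (key ca ha) (key cb hb)
  exact ⟨w, k, rfl⟩

/-- The maps induced on the vectors. -/
noncomputable def actHom : ↥(MM T) →* Perm (Sp 4) :=
  MonoidHom.mk'
    (fun m =>
      { toFun := act e (m : G)
        invFun := act e (m : G)⁻¹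
        left_inv := fun v => by
          rw [← T.setup.act_mul (inv_mem m.2.2) m.2.2, inv_mul_cancel, T.setup.act_one]
        right_inv := fun v => by
          rw [← T.setup.act_mul m.2.2 (inv_mem m.2.2), mul_inv_cancel, T.setup.act_one] })
    fun a b => Equiv.ext fun v => T.setup.act_mul a.2.2 b.2.2 v

theorem actHom_apply (m : ↥(MM T)) (v : Sp 4) : actHom T m v = act e (m : G) v := rfl

theorem actHom_lam {σ : A8} (h : lam T σ ∈ MM T) : actHom T ⟨lam T σ, h⟩ = EX σ :=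
  Equiv.ext fun v => act_lam T σ v

theorem actHom_eq_one {m : ↥(MM T)} : actHom T m = 1 ↔ (m : G) ∈ Q :=
  ⟨fun h => T.setup.mem_of_act m.2.2 fun v => by rw [← actHom_apply, h]; rfl,
    fun h => Equiv.ext fun v => T.setup.act_mem h v⟩

/-- An induced isometry commuting with the two cycles is induced by the common centraliser. -/
theorem lift_act {c : G} (hc : c ∈ centralizer ({z} : Set G)) {F : Perm (Sp 4)}
    (hF : ∀ v, act e c v = F v) (ha : Commute F (EX ca)) (hb : Commute F (EX cb)) :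
    ∃ m, actHom T m = F := by
  classical
  have S := T.setup
  have hconj : ∀ p ∈ PP T, ∀ x : G, c⁻¹ * x ∈ Q → c⁻¹ * (p * x * p⁻¹) ∈ Q := by
    rintro p hp x hx
    have hpH : p ∈ centralizer ({z} : Set G) := (PP_le_MM T hp).2
    have hd : p⁻¹ * c⁻¹ * p * c ∈ Q := by
      have hdH : p⁻¹ * c⁻¹ * p * c ∈ centralizer ({z} : Set G) :=
        mul_mem (mul_mem (mul_mem (inv_mem hpH) (inv_mem hc)) hpH) hc
      refine S.mem_of_act hdH fun v => ?_
      refine (S.act_isom (mul_mem hc hpH)).injective ?_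
      rw [← S.act_mul (mul_mem hc hpH) hdH, show c * p * (p⁻¹ * c⁻¹ * p * c) = p * c by group,
        S.act_mul hpH hc, S.act_mul hc hpH, hF, hF]
      obtain ⟨σ, hσ, rfl⟩ := hp
      rw [act_lam, act_lam, ← EX_apply, ← EX_apply]
      exact (congrArg (fun f : Perm (Sp 4) => f v) (comm_P8 ha hb hσ).eq).symm
    have h1 := mul_mem (S.conj_mem hpH hd) (S.conj_mem hpH hx)
    rwa [show p * (p⁻¹ * c⁻¹ * p * c) * p⁻¹ * (p * (c⁻¹ * x) * p⁻¹) = c⁻¹ * (p * x * p⁻¹) by group]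
      at h1
  let X := {x : G // c⁻¹ * x ∈ Q}
  letI : MulAction ↥(PP T) X :=
    { smul := fun p x => ⟨p * x.1 * (p : G)⁻¹, hconj p p.2 x.1 x.2⟩
      one_smul := fun x => Subtype.ext (show ((1 : ↥(PP T)) : G) * x.1 * ((1 : ↥(PP T)) : G)⁻¹ = x.1 by simp)
      mul_smul := fun p q x => Subtype.ext (show ((p * q : ↥(PP T)) : G) * x.1 * ((p * q : ↥(PP T)) : G)⁻¹ =
        p * (q * x.1 * (q : G)⁻¹) * (p : G)⁻¹ by simp [mul_assoc]) }
  haveI : Fact (Nat.Prime 3) := ⟨Nat.prime_three⟩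
  have hP : IsPGroup 3 ↥(PP T) := fun p => ⟨1, Subtype.ext (by
    rw [pow_one]; exact PP_pow T p.2)⟩
  have hcard : ¬ 3 ∣ Nat.card X := by
    have : Nat.card X = Nat.card ↥Q := Nat.card_congr
      { toFun := fun x => ⟨c⁻¹ * x.1, x.2⟩
        invFun := fun q => ⟨c * q.1, by simp⟩
        left_inv := fun x => Subtype.ext (mul_inv_cancel_left c x.1)
        right_inv := fun q => Subtype.ext (inv_mul_cancel_left c q.1) }
    rw [this, Nat.card_congr e.toEquiv, card_ES]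
    norm_num
  obtain ⟨x, hx⟩ := hP.nonempty_fixed_point_of_prime_not_dvd_card X hcard
  have hfix : ∀ p ∈ PP T, x.1 * p = p * x.1 := fun p hp =>
    (mul_inv_eq_iff_eq_mul.1 (congrArg Subtype.val (MulAction.mem_fixedPoints.1 hx ⟨p, hp⟩))).symm
  have hxH : x.1 ∈ centralizer ({z} : Set G) := by
    have := mul_mem hc (S.pack.mem_centralizer_z x.2)
    rwa [mul_inv_cancel_left] at this
  refine ⟨⟨x.1, (mem_MM T).2 ⟨(mem_HH T).2 ⟨hfix _ (pa_mem T), hfix _ (pb_mem T)⟩,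
    mem_centralizer_singleton_iff.1 hxH⟩⟩, Equiv.ext fun v => ?_⟩
  rw [actHom_apply]
  show act e x.1 v = F v
  conv_lhs => rw [← mul_inv_cancel_left c x.1]
  rw [S.act_mul hc (S.pack.mem_centralizer_z x.2), S.act_mem x.2, hF]

theorem exists_gens : F1 ∈ (actHom T).range ∧ F2 ∈ (actHom T).range ∧ FW ∈ (actHom T).range ∧
    FT ∈ (actHom T).range := by
  have S := T.setup
  obtain ⟨h1, h2, h3, h4, -, ha, hb, hc, hd⟩ := qd_facts
  obtain ⟨⟨a1, b1⟩, ⟨a2, b2⟩, ⟨aw, bw⟩, ⟨at', bt⟩⟩ := comm_gen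
  refine ⟨?_, ?_, ?_, ?_⟩
  · obtain ⟨c, hcH, hca⟩ := S.even x1 x2 h1 h2
    exact MonoidHom.mem_range.2 (lift_act T hcH (fun v => by rw [hca, F1_apply, f1]) a1 b1)
  · obtain ⟨c, hcH, hca⟩ := S.even y1 y2 h3 h4
    exact MonoidHom.mem_range.2 (lift_act T hcH (fun v => by rw [hca, F2_apply, f2]) a2 b2)
  · obtain ⟨c, hcH, hca⟩ := S.even x1 y1 h1 h3
    exact MonoidHom.mem_range.2 (lift_act T hcH (fun v => by rw [hca, FW_apply, fw]) aw bw)
  · obtain ⟨c, hcH, hca⟩ := S.even qa qb ha hb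
    obtain ⟨d, hdH, hda⟩ := S.even qc qd' hc hd
    refine MonoidHom.mem_range.2 (lift_act T (mul_mem hcH hdH) (fun v => ?_) at' bt)
    rw [S.act_mul hcH hdH, hda, hca, FT_apply, ft]

theorem wordP_mem (i j k l : ℕ) : wordP i j k l ∈ (actHom T).range := by
  obtain ⟨h1, h2, h3, h4⟩ := exists_gens T
  exact mul_mem (mul_mem (mul_mem (pow_mem h1 _) (pow_mem h2 _)) (pow_mem h3 _)) (pow_mem h4 _)

/-- The shape of the induced maps. -/
theorem act_cases (h : ↥(MM T)) : ∃ (i j : Fin 3) (k l : Fin 2), ∃ σ ∈ P8,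
    actHom T h = wordP i j k l * EX σ := by
  have S := T.setup
  have hcomm : ∀ σ : A8, σ ∈ P8 → ∀ (g : ↥(MM T)) (v : Sp 4),
      act e (g : G) (extP σ.1 v) = extP σ.1 (act e (g : G) v) := fun σ hσ g v => by
    rw [← act_lam T, ← act_lam T, ← S.act_mul g.2.2 (Tri.memH (lam_lev T σ).1),
      ← S.act_mul (Tri.memH (lam_lev T σ).1) g.2.2,
      (HH_comm_PP T g.2.1 (show lam T σ ∈ PP T from ⟨σ, hσ, rfl⟩)).eq]
  obtain ⟨⟨we, hwe⟩, wf, hwf⟩ := e0_f0_fixed
  have hi := S.act_isom h.2.2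
  have himg : ∀ w, ∃ w', act e (h : G) (iF w) = iF w' := fun w => by
    refine fixed_iff _ ?_ ?_
    · rw [← hcomm ca ca_mem, (iF_facts.2.2.2 w).1]
    · rw [← hcomm cb cb_mem, (iF_facts.2.2.2 w).2]
  obtain ⟨p, hp⟩ := himg we
  obtain ⟨q, hq⟩ := himg wf
  rw [← hwe] at hp
  rw [← hwf] at hq
  obtain ⟨he, hf, hef, -⟩ := basic_facts
  obtain ⟨i, j, k, l, hpe, hqf⟩ := word_pairs p q (by rw [← hp, hi.map_qd, he])
    (by rw [← hq, hi.map_qd, hf]) (by rw [← hp, ← hq, hi.map_alt, hef])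
  obtain ⟨m, hm⟩ := wordP_mem T i j k l
  set h' := m⁻¹ * h with hh'
  have hh : ∀ v, act e (h' : G) v = (wordP i j k l)⁻¹ (act e (h : G) v) := fun v => by
    rw [← actHom_apply, hh', map_mul, map_inv, hm]; rfl
  have g0 : act e (h' : G) e0 = e0 := by
    rw [hh, hp]; exact (Equiv.symm_apply_eq _).2 (by rw [wordP_apply]; exact hpe.symm)
  have g1 : act e (h' : G) f0 = f0 := by
    rw [hh, hq]; exact (Equiv.symm_apply_eq _).2 (by rw [wordP_apply]; exact hqf.symm)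
  have hi' := S.act_isom h'.2.2
  have hup : ∀ v, ∃ w, act e (h' : G) (up v) = up w := fun v => by
    obtain ⟨s, t, b, hb, ht, hs⟩ := decomp (act e (h' : G) (up v))
    obtain ⟨-, -, -, -, k5, k6⟩ := beta_e0_up v
    have a1 := hi'.map_alt e0 (up v)
    have a2 := hi'.map_alt f0 (up v)
    rw [g0, k5, alt_comm, ht] at a1
    rw [g1, k6, alt_comm, hs] at a2
    exact ⟨b, by rw [hb, a1, a2, zero_smul, zero_smul, add_zero, zero_add]⟩
  choose hfun hfuneq using hup
  have hI : Isom hfun := {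
    map_add := fun a b => up_inj (by rw [← hfuneq, ← up_add, hi'.map_add, hfuneq, hfuneq, up_add])
    map_qd := fun a => by rw [← qd_up, ← hfuneq, hi'.map_qd, qd_up] }
  obtain ⟨σ, hσ⟩ := isom_eq_psi hI
  have hcm : ∀ τ : A8, τ ∈ P8 → σ * τ.1 = τ.1 * σ := fun τ hτ => psi_injective fun v => by
    rw [psi_mul, psi_mul, ← hσ, ← hσ]
    refine up_inj ?_
    rw [← hfuneq, ← extP_up, ← extP_up, ← hfuneq, hcomm τ hτ]
  have hall : ∀ v, act e (h' : G) v = extP σ v := fun v => by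
    conv_lhs => rw [vec_eq v]
    rw [hi'.map_add, hi'.map_add, smul_map hi', smul_map hi', g0, g1, hfuneq, hσ]
    rfl
  obtain ⟨a, b, hab | hab⟩ := cent_perm σ (hcm ca ca_mem) (hcm cb cb_mem)
  · refine ⟨i, j, k, l, ca ^ a.1 * cb ^ b.1, ⟨a, b, rfl⟩, ?_⟩
    rw [← hm, show h = m * h' by rw [hh', mul_inv_cancel_left], map_mul]
    congr 1
    refine Equiv.ext fun v => ?_
    rw [actHom_apply, hall, hab, EX_apply]
    rfl
  · exfalso
    set τ : A8 := ca ^ a.1 * cb ^ b.1 with hτ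
    have hlH : lam T τ⁻¹ ∈ centralizer ({z} : Set G) := Tri.memH (lam_lev T _).1
    have hq67 : qd (up (pairVec 6 7)) = 1 := by rw [qd_up, (refl_pairVec 6 7 (by decide)).1]
    obtain ⟨v, hv⟩ := S.norefl (lam T τ⁻¹ * (h' : G)) (mul_mem hlH h'.2.2) _ hq67
    refine hv ?_
    rw [S.act_mul hlH h'.2.2, hall, act_lam, ← extP_mul, hab,
      show (τ⁻¹ : A8).1 * (ca.1 ^ a.1 * cb.1 ^ b.1 * swap 6 7) = swap 6 7 by
        rw [hτ]; push_cast; group]
    have hr : Isom (refl (up (pairVec 6 7))) := refl_isom hq67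
    conv_rhs => rw [vec_eq v]
    rw [hr.map_add, hr.map_add, smul_map hr, smul_map hr, (refl_up_fix _).1, (refl_up_fix _).2,
      refl_up, (refl_pairVec 6 7 (by decide)).2]
    rfl

end CfsgLib.StructB.CoA9.PNine
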