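import Cfsg.Agent.Lib.StructB.CoA9.PNineMap
import Cfsg.Agent.Lib.U43.HExists

/-!
The two factors as homomorphisms of `SL(2,3)` and how they meet.
-/

set_option autoImplicit false
set_option maxRecDepth 20000
set_option synthInstance.maxSize 2000
set_option Elab.async false

namespace CfsgLib.StructB.CoA9.PNine

open Subgroup CfsgLib.Trans3.ExtraTwo CfsgLib.ClassK.Conway Equiv

local notation "A8" => alternatingGroup (Fin 8)

theorem iF_zero : iF 0 = 0 := by decide +kernel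

theorem pr_perp : ∀ v w, alt (plane x1 x2 v) (plane y1 y2 w) = 0 := plane_basic.2.2.2.1

theorem pr_sum : ∀ w, ∃ u v : P2, iF w = plane x1 x2 u + plane y1 y2 v := plane_basic.2.2.2.2.2.1

theorem pr_fix (w : P2) : F1 (plane y1 y2 w) = plane y1 y2 w ∧ F2 (plane x1 x2 w) = plane x1 x2 w := by
  simp only [F1_apply, F2_apply]
  exact plane_facts.1 w

theorem pow_fix {F : Perm (Sp 4)} {v : Sp 4} (h : F v = v) : ∀ n : ℕ, (F ^ n) v = v
  | 0 => rfl
  | n + 1 => by rw [pow_succ, Perm.mul_apply, h, pow_fix h n]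

theorem pow_mod {F : Perm (Sp 4)} {n : ℕ} {a : Sp 4} (h3 : F ^ 3 = 1) (hmv : F a ≠ a)
    (h : (F ^ n) a = a) : n % 3 = 0 := by
  rw [← Nat.mod_add_div n 3, pow_add, pow_mul, h3, one_pow, mul_one] at h
  rcases (by omega : n % 3 = 0 ∨ n % 3 = 1 ∨ n % 3 = 2) with e' | e' | e'
  · exact e'
  · rw [e', pow_one] at h; exact absurd h hmv
  · exfalso
    rw [e'] at h
    refine hmv ?_
    calc F a = F ((F ^ 2) a) := by rw [h]
      _ = (F ^ 3) a := by rw [pow_succ' F 2]; rfl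
      _ = a := by rw [h3]; rfl

universe u

variable {G : Type u} [Group G] [Finite G] {z : G} {Q : Subgroup G} {e : ↥Q ≃* ES 4 (ff 4)} {ρ : G}
variable (T : Tri z Q e ρ)

/-- A factor: a lift of a rotation and the map of `SL(2,3)` onto its factor. -/
structure Fac {a b : Sp 4} {F : Perm (Sp 4)} (R : PR a b F) (r : G) where
  lift : IsLift T F r
  j : U43.SL23 →* ↥(MM T)
  mem : ∀ x, (j x : G) ∈ HS T R lift
  surj : ∀ g ∈ HS T R lift, ∃ x, (j x : G) = g
  inj : Function.Injective j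

variable {a b : Sp 4} {F : Perm (Sp 4)} {R : PR a b F} {r : G}

include T

theorem exists_fac (R : PR a b F) (hF : F ∈ (actHom T).range) : ∃ r, Nonempty (Fac T R r) := by
  obtain ⟨r, L⟩ := exists_lift T hF R.cube
  obtain ⟨ε⟩ := HS_sl T R L
  exact ⟨r, ⟨{
    lift := L
    j := (inclusion (HS_le T R L)).comp ε.symm.toMonoidHom
    mem := fun x => (ε.symm x).2
    surj := fun g hg => ⟨ε ⟨g, hg⟩, by simp⟩
    inj := (inclusion_injective (HS_le T R L)).comp ε.symm.injective }⟩⟩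

theorem Fac.neg (A : Fac T R r) : (A.j (U43.el 12) : G) = z := by
  have e12 : U43.el 12 * U43.el 12 = 1 := by
    rw [(U43.el_mul (by norm_num) (by norm_num)).1, show U43.mt 12 12 = 0 by decide +kernel, U43.el_zero]
  refine (HS_invol T R A.lift (A.mem _) (by
    rw [← Subgroup.coe_mul, ← map_mul, e12, map_one]; rfl)).resolve_left fun h => ?_
  exact U43.el12_ne (A.inj ((Subtype.ext h).trans (map_one A.j).symm))

theorem Fac.qa_iff_OS (A : Fac T R r) {c : ℕ} (hc : c < 24) :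
    U43.qa c = true ↔ (A.j (U43.el c) : G) ∈ OS T R := by
  constructor
  · intro h
    obtain ⟨q, hq, n, hn⟩ := A.mem (U43.el c)
    have h4 : A.j (U43.el c) ^ 4 = 1 := by rw [← map_pow, (qa_iff hc).1 h, map_one]
    have : F ^ (n * 4) = F ^ 0 := by
      rw [pow_mul, ← show actHom T (A.j (U43.el c)) = F ^ n from Equiv.ext fun v => by
        rw [actHom_apply, hn, HS_act T R A.lift hq], ← map_pow, h4, map_one, pow_zero]
    have := R.pow_eq this
    rw [hn, show n = 3 * (n / 3) by omega, pow_mul, A.lift.cube, one_pow, mul_one]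
    exact hq
  · intro h
    refine (qa_iff hc).2 (A.inj ?_)
    rw [map_pow, map_one]
    exact Subtype.ext (pow_four_Q T (OS_le_Q T R h))

theorem Fac.act_pow_mem (A : Fac T R r) (x : U43.SL23) : ∃ n, actHom T (A.j x) = F ^ n := by
  obtain ⟨q, hq, n, hn⟩ := A.mem x
  exact ⟨n, Equiv.ext fun v => by rw [actHom_apply, hn, HS_act T R A.lift hq]⟩

variable {r' : G}

theorem HS_meet (L : IsLift T F1 r) (L' : IsLift T F2 r') {g h p : G} (hg : g ∈ HS T pr_one L)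
    (hh : h ∈ HS T pr_two L') (hp : p ∈ PP T) (heq : g = h * p) :
    p = 1 ∧ g ∈ OS T pr_one ∧ h ∈ OS T pr_two := by
  have S := T.setup
  obtain ⟨q, hq, n, rfl⟩ := hg
  obtain ⟨q', hq', n', rfl⟩ := hh
  obtain ⟨σ, hσ, rfl⟩ := hp
  have hmap : ∀ v, (F1 ^ n) v = (F2 ^ n') (extP σ.1 v) := fun v => by
    rw [← HS_act T pr_one L hq n v, heq,
      S.act_mul (HS_le T pr_two L' ⟨q', hq', n', rfl⟩).2 (Tri.memH (lam_lev T σ).1),
      act_lam, HS_act T pr_two L' hq' n']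
  have hex : ∀ v : Sp 4, (∃ u, v = iF u) → extP σ.1 v = v := fun v ⟨u, hu⟩ => by
    obtain ⟨i, j, rfl⟩ := hσ
    subst hu
    rw [← EX_apply, map_mul, map_pow, map_pow, Perm.mul_apply,
      pow_fix (F := EX cb) (iF_facts.2.2.2 u).2 j.1, pow_fix (F := EX ca) (iF_facts.2.2.2 u).1 i.1]
  have hx1 : plane x1 x2 (1, 0) = x1 := by simp [plane]
  have hy1 : plane y1 y2 (1, 0) = y1 := by simp [plane]
  have a1 : (F1 ^ n) x1 = x1 := by
    rw [hmap, hex _ (hx1 ▸ pr_one.fixd _)]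
    exact pow_fix (hx1 ▸ (pr_fix _).2) n'
  have a2 : (F2 ^ n') y1 = y1 := by
    have := hmap y1
    rw [hex _ (hy1 ▸ pr_two.fixd _), pow_fix (hy1 ▸ (pr_fix _).1) n] at this
    exact this.symm
  have n0 := pow_mod pr_one.cube pr_one.move a1
  have n0' := pow_mod pr_two.cube pr_two.move a2
  have er : r ^ n = 1 := by
    rw [← Nat.div_add_mod n 3, n0, add_zero, pow_mul, L.cube, one_pow]
  have er' : r' ^ n' = 1 := by
    rw [← Nat.div_add_mod n' 3, n0', add_zero, pow_mul, L'.cube, one_pow]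
  rw [er, er', mul_one, mul_one] at heq
  have hp1 : lam T σ = 1 := by
    refine pow_three_four (PP_pow T ⟨σ, hσ, rfl⟩) (pow_four_Q T ?_)
    rw [show lam T σ = q'⁻¹ * q by rw [heq]; group]
    exact mul_mem (inv_mem (OS_le_Q T pr_two hq')) (OS_le_Q T pr_one hq)
  refine ⟨hp1, ?_, ?_⟩
  · rw [er, mul_one]; exact hq
  · rw [er', mul_one]; exact hq'

theorem HS_commute (L : IsLift T F1 r) (L' : IsLift T F2 r') {g h : G} (hg : g ∈ HS T pr_one L)
    (hh : h ∈ HS T pr_two L') : Commute g h :=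
  HS_comm T pr_one L pr_two L' pr_perp (fun w => (pr_fix w).1) (fun w => (pr_fix w).2) comm_F1_F2
    pr_sum hg hh

theorem el_split (w : Sp 2) (k : ZMod 2) :
    ∃ p ∈ OS T pr_one, ∃ q ∈ OS T pr_two, el e (iF w) k = p * q := by
  obtain ⟨u, v, huv⟩ := pr_sum w
  refine ⟨_, ⟨u, k + beta (ff 4) (plane x1 x2 u) (plane y1 y2 v), rfl⟩, _, ⟨v, 0, rfl⟩, ?_⟩
  rw [Setup.el_mul, ← huv, add_zero, add_assoc, z2_add_self, add_zero]

variable (A : Fac T pr_one r) (B : Fac T pr_two r')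

theorem jK_mem (x y : U43.SL23) : actHom T (A.j x * B.j y) ∈ K0 := by
  obtain ⟨n, hn⟩ := A.act_pow_mem T x
  obtain ⟨m, hm⟩ := B.act_pow_mem T y
  rw [map_mul, hn, hm]
  exact mul_mem (pow_mem F1_mem n) (pow_mem F2_mem m)

theorem exists_xy (m : ↥(MM T)) (hm : actHom T m ∈ K0) :
    ∃ x y, piM T m = piM T (A.j x) * piM T (B.j y) := by
  obtain ⟨i, j, σ, hσ, hm⟩ := hm
  have hpM : lam T σ ∈ MM T := PP_le_MM T ⟨σ, hσ, rfl⟩
  set b : ↥(MM T) := ⟨r, A.lift.mem⟩ ^ i * ⟨r', B.lift.mem⟩ ^ j * ⟨lam T σ, hpM⟩ with hb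
  have hq : ((m * b⁻¹ : ↥(MM T)) : G) ∈ Q := (actHom_eq_one T).1 (by
    rw [map_mul, map_inv, hm, hb, map_mul, map_mul, map_pow, map_pow, actHom_lam,
      show actHom T ⟨r, A.lift.mem⟩ = F1 from Equiv.ext A.lift.act,
      show actHom T ⟨r', B.lift.mem⟩ = F2 from Equiv.ext B.lift.act, mul_inv_cancel])
  obtain ⟨w, k, hw⟩ := QH_cases T (m * b⁻¹).2 hq
  obtain ⟨p, hp, q, hq', hpq⟩ := el_split T w k
  obtain ⟨x, hx⟩ := A.surj (p * r ^ i) ⟨p, hp, i, rfl⟩
  obtain ⟨y, hy⟩ := B.surj (q * r' ^ j) ⟨q, hq', j, rfl⟩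
  refine ⟨x, y, ?_⟩
  have hlam : piM T ⟨lam T σ, hpM⟩ = 1 := (piM_eq_one T).2 ⟨σ, hσ, rfl⟩
  have hm' : m = A.j x * B.j y * ⟨lam T σ, hpM⟩ := by
    refine Subtype.ext ?_
    have h0 : ((m * b⁻¹ * b : ↥(MM T)) : G) = p * q * (r ^ i * r' ^ j * lam T σ) := by
      rw [Subgroup.coe_mul, hw, hpq, hb, Subgroup.coe_mul, Subgroup.coe_mul, SubmonoidClass.coe_pow,
        SubmonoidClass.coe_pow]
    rw [inv_mul_cancel_right] at h0
    rw [h0, Subgroup.coe_mul, Subgroup.coe_mul, hx, hy]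
    have hc : Commute q (r ^ i) := ((HS_commute T A.lift B.lift (r_mem_HS T pr_one A.lift)
      (OS_le_HS T pr_two B.lift hq')).pow_left i).symm
    simp only [← mul_assoc]
    rw [mul_assoc p q, hc.eq, ← mul_assoc]
  rw [hm', map_mul, map_mul, hlam, mul_one]

omit T in
/-- The image of the common fixed part of `Q`. -/
noncomputable def Qs (T : Tri z Q e ρ) : Subgroup (QT9 T) := (Q.subgroupOf (MM T)).map (piM T)

theorem inQ_iff (x : QT9 T) : (∃ c d, U43.qa c = true ∧ U43.qa d = true ∧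
    x = (piM T).comp A.j (U43.el c) * (piM T).comp B.j (U43.el d)) ↔ x ∈ Qs T := by
  constructor
  · rintro ⟨c, d, hc, hd, rfl⟩
    refine ⟨A.j (U43.el c) * B.j (U43.el d), mem_subgroupOf.2 ?_, map_mul _ _ _⟩
    exact mul_mem (OS_le_Q T pr_one ((A.qa_iff_OS T (U43.qa_lt hc)).1 hc))
      (OS_le_Q T pr_two ((B.qa_iff_OS T (U43.qa_lt hd)).1 hd))
  · rintro ⟨m, hm, rfl⟩
    obtain ⟨w, k, hw⟩ := QH_cases T m.2 (mem_subgroupOf.1 hm)
    obtain ⟨p, hp, q, hq, hpq⟩ := el_split T w k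
    obtain ⟨x, hx⟩ := A.surj p (OS_le_HS T pr_one A.lift hp)
    obtain ⟨y, hy⟩ := B.surj q (OS_le_HS T pr_two B.lift hq)
    obtain ⟨c, hc, rfl⟩ := U43.el_surj x
    obtain ⟨d, hd, rfl⟩ := U43.el_surj y
    refine ⟨c, d, (A.qa_iff_OS T hc).2 (hx ▸ hp), (B.qa_iff_OS T hd).2 (hy ▸ hq), ?_⟩
    show piM T m = piM T (A.j (U43.el c)) * piM T (B.j (U43.el d))
    rw [← map_mul]
    exact congrArg (piM T) (Subtype.ext (by rw [hw, hpq, Subgroup.coe_mul, hx, hy]))

include A B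

theorem normK_aux (h : QT9 T) (hh : h * zq T = zq T * h) (x y : U43.SL23) :
    ∃ x' y', h * (piM T (A.j x) * piM T (B.j y)) * h⁻¹ = piM T (A.j x') * piM T (B.j y') := by
  obtain ⟨m, rfl⟩ := exists_lift_zq T h hh
  obtain ⟨x', y', e'⟩ := exists_xy T A B (m * (A.j x * B.j y) * m⁻¹) (by
    rw [map_mul, map_mul (actHom T) m, map_inv]; exact (act_image_nk T m).1 _ (jK_mem T A B x y))
  exact ⟨x', y', by rw [← e', map_mul, map_mul, map_inv, map_mul]⟩

theorem commK_aux (a b : QT9 T) (ha : a * zq T = zq T * a) (hb : b * zq T = zq T * b) :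
    ∃ x y, a * b * a⁻¹ * b⁻¹ = piM T (A.j x) * piM T (B.j y) := by
  obtain ⟨m, rfl⟩ := exists_lift_zq T a ha
  obtain ⟨n, rfl⟩ := exists_lift_zq T b hb
  obtain ⟨x', y', e'⟩ := exists_xy T A B (m * n * m⁻¹ * n⁻¹) (by
    obtain ⟨-, k1, hk1, k, l, e1⟩ := act_image_nk T m
    obtain ⟨-, k2, hk2, k', l', e2⟩ := act_image_nk T n
    have hwn : ∀ k l, NK (FW ^ k * FT ^ l) := fun k l => (NK_FW.pow k).mul (NK_FT.pow l)
    set w := FW ^ k * FT ^ l
    set w' := FW ^ k' * FT ^ l'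
    have hww : Commute w w' :=
      (((Commute.refl FW).pow_pow k k').mul_right (comm_FW_FT.pow_pow k l')).mul_left
        ((comm_FW_FT.symm.pow_pow l k').mul_right ((Commute.refl FT).pow_pow l l'))
    rw [map_mul, map_mul, map_mul, map_inv, map_inv, e1, e2,
      show k1 * w * (k2 * w') * (k1 * w)⁻¹ * (k2 * w')⁻¹ =
        k1 * (w * k2 * w⁻¹) * (w * w' * w⁻¹ * w'⁻¹) * (w' * k1⁻¹ * w'⁻¹) * k2⁻¹ by group,
      hww.eq, mul_inv_cancel_right, mul_inv_cancel, mul_one]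
    exact mul_mem (mul_mem (mul_mem hk1 (hwn k l k2 hk2)) (hwn k' l' _ (inv_mem hk1))) (inv_mem hk2))
  exact ⟨x', y', by rw [← e', map_mul, map_mul, map_mul, map_inv, map_inv]⟩

theorem sep_aux (x y : U43.SL23) (hxy : piM T (A.j x) = piM T (B.j y)) :
    x = U43.el 0 ∨ x = U43.el 12 := by
  have h0 : piM T ((B.j y)⁻¹ * A.j x) = 1 := by
    rw [map_mul, map_inv, inv_mul_eq_one]; exact hxy.symm
  obtain ⟨hp, hxO, hyO⟩ := HS_meet T A.lift B.lift (A.mem x) (B.mem y) ((piM_eq_one T).1 h0)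
    (by rw [Subgroup.coe_mul, InvMemClass.coe_inv, mul_inv_cancel_left])
  have hxy' : (A.j x : G) = B.j y := by
    rw [Subgroup.coe_mul, InvMemClass.coe_inv, inv_mul_eq_one] at hp
    exact hp.symm
  obtain ⟨u, k, hu⟩ := hxO
  obtain ⟨v, l, hv⟩ := hyO
  obtain ⟨huv, -⟩ := Setup.el_inj (hu.symm.trans (hxy'.trans hv))
  rw [(plane_basic.2.2.2.2.2.2.1 u v huv).1, pr_one.zero] at hu
  rcases z2_cases k with rfl | rfl
  · rw [Setup.el_zero] at hu
    exact Or.inl ((A.inj ((Subtype.ext hu).trans (map_one A.j).symm)).trans U43.el_zero.symm)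
  · rw [T.setup.el_one] at hu
    exact Or.inr (A.inj (Subtype.ext (hu.trans (A.neg T).symm)))

theorem inj_aux : Function.Injective ((piM T).comp A.j) ∧ Function.Injective ((piM T).comp B.j) := by
  refine ⟨(injective_iff_map_eq_one _).2 fun x hx => ?_, (injective_iff_map_eq_one _).2 fun x hx => ?_⟩
  · have hp := (piM_eq_one T).1 hx
    have := (HS_meet T A.lift B.lift (A.mem x) (one_mem _) hp (one_mul _).symm).1
    exact A.inj ((Subtype.ext this).trans (map_one A.j).symm)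
  · have hp := (piM_eq_one T).1 hx
    have := (HS_meet T A.lift B.lift (one_mem _) (B.mem x) (inv_mem hp) (mul_inv_cancel _).symm).1
    exact B.inj ((Subtype.ext (inv_eq_one.1 this)).trans (map_one B.j).symm)

theorem centQ_aux (h : QT9 T) (hh : h * zq T = zq T * h)
    (hc : ∀ a b, U43.qa a = true → U43.qa b = true →
      h * ((piM T).comp A.j (U43.el a) * (piM T).comp B.j (U43.el b)) =
        (piM T).comp A.j (U43.el a) * (piM T).comp B.j (U43.el b) * h) :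
    h = 1 ∨ h = zq T := by
  have S := T.setup
  obtain ⟨m, rfl⟩ := exists_lift_zq T h hh
  have hcm : ∀ w k, Commute (m : G) (el e (iF w) k) := fun w k => by
    let qM : ↥(MM T) := ⟨_, el_iF_mem T w k⟩
    obtain ⟨a, b, ha, hb, hab⟩ := (inQ_iff T A B (piM T qM)).2
      ⟨qM, mem_subgroupOf.2 (Setup.el_mem _ _), rfl⟩
    have h1 : piM T (m * qM * m⁻¹ * qM⁻¹) = 1 := by
      rw [map_mul, map_mul, map_mul, map_inv, map_inv, hab]
      rw [hc a b ha hb, mul_inv_cancel_right, mul_inv_cancel]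
    have h2 := (piM_eq_one T).1 h1
    have h4 : ((m * qM * m⁻¹ * qM⁻¹ : ↥(MM T)) : G) ^ 4 = 1 :=
      pow_four_Q T (mul_mem (S.conj_mem m.2.2 (Setup.el_mem _ _)) (inv_mem (Setup.el_mem _ _)))
    have h5 := pow_three_four (PP_pow T h2) h4
    exact mul_inv_eq_iff_eq_mul.1 (mul_inv_eq_one.1 h5)
  obtain ⟨i, j, k, l, σ, hσ, hm⟩ := act_cases T m
  have hfix : ∀ w, word i j k l (iF w) = iF w := fun w => by
    have e1 : act e (m : G) (iF w) = iF w :=
      S.act_eq m.2.2 (k := 0) (k' := 0) (mul_inv_eq_iff_eq_mul.2 (hcm w 0))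
    have e2 : EX σ (iF w) = iF w := by
      rw [EX_apply, ← act_lam T]
      exact S.act_eq (Tri.memH (lam_lev T σ).1) (k := 0) (k' := 0) (mul_inv_eq_iff_eq_mul.2
        (HH_comm_PP T (el_iF_mem T w 0).1 ⟨σ, hσ, rfl⟩).symm)
    rw [← actHom_apply, hm, Perm.mul_apply, e2, wordP_apply] at e1
    exact e1
  obtain ⟨⟨we, hwe⟩, wf, hwf⟩ := e0_f0_fixed
  obtain ⟨rfl, rfl, rfl, rfl⟩ := word_inj i j 0 0 k l 0 0
    (by rw [hwe, hfix]; rfl) (by rw [hwf, hfix]; rfl)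
  have hpM : lam T σ ∈ MM T := PP_le_MM T ⟨σ, hσ, rfl⟩
  obtain ⟨w, c, hw⟩ := QH_cases T (m * ⟨lam T σ, hpM⟩⁻¹).2 ((actHom_eq_one T).1 (by
    rw [map_mul, map_inv, hm, actHom_lam]; simp [wordP]))
  have hw0 : w = 0 := iF_facts.2.2.1 w fun w' => by
    have : Commute ((m * ⟨lam T σ, hpM⟩⁻¹ : ↥(MM T)) : G) (el e (iF w') 0) :=
      (hcm w' 0).mul_left (HH_comm_PP T (el_iF_mem T w' 0).1 ⟨σ, hσ, rfl⟩).symm.inv_left
    rw [hw, commute_iff_eq, S.el_comm, mul_eq_right, ← Setup.el_zero (e := e)] at this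
    exact (Setup.el_inj this).2
  rw [hw0, iF_zero] at hw
  have hlam : piM T ⟨lam T σ, hpM⟩ = 1 := (piM_eq_one T).2 ⟨σ, hσ, rfl⟩
  have e' : piM T m = piM T (m * ⟨lam T σ, hpM⟩⁻¹) := by rw [map_mul, map_inv, hlam, inv_one, mul_one]
  rw [e']
  rcases z2_cases c with rfl | rfl
  · left
    rw [Setup.el_zero] at hw
    rw [show m * (⟨lam T σ, hpM⟩ : ↥(MM T))⁻¹ = 1 from Subtype.ext hw, map_one]
  · right
    rw [S.el_one] at hw
    exact congrArg (piM T) (Subtype.ext hw)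

end CfsgLib.StructB.CoA9.PNine
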