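import Cfsg.Agent.Lib.StructB.CoA9.Model
import Cfsg.Agent.Lib.ClassK.ConwayTri

/-!
Finite facts for the centraliser of two disjoint three-cycles: the fixed space, the isometries commuting
with both cycles and generators for them.
-/

set_option autoImplicit false
set_option maxRecDepth 20000
set_option synthInstance.maxSize 2000
set_option Elab.async false

namespace CfsgLib.StructB.CoA9.PNine

open Subgroup CfsgLib.Trans3.ExtraTwo CfsgLib.ClassK.Conway Equiv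

local notation "A8" => alternatingGroup (Fin 8)

/-- The three-cycle `(0 1 2)`. -/
def ca : A8 := ⟨swap 0 1 * swap 1 2, by simp [Perm.mem_alternatingGroup]⟩

/-- The three-cycle `(3 4 5)`. -/
def cb : A8 := ⟨swap 3 4 * swap 4 5, by simp [Perm.mem_alternatingGroup]⟩

/-- The map of a permutation on the eight-dimensional space. -/
def extP (σ : Perm (Fin 8)) (v : Sp 4) : Sp 4 :=
  (v 0).1 • e0 + (v 0).2 • f0 + up (psi σ fun i => v i.succ)

/-- The vector of `{0, 1, 2, 6}`. -/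
def g6 : Sp 3 := dec ![1, 1, 1, 0, 0, 0, 1, 0]

/-- The vector of `{0, 1, 2, 7}`. -/
def g7 : Sp 3 := dec ![1, 1, 1, 0, 0, 0, 0, 1]

/-- The embedding of the common fixed space. -/
def iF (w : Sp 2) : Sp 4 :=
  (w 0).1 • e0 + (w 0).2 • f0 + up ((w 1).1 • g6 + (w 1).2 • g7)

/-- First vector of the first anisotropic plane. -/
def x1 : Sp 4 := e0 + f0
/-- Second vector of the first anisotropic plane. -/
def x2 : Sp 4 := e0 + up (g6 + g7)
/-- First vector of the second anisotropic plane. -/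
def y1 : Sp 4 := up (g6 + g7)
/-- Second vector of the second anisotropic plane. -/
def y2 : Sp 4 := e0 + f0 + up g6

/-- The vectors of the two planes. -/
def plane (a b : Sp 4) (w : P2) : Sp 4 := w.1 • a + w.2 • b

/-- The rotation of the first plane. -/
def f1 (v : Sp 4) : Sp 4 := refl x1 (refl x2 v)
/-- The rotation of the second plane. -/
def f2 (v : Sp 4) : Sp 4 := refl y1 (refl y2 v)
/-- The map inverting both rotations. -/
def fw (v : Sp 4) : Sp 4 := refl x1 (refl y1 v)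

/-- Auxiliary non-singular vectors. -/
def qa : Sp 4 := ![(0, 0), (0, 0), (0, 1), (1, 1)]
/-- Auxiliary non-singular vectors. -/
def qb : Sp 4 := ![(0, 1), (1, 1), (1, 0), (1, 0)]
/-- Auxiliary non-singular vectors. -/
def qc : Sp 4 := ![(1, 0), (1, 1), (1, 0), (0, 1)]
/-- Auxiliary non-singular vectors. -/
def qd' : Sp 4 := ![(1, 1), (0, 0), (0, 1), (0, 0)]

/-- The map exchanging the planes. -/
def ft (v : Sp 4) : Sp 4 := refl qa (refl qb (refl qc (refl qd' v)))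

/-- The maps on the fixed space. -/
def word (i j k l : ℕ) (v : Sp 4) : Sp 4 := f1^[i] (f2^[j] (fw^[k] (ft^[l] v)))

theorem qd_facts : qd x1 = 1 ∧ qd x2 = 1 ∧ qd y1 = 1 ∧ qd y2 = 1 ∧ qd (up (g6 + g7)) = 1 ∧
    qd qa = 1 ∧ qd qb = 1 ∧ qd qc = 1 ∧ qd qd' = 1 := by decide +kernel

theorem iF_facts : (∀ v w : Sp 2, iF (v + w) = iF v + iF w) ∧ (∀ v, iF v = 0 → v = 0) ∧
    (∀ v, (∀ w, alt (iF v) (iF w) = 0) → v = 0) ∧
    (∀ v, extP ca.1 (iF v) = iF v ∧ extP cb.1 (iF v) = iF v) := by decide +kernel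

theorem fixed_iff : ∀ v : Sp 4, extP ca.1 v = v → extP cb.1 v = v → ∃ w : Sp 2, v = iF w := by
  decide +kernel

theorem gen_comm : ∀ v : Sp 4,
    (f1 (extP ca.1 v) = extP ca.1 (f1 v) ∧ f1 (extP cb.1 v) = extP cb.1 (f1 v)) ∧
    (f2 (extP ca.1 v) = extP ca.1 (f2 v) ∧ f2 (extP cb.1 v) = extP cb.1 (f2 v)) ∧
    (fw (extP ca.1 v) = extP ca.1 (fw v) ∧ fw (extP cb.1 v) = extP cb.1 (fw v)) ∧
    (ft (extP ca.1 v) = extP ca.1 (ft v) ∧ ft (extP cb.1 v) = extP cb.1 (ft v)) := by decide +kernel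

/-- Relations between the generators. -/
theorem gen_rel : ∀ v : Sp 4, f1 (f1 (f1 v)) = v ∧ f2 (f2 (f2 v)) = v ∧ fw (f1 v) = f1 (f1 (fw v)) ∧
    fw (f2 v) = f2 (f2 (fw v)) ∧ ft (f1 v) = f2 (ft v) ∧ ft (f2 v) = f1 (ft v) ∧
    f1 (f2 v) = f2 (f1 v) ∧ fw (fw v) = v ∧ ft (ft v) = v := by
  decide +kernel

/-- The rotations fix the other plane and move their own. -/
theorem plane_facts : (∀ w : P2, f1 (plane y1 y2 w) = plane y1 y2 w ∧
      f2 (plane x1 x2 w) = plane x1 x2 w) ∧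
    (∀ w : P2, (∃ w', f1 (plane x1 x2 w) = plane x1 x2 w') ∧ ∃ w', f2 (plane y1 y2 w) = plane y1 y2 w') ∧
    f1 x1 ≠ x1 ∧ f2 y1 ≠ y1 := by decide +kernel

theorem plane_basic : (∀ v w : P2, plane x1 x2 (v + w) = plane x1 x2 v + plane x1 x2 w) ∧
    (∀ v w : P2, plane y1 y2 (v + w) = plane y1 y2 v + plane y1 y2 w) ∧
    (∀ v : P2, (qd (plane x1 x2 v) = 0 → v = 0) ∧ (qd (plane y1 y2 v) = 0 → v = 0) ∧
      (plane x1 x2 v = 0 → v = 0) ∧ (plane y1 y2 v = 0 → v = 0)) ∧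
    (∀ v w : P2, alt (plane x1 x2 v) (plane y1 y2 w) = 0) ∧
    (∀ v : P2, (∃ u, plane x1 x2 v = iF u) ∧ ∃ u, plane y1 y2 v = iF u) ∧
    (∀ w : Sp 2, ∃ u v : P2, iF w = plane x1 x2 u + plane y1 y2 v) ∧
    (∀ u v : P2, plane x1 x2 u = plane y1 y2 v → u = 0 ∧ v = 0) ∧
    alt x1 x2 = 1 ∧ alt y1 y2 = 1 := by
  decide +kernel

/-- Any hyperbolic pair of the fixed space is the image of the standard one under a word. -/
theorem word_pairs : ∀ p q : Sp 2, qd (iF p) = 0 → qd (iF q) = 0 → alt (iF p) (iF q) = 1 →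
    ∃ (i j : Fin 3) (k l : Fin 2), word i j k l e0 = iF p ∧ word i j k l f0 = iF q := by decide +kernel

theorem e0_f0_fixed : (∃ w, e0 = iF w) ∧ (∃ w, f0 = iF w) := by decide +kernel

theorem pairs_card : (Finset.univ.filter fun p : Sp 2 × Sp 2 =>
    qd (iF p.1) = 0 ∧ qd (iF p.2) = 0 ∧ alt (iF p.1) (iF p.2) = 1).card = 36 := by decide +kernel

/-- Only trivial products of the rotations agree with a permutation of the two cycles on the plane. -/
theorem rot_trivial : ∀ i j : Fin 3, f1^[i] (f2^[j] e0) = e0 → f1^[i] (f2^[j] f0) = f0 → i = 0 ∧ j = 0 := by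
  decide +kernel

/-- A permutation fixing both cycles is a product of their powers and possibly `(6 7)`. -/
theorem cent_perm (σ : Perm (Fin 8)) (ha : σ * ca.1 = ca.1 * σ) (hb : σ * cb.1 = cb.1 * σ) :
    ∃ i j : Fin 3, σ = ca.1 ^ i.1 * cb.1 ^ j.1 ∨ σ = ca.1 ^ i.1 * cb.1 ^ j.1 * swap 6 7 := by
  have ea : ∀ x, σ (ca.1 x) = ca.1 (σ x) := fun x => congrArg (fun p : Perm (Fin 8) => p x) ha
  have eb : ∀ x, σ (cb.1 x) = cb.1 (σ x) := fun x => congrArg (fun p : Perm (Fin 8) => p x) hb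
  have hA : ∀ x, ca.1 x ≠ x → x = 0 ∨ x = 1 ∨ x = 2 := by decide
  have hB : ∀ x, cb.1 x ≠ x → x = 3 ∨ x = 4 ∨ x = 5 := by decide
  have hR : ∀ x, ca.1 x = x → cb.1 x = x → x = 6 ∨ x = 7 := by decide
  obtain ⟨hv1, hv2, hv4, hv5⟩ : (ca.1 0 = 1 ∧ ca.1 1 = 2 ∧ cb.1 3 = 4 ∧ cb.1 4 = 5) := by decide
  have h0 : σ 0 = 0 ∨ σ 0 = 1 ∨ σ 0 = 2 := hA _ fun h => by
    rw [← ea] at h; exact absurd (σ.injective h) (by decide)
  have h3 : σ 3 = 3 ∨ σ 3 = 4 ∨ σ 3 = 5 := hB _ fun h => by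
    rw [← eb] at h; exact absurd (σ.injective h) (by decide)
  have h6 : σ 6 = 6 ∨ σ 6 = 7 := hR _ (by rw [← ea]; congr 1) (by rw [← eb]; congr 1)
  have h7 : σ 7 = 6 ∨ σ 7 = 7 := hR _ (by rw [← ea]; congr 1) (by rw [← eb]; congr 1)
  have e1 : σ 1 = ca.1 (σ 0) := by rw [← ea, hv1]
  have e2 : σ 2 = ca.1 (ca.1 (σ 0)) := by rw [← e1, ← ea, hv2]
  have e4 : σ 4 = cb.1 (σ 3) := by rw [← eb, hv4]
  have e5 : σ 5 = cb.1 (cb.1 (σ 3)) := by rw [← e4, ← eb, hv5]
  have h67 : σ 6 ≠ σ 7 := σ.injective.ne (by decide)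
  obtain ⟨i, hi⟩ : ∃ i : Fin 3, σ 0 = (ca.1 ^ i.1) 0 := by
    rcases h0 with h | h | h <;> rw [h]
    exacts [⟨0, by decide⟩, ⟨1, by decide⟩, ⟨2, by decide⟩]
  obtain ⟨j, hj⟩ : ∃ j : Fin 3, σ 3 = (cb.1 ^ j.1) 3 := by
    rcases h3 with h | h | h <;> rw [h]
    exacts [⟨0, by decide⟩, ⟨1, by decide⟩, ⟨2, by decide⟩]
  refine ⟨i, j, ?_⟩
  rcases h6 with h | h <;> rcases h7 with h' | h'
  · exact absurd (h.trans h'.symm) h67
  · left; refine Equiv.ext fun x => ?_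
    revert i j
    fin_cases x <;> simp only [Fin.reduceFinMk] <;> intro i hi j hj <;>
      first
        | rw [hi] | rw [hj] | rw [e1, hi] | rw [e2, hi] | rw [e4, hj] | rw [e5, hj] | rw [h] | rw [h']
    all_goals (clear hi hj; revert i j; decide)
  · right; refine Equiv.ext fun x => ?_
    revert i j
    fin_cases x <;> simp only [Fin.reduceFinMk] <;> intro i hi j hj <;>
      first
        | rw [hi] | rw [hj] | rw [e1, hi] | rw [e2, hi] | rw [e4, hj] | rw [e5, hj] | rw [h] | rw [h']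
    all_goals (clear hi hj; revert i j; decide)
  · exact absurd (h.trans h'.symm) h67

end CfsgLib.StructB.CoA9.PNine
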