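import Cfsg.Agent.Lib.StructB.CoA9.PNineRot
import Cfsg.Agent.Lib.U43.HDat

/-!
The group of maps induced by the common centraliser, its order, and the quotient by the two cycles.
-/

set_option autoImplicit false
set_option maxRecDepth 20000
set_option synthInstance.maxSize 2000
set_option Elab.async false

namespace CfsgLib.StructB.CoA9.PNine

open Subgroup CfsgLib.Trans3.ExtraTwo CfsgLib.ClassK.Conway Equiv
open CfsgLib.PLocal.LargeExtra (Pack Pair)

local notation "A8" => alternatingGroup (Fin 8)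

theorem word_inj : ∀ (i j i' j' : Fin 3) (k l k' l' : Fin 2), word i j k l e0 = word i' j' k' l' e0 →
    word i j k l f0 = word i' j' k' l' f0 → i = i' ∧ j = j' ∧ k = k' ∧ l = l' := by
  decide +kernel

theorem comm_FW_FT : Commute FW FT := Equiv.ext fun v => by
  simp only [Perm.mul_apply, FW_apply, FT_apply]
  exact (by decide +kernel : ∀ v : Sp 4, fw (ft v) = ft (fw v)) v

theorem four_qa : U43.allBelow 24 (fun a =>
    (U43.qa a && Nat.beq (U43.mt (U43.mt a a) (U43.mt a a)) 0) ||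
      (!U43.qa a && !Nat.beq (U43.mt (U43.mt a a) (U43.mt a a)) 0)) = true := by decide +kernel

theorem qa_iff {a : ℕ} (ha : a < 24) : U43.qa a = true ↔ U43.el a ^ 4 = 1 := by
  have h4 : U43.el a ^ 4 = U43.el (U43.mt (U43.mt a a) (U43.mt a a)) := by
    rw [show (4 : ℕ) = 2 + 2 by rfl, pow_add, pow_two, (U43.el_mul ha ha).1,
      (U43.el_mul (U43.el_mul ha ha).2 (U43.el_mul ha ha).2).1]
  have h := U43.allBelow_get four_qa ha
  rw [h4, ← U43.el_zero]
  constructor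
  · intro hq
    simp [hq] at h
    rw [h]
  · intro he
    have := U43.el_inj (U43.el_mul (U43.el_mul ha ha).2 (U43.el_mul ha ha).2).2 (by norm_num) he
    simpa [this] using h

/-- The maps induced by the two factors and the cycles. -/
def K0 : Subgroup (Perm (Sp 4)) where
  carrier := {f | ∃ i j : ℕ, ∃ σ ∈ P8, f = F1 ^ i * F2 ^ j * EX σ}
  one_mem' := ⟨0, 0, 1, one_mem _, by simp⟩
  mul_mem' := by
    rintro _ _ ⟨i, j, σ, hσ, rfl⟩ ⟨k, l, τ, hτ, rfl⟩
    obtain ⟨⟨a1, b1⟩, ⟨a2, b2⟩, -⟩ := comm_gen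
    refine ⟨i + k, j + l, σ * τ, mul_mem hσ hτ, ?_⟩
    have c1 : Commute (EX σ) (F1 ^ k * F2 ^ l) :=
      (((comm_P8 a1 b1 hσ).pow_left k).mul_left ((comm_P8 a2 b2 hσ).pow_left l)).symm
    rw [pow_add, pow_add, map_mul, c1.mul_mul_mul_comm,
      (comm_F1_F2.symm.pow_pow j k).mul_mul_mul_comm]
  inv_mem' := by
    rintro _ ⟨i, j, σ, hσ, rfl⟩
    obtain ⟨⟨a1, b1⟩, ⟨a2, b2⟩, -⟩ := comm_gen
    refine ⟨2 * i, 2 * j, σ⁻¹, inv_mem hσ, inv_eq_of_mul_eq_one_right ?_⟩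
    have c1 : Commute (EX σ) (F1 ^ (2 * i) * F2 ^ (2 * j)) :=
      (((comm_P8 a1 b1 hσ).pow_left _).mul_left ((comm_P8 a2 b2 hσ).pow_left _)).symm
    rw [c1.mul_mul_mul_comm, (comm_F1_F2.symm.pow_pow j (2 * i)).mul_mul_mul_comm, ← pow_add, ← pow_add,
      map_inv, mul_inv_cancel, mul_one, show i + 2 * i = 3 * i by ring, show j + 2 * j = 3 * j by ring,
      pow_mul, pow_mul, pr_one.cube, pr_two.cube, one_pow, one_pow, mul_one]

theorem F1_mem : F1 ∈ K0 := ⟨1, 0, 1, one_mem _, by simp⟩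

theorem F2_mem : F2 ∈ K0 := ⟨0, 1, 1, one_mem _, by simp⟩

theorem EX_mem {σ : A8} (h : σ ∈ P8) : EX σ ∈ K0 := ⟨0, 0, σ, h, by simp⟩

/-- Normalising the group of maps. -/
def NK (f : Perm (Sp 4)) : Prop := ∀ x ∈ K0, f * x * f⁻¹ ∈ K0

theorem NK.mul {f g : Perm (Sp 4)} (hf : NK f) (hg : NK g) : NK (f * g) := fun x hx => by
  rw [show f * g * x * (f * g)⁻¹ = f * (g * x * g⁻¹) * f⁻¹ by group]
  exact hf _ (hg x hx)

theorem NK.pow {f : Perm (Sp 4)} (hf : NK f) : ∀ n : ℕ, NK (f ^ n)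
  | 0 => fun x hx => by simpa using hx
  | n + 1 => by rw [pow_succ]; exact (NK.pow hf n).mul hf

theorem NK.of_mem {f : Perm (Sp 4)} (hf : f ∈ K0) : NK f := fun _ hx =>
  mul_mem (mul_mem hf hx) (inv_mem hf)

theorem NK.of_gens {f : Perm (Sp 4)} (h1 : f * F1 * f⁻¹ ∈ K0) (h2 : f * F2 * f⁻¹ ∈ K0)
    (ha : Commute f (EX ca)) (hb : Commute f (EX cb)) : NK f := by
  rintro _ ⟨i, j, σ, hσ, rfl⟩
  rw [← conj_mul, ← conj_mul, ← conj_pow, ← conj_pow, (comm_P8 ha hb hσ).eq, mul_inv_cancel_right]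
  exact mul_mem (mul_mem (pow_mem h1 i) (pow_mem h2 j)) (EX_mem hσ)

theorem NK_FW : NK FW := by
  refine NK.of_gens ?_ ?_ comm_gen.2.2.1.1 comm_gen.2.2.1.2
  · rw [show FW * F1 = F1 * F1 * FW from Equiv.ext fun v => by
      simp only [Perm.mul_apply, FW_apply, FT_apply, F1_apply, F2_apply]; exact (gen_rel v).2.2.1,
      mul_inv_cancel_right]
    exact mul_mem F1_mem F1_mem
  · rw [show FW * F2 = F2 * F2 * FW from Equiv.ext fun v => by
      simp only [Perm.mul_apply, FW_apply, FT_apply, F1_apply, F2_apply]; exact (gen_rel v).2.2.2.1,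
      mul_inv_cancel_right]
    exact mul_mem F2_mem F2_mem

theorem NK_FT : NK FT := by
  refine NK.of_gens ?_ ?_ comm_gen.2.2.2.1 comm_gen.2.2.2.2
  · rw [show FT * F1 = F2 * FT from Equiv.ext fun v => by
      simp only [Perm.mul_apply, FW_apply, FT_apply, F1_apply, F2_apply]; exact (gen_rel v).2.2.2.2.1,
      mul_inv_cancel_right]
    exact F2_mem
  · rw [show FT * F2 = F1 * FT from Equiv.ext fun v => by
      simp only [Perm.mul_apply, FW_apply, FT_apply, F1_apply, F2_apply]; exact (gen_rel v).2.2.2.2.2.1,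
      mul_inv_cancel_right]
    exact F1_mem

universe u

variable {G : Type u} [Group G] [Finite G] {z : G} {Q : Subgroup G} {e : ↥Q ≃* ES 4 (ff 4)} {ρ : G}
variable (T : Tri z Q e ρ)
include T

theorem act_image_nk (m : ↥(MM T)) :
    NK (actHom T m) ∧ ∃ k1 ∈ K0, ∃ k l : ℕ, actHom T m = k1 * (FW ^ k * FT ^ l) := by
  obtain ⟨i, j, k, l, σ, hσ, hm⟩ := act_cases T m
  obtain ⟨-, -, ⟨aw, bw⟩, at', bt⟩ := comm_gen
  refine ⟨?_, F1 ^ i.1 * F2 ^ j.1 * EX σ, ⟨i, j, σ, hσ, rfl⟩, k, l, ?_⟩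
  · rw [hm]
    exact ((((NK.of_mem F1_mem).pow _).mul ((NK.of_mem F2_mem).pow _)).mul (NK_FW.pow _)).mul (NK_FT.pow _)
      |>.mul (NK.of_mem (EX_mem hσ))
  · rw [hm, wordP, mul_assoc (F1 ^ i.1 * F2 ^ j.1) _ (FT ^ l.1), mul_assoc, mul_assoc _ (EX σ),
      ((((comm_P8 aw bw hσ).pow_left k.1).mul_left ((comm_P8 at' bt hσ).pow_left l.1))).eq]

theorem card_MM : Nat.card ↥(MM T) = 10368 := by
  rw [card_eq_card_quotient_mul_card_subgroup (actHom T).ker,
    Nat.card_congr (QuotientGroup.quotientKerEquivRange (actHom T)).toEquiv]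
  have hr : Nat.card ↥(actHom T).range = 324 := by
    rw [← Nat.card_congr (Equiv.ofBijective
      (fun p : (Fin 3 × Fin 3) × (Fin 2 × Fin 2) × (Fin 3 × Fin 3) =>
        (⟨wordP p.1.1 p.1.2 p.2.1.1 p.2.1.2 * EX (ca ^ p.2.2.1.1 * cb ^ p.2.2.2.1),
          mul_mem (wordP_mem T _ _ _ _) ⟨⟨lam T _, PP_le_MM T ⟨_, ⟨_, _, rfl⟩, rfl⟩⟩, actHom_lam T _⟩⟩ :
          ↥(actHom T).range)) ⟨?_, ?_⟩)]
    · simp only [Nat.card_prod, Nat.card_fin]
    · rintro ⟨⟨i, j⟩, ⟨k, l⟩, a, b⟩ ⟨⟨i', j'⟩, ⟨k', l'⟩, a', b'⟩ h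
      have h' : wordP i j k l * EX (ca ^ a.1 * cb ^ b.1) = wordP i' j' k' l' * EX (ca ^ a'.1 * cb ^ b'.1) :=
        congrArg Subtype.val h
      have hev : ∀ v, (∀ σ : Perm (Fin 8), extP σ v = v) → word i j k l v = word i' j' k' l' v := fun v hv => by
        have := congrArg (fun f : Perm (Sp 4) => f v) h'
        simpa only [Perm.mul_apply, EX_apply, hv, wordP_apply] using this
      obtain ⟨rfl, rfl, rfl, rfl⟩ := word_inj i j i' j' k l k' l' (hev e0 fun σ => (extP_plane σ).1)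
        (hev f0 fun σ => (extP_plane σ).2)
      obtain ⟨rfl, rfl⟩ := P8_facts.2.2 a b a' b' (EX_injective (mul_left_cancel h'))
      rfl
    · rintro ⟨_, m, rfl⟩
      obtain ⟨i, j, k, l, σ, ⟨a, b, rfl⟩, hm⟩ := act_cases T m
      exact ⟨((i, j), (k, l), a, b), Subtype.ext hm.symm⟩
  have hk : Nat.card ↥(actHom T).ker = 32 := by
    rw [← Nat.card_congr (Equiv.ofBijective
      (fun p : Sp 2 × ZMod 2 => (⟨⟨el e (iF p.1) p.2, el_iF_mem T p.1 p.2⟩,
        (actHom_eq_one T).2 (Setup.el_mem _ _)⟩ : ↥(actHom T).ker)) ⟨?_, ?_⟩)]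
    · simp [Nat.card_prod, Nat.card_eq_fintype_card, Sp, P2]
    · intro p p' h
      obtain ⟨h1, h2⟩ := Setup.el_inj (e := e)
        (congrArg (fun x : ↥(actHom T).ker => ((x : ↥(MM T)) : G)) h)
      refine Prod.ext ((by decide +kernel : ∀ v w : Sp 2, iF v = iF w → v = w) _ _ h1) h2
    · rintro ⟨⟨m, hm⟩, hmk⟩
      obtain ⟨w, k, rfl⟩ := QH_cases T hm ((actHom_eq_one T).1 hmk)
      exact ⟨(w, k), rfl⟩
  rw [hr, hk]

theorem card_PP : Nat.card ↥(PP T) = 9 := by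
  rw [PP, card_map_of_injective (lam_injective T),
    ← Nat.card_congr (Equiv.ofBijective
      (fun p : Fin 3 × Fin 3 => (⟨ca ^ p.1.1 * cb ^ p.2.1, p.1, p.2, rfl⟩ : ↥P8)) ⟨?_, ?_⟩)]
  · simp only [Nat.card_prod, Nat.card_fin]
  · rintro ⟨a, b⟩ ⟨a', b'⟩ h
    obtain ⟨rfl, rfl⟩ := P8_facts.2.2 a b a' b' (congrArg Subtype.val h)
    rfl
  · rintro ⟨_, a, b, rfl⟩
    exact ⟨(a, b), rfl⟩

omit T [Finite G] in
theorem pow_three_four {p : G} (h3 : p ^ 3 = 1) (h4 : p ^ 4 = 1) : p = 1 := by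
  rwa [pow_succ, h3, one_mul] at h4

/-- The intersection of two conjugates of `Q` with centres in one another. -/
theorem inter_four {n x : G} (ht : n * z * n⁻¹ ∈ Q) (hne : n * z * n⁻¹ ≠ z) (hx : x ∈ Q)
    (hxn : n⁻¹ * x * n ∈ Q) :
    x = 1 ∨ x = z ∨ x = n * z * n⁻¹ ∨ x = z * (n * z * n⁻¹) := by
  have S := T.setup
  obtain ⟨hxQ, hxx, hx1, hxz, -⟩ := S.xe_facts
  have k := S.pack.map n
  obtain ⟨c, hc, hce⟩ := S.isConj_H hxQ hxx hx1 hxz ht k.z_mul_z k.z_ne hne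
  have hcz : c * z = z * c := mem_centralizer_singleton_iff.1 hc
  have hmap : Q.map (MulAut.conj n).toMonoidHom = Q.map (MulAut.conj (c * ρ)).toMonoidHom :=
    S.pack.map_eq_of_eq (by
      rw [← hce, ← T.rho_z]; group)
  obtain ⟨y, hy, hyx⟩ : x ∈ Q.map (MulAut.conj (c * ρ)).toMonoidHom :=
    hmap ▸ ⟨n⁻¹ * x * n, hxn, by simp [mul_assoc]⟩
  have hyx' : c * ρ * y * (c * ρ)⁻¹ = x := hyx
  set w := c⁻¹ * x * c with hw
  have hwQ : w ∈ Q := by
    have := S.conj_mem (inv_mem hc) hx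
    rwa [inv_inv] at this
  have hwR : w ∈ Q.map (MulAut.conj ρ).toMonoidHom := ⟨y, hy, by
    show ρ * y * ρ⁻¹ = w
    rw [hw, ← hyx']; group⟩
  have hwx : w * xe e = xe e * w := T.pair.right.comm_z hwR
  obtain ⟨v, l, hv⟩ := Setup.exists_el (e := e) hwQ
  rw [hv, xe, S.el_comm, mul_eq_right, ← Setup.el_zero (e := e)] at hwx
  obtain ⟨s, t, b, hd, htd, -⟩ := decomp v
  rw [(Setup.el_inj hwx).2] at htd
  subst htd
  rw [zero_smul, add_zero] at hd
  have hs : el e (s • e0) 0 ∈ Q.map (MulAut.conj ρ).toMonoidHom := by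
    rcases z2_cases s with rfl | rfl
    · rw [zero_smul, Setup.el_zero]; exact one_mem _
    · rw [one_smul]; exact (T.four_mem).2
  have hb := mul_mem hwR hs
  rw [hv, Setup.el_mul, hd, add_comm (s • e0) (up b), add_assoc, sp_add_self, add_zero] at hb
  obtain rfl := T.eq_zero_of_mem hb
  rw [up_zero, add_zero] at hd
  subst hd
  have hxw : x = c * w * c⁻¹ := by rw [hw]; group
  have hct : c * xe e * c⁻¹ = n * z * n⁻¹ := hce
  have hcz' : c * z * c⁻¹ = z := mul_inv_eq_iff_eq_mul.2 hcz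
  rcases z2_cases s with rfl | rfl <;> rcases z2_cases l with rfl | rfl
  · rw [zero_smul, Setup.el_zero] at hv
    left; rw [hxw, hv]; group
  · rw [zero_smul, S.el_one] at hv
    right; left; rw [hxw, hv, hcz']
  · rw [one_smul] at hv
    right; right; left; rw [hxw, hv]; exact hct
  · rw [one_smul, show (1 : ZMod 2) = 0 + 1 by rw [zero_add], S.el_add_one] at hv
    right; right; right
    rw [hxw, hv, ← conj_mul, show c * el e e0 0 * c⁻¹ = n * z * n⁻¹ from hct, hcz']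
    exact S.pack.comm_z ht

/-! ### The quotient -/

omit T in
/-- The two cycles inside their centraliser. -/
noncomputable abbrev PN (T : Tri z Q e ρ) : Subgroup ↥(HH T) := (PP T).subgroupOf (HH T)

instance PN_normal : (PN T).Normal :=
  ⟨fun n hn g => by
    rw [mem_subgroupOf] at hn ⊢
    show (g : G) * (n : G) * (g : G)⁻¹ ∈ PP T
    rw [(HH_comm_PP T g.2 hn).eq, mul_inv_cancel_right]
    exact hn⟩

omit T in
/-- The centraliser modulo the two cycles. -/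
abbrev QT9 (T : Tri z Q e ρ) : Type u := ↥(HH T) ⧸ PN T

/-- The quotient map. -/
noncomputable def piH : ↥(HH T) →* QT9 T := QuotientGroup.mk' _

/-- The quotient map on the centraliser of `z`. -/
noncomputable def piM : ↥(MM T) →* QT9 T := (piH T).comp (inclusion inf_le_left)

/-- The image of `z`. -/
noncomputable def zq : QT9 T := piM T ⟨z, z_mem_MM T⟩

theorem piM_apply (m : ↥(MM T)) : piM T m = piH T ⟨m, m.2.1⟩ := rfl

theorem piM_eq_one {m : ↥(MM T)} : piM T m = 1 ↔ (m : G) ∈ PP T :=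
  (QuotientGroup.eq_one_iff (⟨(m : G), m.2.1⟩ : ↥(HH T))).trans mem_subgroupOf

theorem piH_sep {a b : ↥(HH T)} (ha : (a : G) ^ 4 = 1) (hb : (b : G) ^ 4 = 1)
    (h : piH T a = piH T b) : (a : G) = b := by
  have hp : (a : G)⁻¹ * b ∈ PP T := mem_subgroupOf.1 (QuotientGroup.eq.1 h)
  have hb' : (b : G) = a * ((a : G)⁻¹ * b) := (mul_inv_cancel_left _ _).symm
  rw [hb', (HH_comm_PP T a.2 hp).mul_pow, ha, one_mul] at hb
  rw [hb', pow_three_four (PP_pow T hp) hb, mul_one]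

theorem z_pow_four : z ^ 4 = 1 := pow_four_Q T T.setup.pack.mem

theorem orderOf_zq : orderOf (zq T) = 2 := by
  haveI : Fact (Nat.Prime 2) := ⟨Nat.prime_two⟩
  refine orderOf_eq_prime ?_ fun h => ?_
  · rw [zq, ← map_pow, show (⟨z, z_mem_MM T⟩ : ↥(MM T)) ^ 2 = 1 from Subtype.ext (by
      rw [pow_two]; exact T.setup.pack.z_mul_z), map_one]
  · exact T.setup.pack.z_ne (pow_three_four (PP_pow T ((piM_eq_one T).1 h)) (z_pow_four T))

theorem piM_comm (m : ↥(MM T)) : piM T m * zq T = zq T * piM T m := by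
  rw [zq, ← map_mul, ← map_mul]
  exact congrArg (piM T) (Subtype.ext ((mem_MM T).1 m.2).2)

theorem exists_lift_zq (x : QT9 T) (hx : x * zq T = zq T * x) : ∃ m, piM T m = x := by
  obtain ⟨⟨h, hh⟩, rfl⟩ := QuotientGroup.mk'_surjective _ x
  change piH T ⟨h, hh⟩ * zq T = zq T * piH T ⟨h, hh⟩ at hx
  have e1 : piH T (⟨h, hh⟩ * ⟨z, (z_mem_MM T).1⟩ * ⟨h, hh⟩⁻¹) = piH T ⟨z, (z_mem_MM T).1⟩ := by
    rw [map_mul, map_mul, map_inv, mul_inv_eq_iff_eq_mul]
    exact hx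
  have e2 : h * z * h⁻¹ = z := piH_sep T (by
    show (h * z * h⁻¹) ^ 4 = 1
    rw [conj_pow, z_pow_four T]; group) (z_pow_four T) e1
  exact ⟨⟨h, (mem_MM T).2 ⟨hh, mul_inv_eq_iff_eq_mul.1 e2⟩⟩, rfl⟩

theorem card_cent_zq : Nat.card ↥(centralizer ({zq T} : Set (QT9 T))) = 1152 := by
  let f : ↥(MM T) →* ↥(centralizer ({zq T} : Set (QT9 T))) :=
    (piM T).codRestrict _ fun m => mem_centralizer_singleton_iff.2 (piM_comm T m)
  have hsur : Function.Surjective f := fun x => by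
    obtain ⟨m, hm⟩ := exists_lift_zq T x.1 (mem_centralizer_singleton_iff.1 x.2)
    exact ⟨m, Subtype.ext hm⟩
  have hker : f.ker = (PP T).subgroupOf (MM T) := by
    ext m
    rw [MonoidHom.mem_ker, mem_subgroupOf, ← piM_eq_one T, ← Subtype.coe_inj]
    rfl
  have h := card_eq_card_quotient_mul_card_subgroup f.ker
  rw [Nat.card_congr (QuotientGroup.quotientKerEquivOfSurjective f hsur).toEquiv, hker,
    Nat.card_congr (subgroupOfEquivOfLe (PP_le_MM T)).toEquiv, card_PP T, card_MM T] at h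
  omega

end CfsgLib.StructB.CoA9.PNine
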