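import Cfsg.Agent.Lib.StructB.CoA9.PNineCent
import Cfsg.Agent.Lib.StructC.HuppertRegular

/-!
The two commuting factors isomorphic to `SL(2,3)` in the common centraliser.
-/

set_option autoImplicit false
set_option maxRecDepth 20000
set_option synthInstance.maxSize 2000
set_option Elab.async false

namespace CfsgLib.StructB.CoA9.PNine

open Subgroup CfsgLib.Trans3.ExtraTwo CfsgLib.ClassK.Conway Equiv

/-- An anisotropic plane of the fixed space with a rotation of order three. -/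
structure PR (a b : Sp 4) (F : Perm (Sp 4)) : Prop where
  add : ∀ v w : P2, plane a b (v + w) = plane a b v + plane a b w
  aniso : ∀ v : P2, qd (plane a b v) = 0 → v = 0
  fixd : ∀ v : P2, ∃ u, plane a b v = iF u
  maps : ∀ w : P2, ∃ w', F (plane a b w) = plane a b w'
  move : F a ≠ a
  cube : F ^ 3 = 1
  hab : alt a b = 1

theorem pr_one : PR x1 x2 F1 where
  add := plane_basic.1
  aniso v := (plane_basic.2.2.1 v).1
  fixd v := (plane_basic.2.2.2.2.1 v).1
  maps w := by simp only [F1_apply]; exact (plane_facts.2.1 w).1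
  move := by rw [F1_apply]; exact plane_facts.2.2.1
  cube := Equiv.ext fun v => by
    rw [pow_succ, pow_two]
    simp only [Perm.mul_apply, F1_apply, Perm.one_apply]
    exact (gen_rel v).1
  hab := plane_basic.2.2.2.2.2.2.2.1

theorem pr_two : PR y1 y2 F2 where
  add := plane_basic.2.1
  aniso v := (plane_basic.2.2.1 v).2.1
  fixd v := (plane_basic.2.2.2.2.1 v).2
  maps w := by simp only [F2_apply]; exact (plane_facts.2.1 w).2
  move := by rw [F2_apply]; exact plane_facts.2.2.2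
  cube := Equiv.ext fun v => by
    rw [pow_succ, pow_two]
    simp only [Perm.mul_apply, F2_apply, Perm.one_apply]
    exact (gen_rel v).2.1
  hab := plane_basic.2.2.2.2.2.2.2.2

universe u

variable {G : Type u} [Group G] [Finite G] {z : G} {Q : Subgroup G} {e : ↥Q ≃* ES 4 (ff 4)} {ρ : G}
variable (T : Tri z Q e ρ) {a b a' b' : Sp 4} {F F' : Perm (Sp 4)}

omit [Finite G] in
/-- A lift of order three of a rotation. -/
structure IsLift (F : Perm (Sp 4)) (r : G) : Prop where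
  mem : r ∈ MM T
  cube : r ^ 3 = 1
  act : ∀ v, ClassK.Conway.act e r v = F v

include T

theorem pow_four_Q {g : G} (hg : g ∈ Q) : g ^ 4 = 1 := by
  rw [show (4 : ℕ) = 2 + 2 by rfl, pow_add, pow_two]
  rcases T.setup.pack.sq_cases hg with h | h <;> rw [h]
  · rw [one_mul]
  · exact T.setup.pack.z_mul_z

theorem exists_lift (hF : F ∈ (actHom T).range) (h3 : F ^ 3 = 1) : ∃ r, IsLift T F r := by
  obtain ⟨m, hm⟩ := hF
  have h1 : ((m ^ 3 : ↥(MM T)) : G) ∈ Q := (actHom_eq_one T).1 (by rw [map_pow, hm, h3])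
  refine ⟨((m ^ 4 : ↥(MM T)) : G), (m ^ 4).2, ?_, fun v => ?_⟩
  · rw [← SubmonoidClass.coe_pow, ← pow_mul, show 4 * 3 = 3 * 4 by rfl, pow_mul, SubmonoidClass.coe_pow]
    exact pow_four_Q T h1
  · rw [← actHom_apply, map_pow, hm, pow_succ F 3, h3, one_mul]

namespace IsLift

variable {r : G} (L : IsLift T F r)
include L

theorem act_pow (n : ℕ) (v : Sp 4) : ClassK.Conway.act e (r ^ n) v = (F ^ n) v := by
  induction n generalizing v with
  | zero => rw [pow_zero, pow_zero, T.setup.act_one]; rfl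
  | succ n ih =>
    rw [pow_succ, pow_succ, T.setup.act_mul (pow_mem L.mem n).2 L.mem.2, ih, L.act]; rfl

theorem comm_el {w : Sp 4} (h : F w = w) (k : ZMod 2) : Commute r (el e w k) :=
  comm_of_fix T L.mem.2 (m := 1) L.cube (by rw [L.act, h]) k

end IsLift

variable (R : PR a b F) {r : G}
include R

omit T [Finite G] in
theorem PR.zero : plane a b (0 : P2) = 0 := by
  simp [plane]

omit T [Finite G] in
theorem PR.inj {v w : P2} (h : plane a b v = plane a b w) : v = w := by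
  have h0 := R.aniso (v + w) (by
    rw [R.add, h, sp_add_self, qd_zero])
  exact (by decide : ∀ v w : P2, v + w = 0 → v = w) v w h0

omit T [Finite G] in
theorem PR.iterate (n : ℕ) : ∀ w : P2, ∃ w', (F ^ n) (plane a b w) = plane a b w' := by
  induction n with
  | zero => exact fun w => ⟨w, rfl⟩
  | succ n ih =>
    intro w
    obtain ⟨w', hw'⟩ := R.maps w
    obtain ⟨w'', hw''⟩ := ih w'
    exact ⟨w'', by rw [pow_succ, Perm.mul_apply, hw', hw'']⟩

omit T [Finite G] in
theorem PR.pow_eq {n m : ℕ} (h : F ^ n = F ^ m) : n % 3 = m % 3 := by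
  have ho : orderOf F = 3 := by
    haveI : Fact (Nat.Prime 3) := ⟨Nat.prime_three⟩
    exact orderOf_eq_prime R.cube fun h1 => R.move (by rw [h1]; rfl)
  have := pow_eq_pow_iff_modEq.1 h
  rwa [ho] at this

omit T in
/-- The quaternion subgroup of a plane. -/
noncomputable def OS (T : Tri z Q e ρ) (R : PR a b F) : Subgroup G where
  carrier := {g | ∃ (u : P2) (k : ZMod 2), g = el e (plane a b u) k}
  one_mem' := ⟨0, 0, by rw [R.zero, Setup.el_zero]⟩
  mul_mem' := by
    rintro _ _ ⟨u, k, rfl⟩ ⟨v, l, rfl⟩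
    exact ⟨u + v, k + l + beta (ff 4) (plane a b u) (plane a b v), by rw [Setup.el_mul, R.add]⟩
  inv_mem' := by
    rintro _ ⟨u, k, rfl⟩
    refine ⟨u, k + qd (plane a b u), inv_eq_of_mul_eq_one_right ?_⟩
    rw [Setup.el_mul, sp_add_self, ← Setup.el_zero (e := e)]
    congr 1
    exact (by decide : ∀ k q : ZMod 2, k + (k + q) + q = 0) _ _

theorem OS_le : OS T R ≤ MM T := by
  rintro _ ⟨u, k, rfl⟩
  obtain ⟨w, hw⟩ := R.fixd u
  rw [hw]
  exact el_iF_mem T w k

theorem OS_le_Q : OS T R ≤ Q := by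
  rintro _ ⟨u, k, rfl⟩
  exact Setup.el_mem _ _

theorem OS_norm {r : G} (L : IsLift T F r) (n : ℕ) {g : G} (hg : g ∈ OS T R) :
    r ^ n * g * (r ^ n)⁻¹ ∈ OS T R := by
  obtain ⟨u, k, rfl⟩ := hg
  obtain ⟨k', hk⟩ := T.setup.conj_el (pow_mem L.mem n).2 (plane a b u) k
  obtain ⟨w', hw'⟩ := R.iterate n u
  exact ⟨w', k', by rw [hk, L.act_pow T, hw']⟩

/-- The factor: the quaternion group extended by the rotation. -/
noncomputable def HS (T : Tri z Q e ρ) (R : PR a b F) (L : IsLift T F r) : Subgroup G where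
  carrier := {g | ∃ q ∈ OS T R, ∃ n : ℕ, g = q * r ^ n}
  one_mem' := ⟨1, one_mem _, 0, by simp⟩
  mul_mem' := by
    rintro _ _ ⟨q, hq, n, rfl⟩ ⟨p, hp, m, rfl⟩
    exact ⟨q * (r ^ n * p * (r ^ n)⁻¹), mul_mem hq (OS_norm T R L n hp), n + m, by
      rw [pow_add]; group⟩
  inv_mem' := by
    rintro _ ⟨q, hq, n, rfl⟩
    refine ⟨r ^ (2 * n) * q⁻¹ * (r ^ (2 * n))⁻¹, OS_norm T R L _ (inv_mem hq), 2 * n, ?_⟩
    have : (r ^ n)⁻¹ = r ^ (2 * n) := inv_eq_of_mul_eq_one_right (by
      rw [← pow_add, show n + 2 * n = 3 * n by ring, pow_mul, L.cube, one_pow])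
    rw [mul_inv_rev, this, inv_mul_cancel_right]

variable (L : IsLift T F r)
include L

theorem HS_le : HS T R L ≤ MM T := by
  rintro _ ⟨q, hq, n, rfl⟩
  exact mul_mem (OS_le T R hq) (pow_mem L.mem n)

theorem OS_le_HS : OS T R ≤ HS T R L := fun q hq => ⟨q, hq, 0, by simp⟩

theorem r_mem_HS : r ∈ HS T R L := ⟨1, one_mem _, 1, by simp⟩

theorem HS_act {q : G} (hq : q ∈ OS T R) (n : ℕ) (v : Sp 4) :
    act e (q * r ^ n) v = (F ^ n) v := by
  rw [T.setup.act_mul (OS_le T R hq).2 (pow_mem L.mem n).2, T.setup.act_mem (OS_le_Q T R hq),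
    L.act_pow T]

theorem HS_mem_Q {g : G} (hg : g ∈ HS T R L) (hQ : g ∈ Q) : g ∈ OS T R := by
  obtain ⟨q, hq, n, rfl⟩ := hg
  have h : F ^ n = F ^ 0 := Equiv.ext fun v => by
    rw [← HS_act T R L hq n v, T.setup.act_mem hQ, pow_zero]; rfl
  have h0 := R.pow_eq h
  rw [← Nat.div_add_mod n 3, h0, show (0 : ℕ) % 3 = 0 by rfl, add_zero, pow_mul, L.cube, one_pow,
    mul_one]
  exact hq

omit L in
theorem OS_invol {g : G} (hg : g ∈ OS T R) (h2 : g * g = 1) : g = 1 ∨ g = z := by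
  obtain ⟨u, k, rfl⟩ := hg
  rw [T.setup.el_sq, ← Setup.el_zero (e := e)] at h2
  rw [R.aniso u (Setup.el_inj h2).2, R.zero]
  rcases z2_cases k with rfl | rfl
  · exact Or.inl Setup.el_zero
  · exact Or.inr T.setup.el_one

theorem HS_invol {g : G} (hg : g ∈ HS T R L) (h2 : g * g = 1) : g = 1 ∨ g = z := by
  refine OS_invol T R ?_ h2
  obtain ⟨q, hq, n, rfl⟩ := hg
  have h : F ^ (n + n) = F ^ 0 := Equiv.ext fun v => by
    rw [pow_add, Perm.mul_apply, ← HS_act T R L hq n ((F ^ n) v), ← HS_act T R L hq n v,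
      ← T.setup.act_mul (HS_le T R L ⟨q, hq, n, rfl⟩).2 (HS_le T R L ⟨q, hq, n, rfl⟩).2, h2,
      T.setup.act_one, pow_zero]
    rfl
  have h0 := R.pow_eq h
  have : n = 3 * (n / 3) := by omega
  rw [this, pow_mul, L.cube, one_pow, mul_one]
  exact hq

omit L in
theorem z_mem_OS : z ∈ OS T R := ⟨0, 1, by rw [R.zero, T.setup.el_one]⟩

omit L in
theorem card_OS : Nat.card ↥(OS T R) = 8 := by
  rw [← Nat.card_congr (Equiv.ofBijective
    (fun p : P2 × ZMod 2 => (⟨el e (plane a b p.1) p.2, p.1, p.2, rfl⟩ : ↥(OS T R))) ⟨?_, ?_⟩)]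
  · simp [Nat.card_prod, Nat.card_eq_fintype_card]
  · intro p p' h
    have h' : el e (plane a b p.1) p.2 = el e (plane a b p'.1) p'.2 :=
      congrArg (fun x : ↥(OS T R) => (x : G)) h
    obtain ⟨h1, h2⟩ := Setup.el_inj (e := e) h'
    exact Prod.ext (R.inj h1) h2
  · rintro ⟨_, u, k, rfl⟩
    exact ⟨(u, k), rfl⟩

theorem card_HS : Nat.card ↥(HS T R L) = 24 := by
  rw [← Nat.card_congr (Equiv.ofBijective
    (fun p : ↥(OS T R) × Fin 3 => (⟨p.1 * r ^ p.2.1, p.1, p.1.2, p.2.1, rfl⟩ : ↥(HS T R L))) ⟨?_, ?_⟩)]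
  · rw [Nat.card_prod, card_OS T R, Nat.card_fin]
  · rintro ⟨q, i⟩ ⟨q', j⟩ h
    have h' : (q : G) * r ^ i.1 = q' * r ^ j.1 := congrArg Subtype.val h
    have hij : F ^ i.1 = F ^ j.1 := Equiv.ext fun v => by
      rw [← HS_act T R L q.2 i.1 v, ← HS_act T R L q'.2 j.1 v, h']
    have := R.pow_eq hij
    rw [Nat.mod_eq_of_lt i.2, Nat.mod_eq_of_lt j.2] at this
    obtain rfl := Fin.ext this
    exact Prod.ext (Subtype.ext (mul_right_cancel h')) rfl
  · rintro ⟨_, q, hq, n, rfl⟩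
    refine ⟨(⟨q, hq⟩, ⟨n % 3, Nat.mod_lt _ (by norm_num)⟩), Subtype.ext ?_⟩
    show q * r ^ (n % 3) = q * r ^ n
    conv_rhs => rw [← Nat.mod_add_div n 3, pow_add, pow_mul, L.cube, one_pow, mul_one]

theorem HS_sl : Nonempty (↥(HS T R L) ≃* Matrix.SpecialLinearGroup (Fin 2) (ZMod 3)) := by
  haveI : Fact (Nat.Prime 2) := ⟨Nat.prime_two⟩
  haveI : Fact (Nat.Prime 3) := ⟨Nat.prime_three⟩
  set N := (OS T R).subgroupOf (HS T R L)
  haveI : N.Normal := ⟨fun n hn g => by
    rw [mem_subgroupOf] at hn ⊢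
    obtain ⟨q, hq, m, hm⟩ := g.2
    show (g : G) * (n : G) * (g : G)⁻¹ ∈ OS T R
    rw [hm, show q * r ^ m * (n : G) * (q * r ^ m)⁻¹ = q * (r ^ m * (n : G) * (r ^ m)⁻¹) * q⁻¹ by group]
    exact mul_mem (mul_mem hq (OS_norm T R L m hn)) (inv_mem hq)⟩
  have hu : ∀ x : ↥(HS T R L), orderOf x = 2 → (x : G) = z := fun x hx => by
    have h2 : (x : G) * x = 1 := by
      rw [← pow_two, ← SubmonoidClass.coe_pow, ← hx, pow_orderOf_eq_one]; rfl
    refine (HS_invol T R L x.2 h2).resolve_left fun h => ?_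
    rw [show x = 1 from Subtype.ext h, orderOf_one] at hx
    omega
  have ha : ∀ k, el e a k ∈ OS T R := fun k => ⟨(1, 0), k, by simp [plane]⟩
  have hb : el e b 0 ∈ OS T R := ⟨(0, 1), 0, by simp [plane]⟩
  refine CfsgLib.StructC.Huppert.sl23_of_order_24 (card_HS T R L)
    (fun x y hx hy => Subtype.ext ((hu x hx).trans (hu y hy).symm)) N
    (by rw [Nat.card_congr (subgroupOfEquivOfLe (OS_le_HS T R L)).toEquiv, card_OS T R])
    (fun hc => ?_) ⟨r, r_mem_HS T R L⟩ ?_ ⟨⟨el e a 0, OS_le_HS T R L (ha 0)⟩, mem_subgroupOf.2 (ha 0), ?_⟩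
  · have h := congrArg (fun x : ↥N => ((x : ↥(HS T R L)) : G))
      (hc.is_comm.comm ⟨⟨el e a 0, OS_le_HS T R L (ha 0)⟩, mem_subgroupOf.2 (ha 0)⟩
        ⟨⟨el e b 0, OS_le_HS T R L hb⟩, mem_subgroupOf.2 hb⟩)
    change el e a 0 * el e b 0 = el e b 0 * el e a 0 at h
    rw [T.setup.el_comm a b, R.hab, T.setup.el_one] at h
    exact T.setup.pack.z_ne (mul_eq_right.1 h)
  · refine (Subgroup.orderOf_mk r _).trans (orderOf_eq_prime L.cube fun h => R.move ?_)
    rw [← L.act, h, T.setup.act_one]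
  · intro h
    have h' : r * el e a 0 = el e a 0 * r := congrArg Subtype.val h
    exact R.move (by
      rw [← L.act]
      exact T.setup.act_eq L.mem.2 (k := 0) (k' := 0) (mul_inv_eq_iff_eq_mul.2 h'))

omit L in
theorem OS_comm (R' : PR a' b' F') (hab : ∀ v w, alt (plane a b v) (plane a' b' w) = 0) {g h : G}
    (hg : g ∈ OS T R) (hh : h ∈ OS T R') : Commute g h := by
  obtain ⟨u, k, rfl⟩ := hg
  obtain ⟨v, l, rfl⟩ := hh
  rw [commute_iff_eq, T.setup.el_comm, hab, Setup.el_zero, one_mul]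

/-- Two factors on orthogonal planes commute. -/
theorem HS_comm (R' : PR a' b' F') {r' : G} (L' : IsLift T F' r')
    (hab : ∀ v w, alt (plane a b v) (plane a' b' w) = 0)
    (hfix : ∀ w, F (plane a' b' w) = plane a' b' w) (hfix' : ∀ w, F' (plane a b w) = plane a b w)
    (hFF : Commute F F') (hsum : ∀ w, ∃ u v : P2, iF w = plane a b u + plane a' b' v)
    {g h : G} (hg : g ∈ HS T R L) (hh : h ∈ HS T R' L') : Commute g h := by
  have S := T.setup
  have c1 : ∀ q ∈ OS T R', Commute r q := by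
    rintro _ ⟨v, k, rfl⟩; exact L.comm_el T (hfix v) k
  have c2 : ∀ q ∈ OS T R, Commute r' q := by
    rintro _ ⟨v, k, rfl⟩; exact L'.comm_el T (hfix' v) k
  have hrr : Commute r r' := by
    set s := r * r' * r⁻¹ with hs
    set d := s * r'⁻¹ with hd
    have hdM : d ∈ MM T := mul_mem (mul_mem (mul_mem L.mem L'.mem) (inv_mem L.mem)) (inv_mem L'.mem)
    have hdQ : d ∈ Q := (actHom_eq_one T (m := ⟨d, hdM⟩)).1 (by
      have e1 : actHom T ⟨r, L.mem⟩ = F := Equiv.ext L.act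
      have e2 : actHom T ⟨r', L'.mem⟩ = F' := Equiv.ext L'.act
      rw [show (⟨d, hdM⟩ : ↥(MM T)) =
          ⟨r, L.mem⟩ * ⟨r', L'.mem⟩ * ⟨r, L.mem⟩⁻¹ * ⟨r', L'.mem⟩⁻¹ from Subtype.ext rfl,
        map_mul, map_mul, map_mul, map_inv, map_inv, e1, e2, hFF.eq, mul_inv_cancel_right,
        mul_inv_cancel])
    have d1 : ∀ q ∈ OS T R, Commute d q := fun q hq => by
      have hq' : r⁻¹ * q * r ∈ OS T R := by
        have h2 := OS_norm T R L 2 hq
        rwa [show r ^ 2 = r⁻¹ from eq_inv_of_mul_eq_one_left (by rw [← pow_succ, L.cube]),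
          inv_inv] at h2
      have hsq : Commute s q := by
        show s * q = q * s
        rw [hs, show r * r' * r⁻¹ * q = r * (r' * (r⁻¹ * q * r)) * r⁻¹ by group, (c2 _ hq').eq]
        group
      exact hsq.mul_left (c2 q hq).inv_left
    have d2 : ∀ q ∈ OS T R', Commute d q := fun q hq => by
      have hq1 : r'⁻¹ * q * r' ∈ OS T R' := by
        have h2 := OS_norm T R' L' 2 hq
        rwa [show r' ^ 2 = r'⁻¹ from eq_inv_of_mul_eq_one_left (by rw [← pow_succ, L'.cube]),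
          inv_inv] at h2
      set p := r'⁻¹ * q * r' with hp
      have hqp : r' * p = q * r' := by rw [hp]; group
      have hsp : s * p = q * s := by
        calc s * p = r * r' * (r⁻¹ * p) := by rw [hs]; group
          _ = r * r' * (p * r⁻¹) := by rw [((c1 p hq1).inv_left).eq]
          _ = r * (r' * p) * r⁻¹ := by group
          _ = r * q * (r' * r⁻¹) := by rw [hqp]; group
          _ = q * r * (r' * r⁻¹) := by rw [(c1 q hq).eq]
          _ = q * s := by rw [hs]; group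
      show d * q = q * d
      calc d * q = s * (r'⁻¹ * q * r') * r'⁻¹ := by rw [hd]; group
        _ = q * d := by rw [← hp, hsp, hd]; group
    obtain ⟨w, k, hw⟩ := QH_cases T hdM hdQ
    have halt : ∀ v k', Commute d (el e v k') → alt (iF w) v = 0 := fun v k' hc => by
      rw [hw, commute_iff_eq, S.el_comm, mul_eq_right, ← Setup.el_zero (e := e)] at hc
      exact (Setup.el_inj hc).2
    have hw0 : w = 0 := iF_facts.2.2.1 w fun w' => by
      obtain ⟨u, v, huv⟩ := hsum w'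
      rw [huv, alt_add_right, halt _ 0 (d1 _ ⟨u, 0, rfl⟩), halt _ 0 (d2 _ ⟨v, 0, rfl⟩), add_zero]
    have hd' : d = 1 ∨ d = z := by
      rw [hw, hw0, show iF 0 = 0 by decide +kernel]
      rcases z2_cases k with rfl | rfl
      · exact Or.inl Setup.el_zero
      · exact Or.inr S.el_one
    have hs' : s = d * r' := by rw [hd]; group
    rcases hd' with e' | e'
    · rw [e', one_mul, hs] at hs'
      exact mul_inv_eq_iff_eq_mul.1 hs'
    · exfalso
      have h3 : s ^ 3 = 1 := by rw [hs, conj_pow, L'.cube, mul_one, mul_inv_cancel]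
      rw [hs', e', (show Commute z r' from ((mem_MM T).1 L'.mem).2.symm).mul_pow, L'.cube, mul_one,
        pow_succ, pow_two, S.pack.z_mul_z, one_mul] at h3
      exact S.pack.z_ne h3
  obtain ⟨q, hq, n, rfl⟩ := hg
  obtain ⟨p, hp, m, rfl⟩ := hh
  exact ((OS_comm T R R' hab hq hp).mul_right ((c2 q hq).symm.pow_right m)).mul_left
    (((c1 p hp).pow_left n).mul_right (hrr.pow_pow n m))

end CfsgLib.StructB.CoA9.PNine
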