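import Cfsg.Agent.Lib.StructB.CoA9.Orbit

/-!
The base point of the orbit: it is centralised by the stabiliser of the last point.
-/

set_option autoImplicit false
set_option maxRecDepth 20000
set_option synthInstance.maxSize 2000

namespace CfsgLib.StructB.CoA9

open Subgroup CfsgLib.Trans3.ExtraTwo CfsgLib.ClassK.Conway Equiv
open CfsgLib.PLocal.LargeExtra

local notation "A8" => alternatingGroup (Fin 8)

theorem sb_fixed_sing : ∀ a : Sp 3, psi sb.1 a = a → qd a = 0 → a = 0 := by decide +kernel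

theorem k567_fix56 : ∀ σ : A8, σ ∈ K567 → psi σ.1 (pairVec 5 6) = pairVec 5 6 := fun σ h => by
  rw [psi_pairVec σ.1 (by decide), h.1, h.2.1]

theorem five_pick : ∀ i : Fin 8, i ≠ 7 →
    ∃ p ∈ [(1 : Perm (Fin 8)), swap 5 0 * swap 2 3, swap 5 1 * swap 2 3, swap 5 2 * swap 0 1,
      swap 5 3 * swap 0 1, swap 5 4 * swap 0 1, swap 5 6 * swap 0 1],
      Perm.sign p = 1 ∧ p 7 = 7 ∧ p 5 = i := by decide +kernel

theorem gen_orders : g012 ^ 3 = 1 ∧ g234 ^ 3 = 1 ∧ g456 ^ 3 = 1 ∧ sx ^ 3 = 1 ∧ sb ^ 5 = 1 :=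
  ⟨g456_facts.2.1, g456_facts.2.2.1, g456_facts.1, small_facts.2.2.2.2.1, small_facts.2.2.2.1⟩

universe u

variable {G : Type u} [Group G] {z : G} {Q : Subgroup G} {e : ↥Q ≃* ES 4 (ff 4)} {ρ : G}
variable [Finite G]

/-- The base point. -/
structure Base (T : Tri z Q e ρ) (L : Subgroup G) (c y : G) : Prop where
  swap : Swap (z := z) (e := e) c
  five : FiveL T L
  orb : ∃ r ∈ RR e ρ, r * z * r⁻¹ = y
  anti : Anti z e y
  fix : ∀ σ : A8, σ.1 7 = 7 → lam T σ * y = y * lam T σ
  shift : ∀ σ : A8, Sh z e ρ c y (lam T σ * y * (lam T σ)⁻¹) (shiftVec σ.1)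
  five_orbit : ∀ r ∈ RR e ρ, r * bb T = bb T * r →
    r * z * r⁻¹ = z ∨ ∃ σ : A8, (σ.1 7 = 5 ∨ σ.1 7 = 6 ∨ σ.1 7 = 7) ∧
      r * z * r⁻¹ = lam T σ * y * (lam T σ)⁻¹

set_option maxHeartbeats 1000000 in
theorem exists_base (T : Tri z Q e ρ) {L : Subgroup G} (F : FiveL T L) {c : G}
    (hc : Swap (z := z) (e := e) c) : ∃ y, Base T L c y := by
  classical
  have S := T.setup
  have hzz := S.pack.z_mul_z
  have P := pack_QT T hc
  obtain ⟨E, w, hE4, hwE, hw1, hEL, h36, hE, -, hwd⟩ := F.exists_special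
  obtain ⟨hw2, hwr, hwq, hwb, hwz, -⟩ := hE w hwE
  have hwi : w⁻¹ = w := inv_eq_of_mul_eq_one_right hw2
  have hwR : w ∈ RR e ρ := mem_RR.2 ⟨hwq, hwr⟩
  set y := w * z * w⁻¹ with hy
  have hyQ : y ∈ QT Q ρ c := orbit_mem_QT T hc hwR
  have hyb : lam T sb * y * (lam T sb)⁻¹ = y := by
    have h1 : Commute (lam T sb) w := (hwb : w * lam T sb = lam T sb * w).symm
    have h2 : Commute (lam T sb) z := (lam_comm T sb).1
    exact mul_inv_eq_iff_eq_mul.2 ((h1.mul_right h2).mul_right h1.inv_right).eq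
  -- `y` does not commute with `z`
  have hya : Anti z e y := by
    refine (orbit_cases T hc hwR).resolve_left fun hcomm => ?_
    obtain ⟨i, j, a, hk⟩ := exists_kk T hc hyQ hcomm
    have hy2 : y * y = 1 := orbit_sq T
    rw [hk] at hy2
    obtain ⟨i', j', hl⟩ := kk_lam T hc sb i j a
    rw [← hk, hyb, hk] at hl
    have ha : a = 0 := sb_fixed_sing a (kk_inj T hc hl).2.2.symm (kk_sq T hc hy2)
    rw [ha, kk_zero T hc] at hk
    rcases z2_cases i with rfl | rfl <;> rcases z2_cases j with rfl | rfl <;>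
      simp only [pw_zero, pw_one, one_mul, mul_one] at hk
    · refine S.pack.z_ne ?_
      rwa [hy, conj_eq_one_iff] at hk
    · have : z = qe e := by
        calc z = w⁻¹ * y * w := by rw [hy]; group
          _ = qe e := by rw [hk, mul_assoc, ← hwq, inv_mul_cancel_left]
      exact qe_ne_z T this.symm
    · rw [hy, mul_inv_eq_iff_eq_mul] at hk
      exact hwz hw1 hk
    · exact conj_ne_zt T hwR hk
  have hanti : ∀ σ, Anti z e (lam T σ * y * (lam T σ)⁻¹) := fun σ => Anti.conjLam T hya σ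
  have hex : ∀ σ : A8, ∃ a, Sh z e ρ c y (lam T σ * y * (lam T σ)⁻¹) a := fun σ =>
    exists_sh T hc hyQ (conj_mem_QT T hc (lam_comm T σ).2.2.2 hyQ) hya (hanti σ)
  choose δ hδ using hex
  have hmul : ∀ σ τ : A8, δ (σ * τ) = δ σ + psi σ.1 (δ τ) := by
    intro σ τ
    have h := (hδ τ).conj T hc σ
    rw [show lam T σ * (lam T τ * y * (lam T τ)⁻¹) * (lam T σ)⁻¹ =
      lam T (σ * τ) * y * (lam T (σ * τ))⁻¹ by rw [map_mul]; group] at h
    exact Sh.unique T hc (hδ (σ * τ)) ((hδ σ).trans' T hc h)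
  have hfix0 : ∀ σ : A8, lam T σ * y * (lam T σ)⁻¹ = y → δ σ = 0 := fun σ h => by
    refine Sh.unique T hc (hδ σ) ?_
    rw [h]; exact Sh.refl' T hc y
  have hone : δ 1 = 0 := hfix0 1 (by rw [map_one]; group)
  have hcw : ∀ σ : A8, lam T σ * w = w * lam T σ → lam T σ * y * (lam T σ)⁻¹ = y := fun σ h => by
    have h1 : Commute (lam T σ) w := h
    have h2 : Commute (lam T σ) z := (lam_comm T σ).1
    exact mul_inv_eq_iff_eq_mul.2 ((h1.mul_right h2).mul_right h1.inv_right).eq
  have hK : ∀ σ ∈ K567, δ σ = 0 := fun σ hσ => hfix0 σ (hcw σ (F.comm σ hσ w (hEL hwE)))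
  have hsd0 : δ sd = 0 := hfix0 sd (hcw sd hwd.symm)
  have hsb0 : δ sb = 0 := hfix0 sb hyb
  have hinv : ∀ σ : A8, δ σ⁻¹ = psi σ.1.symm (δ σ) := by
    intro σ
    have h := hmul σ⁻¹ σ
    rw [inv_mul_cancel, hone] at h
    calc δ σ⁻¹ = δ σ⁻¹ + (δ σ⁻¹ + psi (σ⁻¹ : A8).1 (δ σ)) := by rw [← h, add_zero]
      _ = psi σ.1.symm (δ σ) := by rw [← add_assoc, sp_add_self, zero_add]; rfl
  have hconj : ∀ σ : A8, lam T σ * y * (lam T σ)⁻¹ =
      (lam T σ * w * (lam T σ)⁻¹) * z * (lam T σ * w * (lam T σ)⁻¹)⁻¹ := fun σ => by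
    calc lam T σ * y * (lam T σ)⁻¹ = (lam T σ * w * (lam T σ)⁻¹) * (lam T σ * z * (lam T σ)⁻¹) *
          (lam T σ * w * (lam T σ)⁻¹)⁻¹ := by rw [hy]; group
      _ = _ := by rw [mul_inv_eq_iff_eq_mul.2 (lam_comm T σ).1]
  -- the value at `sx`
  obtain ⟨hxb, hdx, -⟩ := small_facts
  set a := δ sx with ha
  have hsxne : lam T sx * w * (lam T sx)⁻¹ ≠ w := fun h =>
    F.invol_move (hEL hwE) hw2 hw1 hwr (mul_inv_eq_iff_eq_mul.1 h).symm
  set w1 := lam T sx * w * (lam T sx)⁻¹ with hw1def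
  have hw1E : w1 ∈ E := (hE w hwE).2.2.2.2.2
  have hy1 : lam T sx * y * (lam T sx)⁻¹ = w1 * z * w1⁻¹ := hconj sx
  have hw1R : w1 ∈ RR e ρ := mem_RR.2 ⟨(hE w1 hw1E).2.2.1, (hE w1 hw1E).2.1⟩
  have ha0 : a ≠ 0 := by
    intro h
    have h1 := hδ sx
    rw [← ha, h, hy1] at h1
    have heq := eq_of_sh_zero T hc hw1R hwR hya h1
    -- then the product of the two involutions commutes with `z`
    set v := w1⁻¹ * w with hv
    have hvE : v ∈ E := mul_mem (inv_mem hw1E) hwE
    have hv1 : v ≠ 1 := fun h => hsxne (inv_mul_eq_one.1 h)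
    refine (hE v hvE).2.2.2.2.1 hv1 ?_
    calc v * z = w1⁻¹ * (w * z * w⁻¹) * w := by rw [hv]; group
      _ = w1⁻¹ * (w1 * z * w1⁻¹) * w := by rw [heq]
      _ = z * v := by rw [hv]; group
  have haval : a = pairVec 5 7 := by
    refine sx_shift_cases a ?_ ha0 ?_
    · have h := congrArg δ hxb
      rw [hmul, hmul, hsb0, (psi_isom sx.1).map_zero, add_zero, zero_add] at h
      exact h.symm
    · have h := congrArg δ hdx
      rw [hmul, hmul, hsd0, (psi_isom _).map_zero, add_zero, zero_add, hinv] at h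
      exact h
  -- the value at `g456`
  obtain ⟨h3, -, -, h0123, h012, hx2, -⟩ := g456_facts
  obtain ⟨h1256, hk1256⟩ := g1256_facts
  set a' := δ g456 with ha'
  have hcommz : ∀ k : A8, δ k = 0 → k * g456 = g456 * k → psi k.1 a' = a' := by
    intro k hk hcm
    have h := congrArg δ hcm
    rwa [hmul, hmul, hk, (psi_isom g456.1).map_zero, add_zero, zero_add] at h
  have hδ1256 : δ g1256 = 0 := by
    have h := hmul sd (sd⁻¹ * g1256)
    rwa [mul_inv_cancel_left, hsd0, hK _ hk1256, (psi_isom _).map_zero, add_zero] at h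
  have hsq3 : a' + psi g456.1 a' + psi g456.1 (psi g456.1 a') = 0 := by
    have h := congrArg δ h3
    rw [pow_succ, pow_two, hmul, hmul, hone, ← ha', Subgroup.coe_mul, psi_mul] at h
    exact h
  have hsq2 : a' + psi g456.1 (pairVec 5 7) +
      psi (g456.1 * sx.1) (a' + psi g456.1 (pairVec 5 7)) = 0 := by
    have h := congrArg δ hx2
    rw [hmul, hmul, hone, ← ha', ← ha, haval, Subgroup.coe_mul] at h
    exact h
  have hinv456 : psi g1256.1 a' = psi g456.1.symm a' := by
    have h := congrArg δ h1256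
    rwa [hmul, hmul, hδ1256, (psi_isom _).map_zero, add_zero, zero_add, hinv] at h
  have ha'0 : a' = 0 := by
    refine (g456_shift_cases a' (hcommz g012 (hK _ gens_mem.1) h012)
      (hcommz g0123 (hK _ gens_mem.2.2.1) h0123) hinv456 hsq3 hsq2).resolve_right fun h45 => ?_
    -- otherwise there would be an involution centralised by the generators
    set k := kk z e ρ c 0 0 (pairVec 5 6) with hk
    have hkQ : k ∈ QT Q ρ c := kk_mem T hc _ _ _
    have hkz : k * z = z * k := kk_comm_z T hc _ _ _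
    have hyk : y * k ∈ QT Q ρ c := mul_mem hyQ hkQ
    have hyka : Anti z e (y * k) := by
      show y * k * z = qe e * (z * (y * k))
      rw [mul_assoc, hkz, ← mul_assoc, hya]; group
    obtain ⟨s, hsQ, hs2, hsa, hsh⟩ : ∃ s, s ∈ QT Q ρ c ∧ s * s = 1 ∧ Anti z e s ∧
        Sh z e ρ c y s (pairVec 5 6) := by
      rcases P.sq_cases hyk with h | h
      · exact ⟨y * k, hyk, h, hyka, 0, 0, rfl⟩
      · refine ⟨y * k * z, mul_mem hyk (z_mem_QT T hc), ?_, ?_, ?_⟩
        · have hct : qe e * (y * k) = y * k * qe e := (P.comm_z hyk).symm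
          have htz : qe e * z = z * qe e := S.pack.comm_z (Setup.el_mem _ _)
          calc y * k * z * (y * k * z) = qe e * (z * (y * k)) * (y * k * z) := by rw [hyka]
            _ = qe e * z * ((y * k) * (y * k)) * z := by group
            _ = 1 := by
              rw [h, mul_assoc (qe e * z), mul_assoc (qe e) z, ← mul_assoc z, ← htz,
                mul_assoc (qe e) z, hzz, mul_one, S.xe_facts.2.2.2.2.2.1]
        · show y * k * z * z = qe e * (z * (y * k * z))
          conv_lhs => rw [hyka]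
          group
        · obtain ⟨i', j', hm⟩ := kk_mul T hc 0 0 1 0 (pairVec 5 6) 0
          rw [kk_zero T hc, pw_one, pw_zero, mul_one, add_zero] at hm
          exact ⟨i', j', by rw [← hm, hk]; group⟩
    have hst : ∀ σ : A8, ∀ n : ℕ, Odd n → σ ^ n = 1 →
        pairVec 5 6 + δ σ + psi σ.1 (pairVec 5 6) = 0 → s * lam T σ = lam T σ * s := by
      intro σ n hn hσn h0
      have hS := (hsh.symm' T hc).trans' T hc ((hδ σ).trans' T hc (hsh.conj T hc σ))
      rw [← add_assoc, h0] at hS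
      obtain ⟨i, j, hij⟩ := hS
      rw [kk_zero T hc] at hij
      set l := lam T σ with hl
      set ε := pw z i * pw (qe e) j with hε
      have hlε : Commute l ε := by
        obtain ⟨h1, -, -, h2⟩ := lam_comm T σ
        exact Commute.mul_right (pw_comm h1 i) (pw_comm h2 j)
      have hiter : ∀ m : ℕ, l ^ m * s * (l ^ m)⁻¹ = s * ε ^ m := by
        intro m
        induction m with
        | zero => simp
        | succ m ih =>
          calc l ^ (m + 1) * s * (l ^ (m + 1))⁻¹ = l * (l ^ m * s * (l ^ m)⁻¹) * l⁻¹ := by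
                rw [pow_succ']; group
            _ = l * (s * ε ^ m) * l⁻¹ := by rw [ih]
            _ = l * s * l⁻¹ * (l * ε ^ m * l⁻¹) := by group
            _ = s * ε ^ (m + 1) := by
              rw [hij, mul_inv_eq_iff_eq_mul.2 (hlε.pow_right m).eq, mul_assoc, ← pow_succ']
      have hεn : ε ^ n = 1 := by
        have h := hiter n
        rw [hl, ← map_pow, hσn, map_one, one_mul, inv_one, mul_one] at h
        exact mul_eq_left.1 h.symm
      have hε2 : ε ^ 2 = 1 := by
        have htz : qe e * z = z * qe e := S.pack.comm_z (Setup.el_mem _ _)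
        have hc' : Commute (pw (qe e) j) (pw z i) := by
          rcases z2_cases i with r | r <;> rcases z2_cases j with q | q <;> rw [r, q] <;>
            simp only [pw_zero, pw_one]
          · exact Commute.refl _
          · exact Commute.one_right _
          · exact Commute.one_left _
          · exact htz
        rw [pow_two, hε, hc'.mul_mul_mul_comm, ← pw_add hzz, ← pw_add S.xe_facts.2.2.2.2.2.1,
          z2_add_self, z2_add_self, pw_zero, pw_zero, one_mul]
      have hε1 : ε = 1 := by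
        obtain ⟨m, rfl⟩ := hn
        rwa [pow_succ, pow_mul, hε2, one_pow, one_mul] at hεn
      rw [hε1, mul_one] at hij
      exact (mul_inv_eq_iff_eq_mul.1 hij).symm
    obtain ⟨hp012, hp234, hp456, hpx⟩ := split_shift
    obtain ⟨o1, o2, o3, o4, o5⟩ := gen_orders
    have c1 := hst g012 3 (by decide) o1 (by rw [hK _ gens_mem.1, hp012, add_zero, sp_add_self])
    have c2 := hst g234 3 (by decide) o2 (by rw [hK _ gens_mem.2.1, hp234, add_zero, sp_add_self])
    have c3 := hst g456 3 (by decide) o3 (by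
      rw [← ha', h45, add_assoc, add_comm (pairVec 4 5), ← add_assoc, add_comm (pairVec 5 6)]
      exact hp456)
    have c4 := hst sx 3 (by decide) o4 (by
      rw [← ha, haval, add_assoc, add_comm (pairVec 5 7), ← add_assoc, add_comm (pairVec 5 6)]
      exact hpx)
    have c5 := hst sb 5 (by decide) o5 (by
      rw [hsb0, k567_fix56 sb small_facts.2.2.2.2.2.2.2, add_zero, sp_add_self])
    have cd : s * lam T sd = lam T sd * s := by
      have hmem : sd ∈ (centralizer ({s} : Set G)).comap (lam T) := by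
        rw [sd_word]
        refine Subgroup.list_prod_mem _ fun x hx => ?_
        obtain ⟨t, -, rfl⟩ := List.mem_map.1 hx
        refine mem_comap.2 (mem_centralizer_singleton_iff.2 ?_)
        fin_cases t
        exacts [c1.symm, c2.symm, c3.symm, c4.symm]
      exact (mem_centralizer_singleton_iff.1 hmem).symm
    refine F.no_extra hs2 c5 c4 cd (P.comm_z hsQ) fun hsz => ?_
    rw [hsa] at hsz
    have : qe e = 1 := mul_eq_right.1 hsz
    exact absurd (Setup.el_inj (e := e) (this.trans Setup.el_zero.symm)).1 (by decide)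
  -- the stabiliser of the last point
  let S0 : Subgroup A8 :=
    { carrier := {σ | δ σ = 0}
      one_mem' := hone
      mul_mem' := fun {σ τ} hs ht => by
        show δ (σ * τ) = 0
        rw [hmul, hs, ht, (psi_isom _).map_zero, add_zero]
      inv_mem' := fun {σ} hs => by
        show δ σ⁻¹ = 0
        rw [hinv, hs, (psi_isom _).map_zero] }
  have h7 : ∀ σ : A8, σ.1 7 = 7 → δ σ = 0 := fun σ h =>
    stab_seven S0 (fun σ hσ => hK σ hσ) ha'0 h
  have hfix : ∀ σ : A8, σ.1 7 = 7 → lam T σ * y * (lam T σ)⁻¹ = y := by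
    intro σ h
    have h1 := hδ σ
    rw [h7 σ h] at h1
    have hr : lam T σ * w ∈ RR e ρ := mul_mem (lam_mem_RR T σ) hwR
    have he : lam T σ * y * (lam T σ)⁻¹ = lam T σ * w * z * (lam T σ * w)⁻¹ := by rw [hy]; group
    rw [he] at h1 ⊢
    exact eq_of_sh_zero T hc hr hwR hya h1
  refine ⟨y, hc, F, ⟨w, hwR, rfl⟩, hya, fun σ h => mul_inv_eq_iff_eq_mul.1 (hfix σ h),
    fun σ => ?_, ?_⟩
  · -- the translation part
    suffices h : δ σ = shiftVec σ.1 by rw [← h]; exact hδ σ
    by_cases h : σ.1 7 = 7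
    · rw [h7 σ h, shiftVec, if_pos h]
    obtain ⟨p, -, hps, hp7, hp5⟩ := five_pick (σ.1 7) h
    set π : A8 := ⟨p, Perm.mem_alternatingGroup.2 hps⟩
    set τ := (π * sx)⁻¹ * σ
    have hx7 : sx.1 7 = 5 := by decide
    have hτ7 : τ.1 7 = 7 := by
      show (π.1 * sx.1).symm (σ.1 7) = 7
      rw [Equiv.symm_apply_eq, Perm.mul_apply, hx7]
      exact hp5.symm
    have hσ : σ = π * sx * τ := (mul_inv_cancel_left (π * sx) σ).symm
    rw [shiftVec, if_neg h, hσ, hmul, hmul, h7 τ hτ7, (psi_isom _).map_zero, add_zero, h7 π hp7,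
      zero_add, ← ha, haval, psi_pairVec _ (by decide), ← hσ]
    show pairVec (p 5) (p 7) = _
    rw [hp5, hp7, pairVec, pairVec, add_comm]
  · -- the orbit of the centraliser of `b`
    intro r hr hrb
    obtain ⟨hrq, hrr⟩ := mem_RR.1 hr
    obtain ⟨l, hl, i, rfl⟩ := F.fac r hrb
    have hbR : bb T ∈ RR e ρ := lam_mem_RR T sb
    have hlR : l ∈ RR e ρ := by
      have := mul_mem hr (inv_mem (pow_mem hbR i))
      rwa [mul_inv_cancel_right] at this
    obtain ⟨hlq, hlr⟩ := mem_RR.1 hlR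
    have hbz : Commute (bb T ^ i) z := Commute.pow_left (lam_comm T sb).1 i
    rw [show l * bb T ^ i * z * (l * bb T ^ i)⁻¹ = l * (bb T ^ i * z * (bb T ^ i)⁻¹) * l⁻¹ by group,
      mul_inv_eq_iff_eq_mul.2 hbz.eq]
    -- the group of order twelve
    set M := L ⊓ centralizer ({ρ} : Set G) ⊓ centralizer ({qe e} : Set G) with hM
    have hxM : lam T sx ∈ M := ⟨⟨F.xL, mem_centralizer_singleton_iff.2 (lam_comm T sx).2.2.1⟩,
      mem_centralizer_singleton_iff.2 (lam_comm T sx).2.2.2⟩
    have hEM : E ≤ M := fun b hb => ⟨⟨hEL hb, mem_centralizer_singleton_iff.2 (hE b hb).2.1⟩,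
      mem_centralizer_singleton_iff.2 (hE b hb).2.2.1⟩
    have hx3 : lam T sx ^ 3 = 1 := by rw [← map_pow, gen_orders.2.2.2.1, map_one]
    have hox : orderOf (lam T sx) = 3 := by
      haveI : Fact (Nat.Prime 3) := ⟨by norm_num⟩
      exact orderOf_eq_prime hx3 fun h => small_facts.2.2.2.2.2.2.1
        (lam_injective T (h.trans (map_one _).symm))
    have h4 : 4 ∣ Nat.card ↥M := hE4 ▸ card_dvd_of_le hEM
    have h3' : 3 ∣ Nat.card ↥M := hox ▸ M.orderOf_dvd_natCard hxM
    have hne : M ≠ L ⊓ centralizer ({ρ} : Set G) := fun h => by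
      have h1 : ρ ∈ M := by
        rw [h]; exact ⟨F.rhoL, mem_centralizer_singleton_iff.2 rfl⟩
      have h2 : ρ * qe e = qe e * ρ := mem_centralizer_singleton_iff.1 h1.2
      have h3 := T.qrq
      rw [← h2, mul_assoc, S.xe_facts.2.2.2.2.2.1, mul_one] at h3
      have : ρ * ρ = 1 := by nth_rw 2 [h3]; rw [mul_inv_cancel]
      exact rho_ne T (by rw [← T.rho3, this, one_mul])
    have hM12 : Nat.card ↥M = 12 := by
      have hd : Nat.card ↥M ∣ 36 := h36 ▸ card_dvd_of_le inf_le_left
      have h12 : 12 ∣ Nat.card ↥M := Nat.Coprime.mul_dvd_of_dvd_of_dvd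
        (by norm_num : Nat.Coprime 4 3) h4 h3'
      have hlt : Nat.card ↥M ≠ 36 := fun h => hne (eq_of_le_of_card_ge inf_le_left (by rw [h36, h]))
      have hle := Nat.le_of_dvd (by norm_num) hd
      interval_cases (Nat.card ↥M) <;> omega
    let f : ↥E × Fin 3 → ↥M := fun p =>
      ⟨p.1.1 * lam T sx ^ p.2.1, mul_mem (hEM p.1.2) (pow_mem hxM _)⟩
    have hf : Function.Injective f := by
      intro p q h
      have h' : p.1.1 * lam T sx ^ p.2.1 = q.1.1 * lam T sx ^ q.2.1 := congrArg Subtype.val h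
      obtain ⟨i, hi⟩ := p; obtain ⟨j, hj⟩ := q
      by_cases hij : hi = hj
      · subst hij
        exact Prod.ext (Subtype.ext (mul_right_cancel h')) rfl
      exfalso
      have hmemE : lam T sx ^ hi.1 * (lam T sx ^ hj.1)⁻¹ ∈ E := by
        have : lam T sx ^ hi.1 * (lam T sx ^ hj.1)⁻¹ = i.1⁻¹ * j.1 := by
          rw [mul_inv_eq_iff_eq_mul, mul_assoc, ← h', inv_mul_cancel_left]
        rw [this]; exact mul_mem (inv_mem i.2) j.2
      set g := lam T sx ^ hi.1 * (lam T sx ^ hj.1)⁻¹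
      have hg2 : g ^ 2 = 1 := by rw [pow_two]; exact (hE g hmemE).1
      have hg3 : g ^ 3 = 1 := by
        rw [((Commute.pow_pow_self (lam T sx) _ _).inv_right).mul_pow, inv_pow, ← pow_mul, ← pow_mul,
          mul_comm hi.1, mul_comm hj.1, pow_mul, pow_mul, hx3, one_pow, one_pow, inv_one, mul_one]
      have hg1 : g = 1 := by rwa [pow_succ, hg2, one_mul] at hg3
      have he := mul_inv_eq_one.1 hg1
      exact hij (Fin.ext (by
        have := pow_inj_mod.1 he
        rw [hox] at this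
        have := hi.2; have := hj.2
        omega))
    have hbij : Function.Bijective f := (Nat.bijective_iff_injective_and_card f).2
      ⟨hf, by rw [Nat.card_prod, hE4, hM12, Nat.card_fin]⟩
    obtain ⟨⟨⟨b, hb⟩, j⟩, hbj⟩ := hbij.2 ⟨l, ⟨hl, mem_centralizer_singleton_iff.2 hlr⟩,
      mem_centralizer_singleton_iff.2 hlq⟩
    have hlb : b * lam T sx ^ j.1 = l := congrArg Subtype.val hbj
    have hxz : Commute (lam T sx ^ j.1) z := Commute.pow_left (lam_comm T sx).1 _
    rw [← hlb, show b * lam T sx ^ j.1 * z * (b * lam T sx ^ j.1)⁻¹ =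
      b * (lam T sx ^ j.1 * z * (lam T sx ^ j.1)⁻¹) * b⁻¹ by group, mul_inv_eq_iff_eq_mul.2 hxz.eq]
    by_cases hb1 : b = 1
    · left; rw [hb1]; group
    right
    have hxx : (sx * sx).1 7 = 6 ∧ sx.1 7 = 5 ∧ (1 : A8).1 7 = 7 := by decide
    set w2 := lam T (sx * sx) * w * (lam T (sx * sx))⁻¹ with hw2def
    have hw2E : w2 ∈ E := by
      have := (hE w1 hw1E).2.2.2.2.2
      rwa [hw1def, show lam T sx * (lam T sx * w * (lam T sx)⁻¹) * (lam T sx)⁻¹ = w2 by
        rw [hw2def, map_mul]; group] at this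
    have hmoved : ∀ v ∈ E, v ≠ 1 → lam T sx * v * (lam T sx)⁻¹ ≠ v := fun v hv hv1 h =>
      F.invol_move (hEL hv) (hE v hv).1 hv1 (hE v hv).2.1 (mul_inv_eq_iff_eq_mul.1 h).symm
    have hne12 : w2 ≠ w1 := fun h => by
      refine hmoved w1 hw1E (fun h1 => hw1 (conj_eq_one_iff.1 h1)) ?_
      rw [hw1def, show lam T sx * (lam T sx * w * (lam T sx)⁻¹) * (lam T sx)⁻¹ = w2 by
        rw [hw2def, map_mul]; group, h]
    have hne20 : w2 ≠ w := fun h => by
      refine hsxne ?_
      have hx3' : sx * (sx * sx) = 1 := by rw [← mul_assoc, ← pow_two, ← pow_succ]; exact gen_orders.2.2.2.1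
      calc w1 = lam T sx * w2 * (lam T sx)⁻¹ := by rw [h, hw1def]
        _ = lam T (sx * (sx * sx)) * w * (lam T (sx * (sx * sx)))⁻¹ := by
          rw [hw2def, map_mul _ sx (sx * sx)]; group
        _ = w := by rw [hx3', map_one]; group
    have hall : b = w ∨ b = w1 ∨ b = w2 := by
      by_contra hcon
      rw [not_or, not_or] at hcon
      obtain ⟨n0, n1, n2⟩ := hcon
      have hw11 : w1 ≠ 1 := fun h1 => hw1 (conj_eq_one_iff.1 h1)
      have hw21 : w2 ≠ 1 := fun h1 => hw1 (conj_eq_one_iff.1 h1)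
      haveI := Fintype.ofFinite G
      have hsub : ({1, w, w1, w2, b} : Finset G) ⊆ Finset.univ.filter (· ∈ E) := by
        intro a ha
        simp only [Finset.mem_insert, Finset.mem_singleton] at ha
        refine Finset.mem_filter.2 ⟨Finset.mem_univ _, ?_⟩
        rcases ha with rfl | rfl | rfl | rfl | rfl
        exacts [one_mem _, hwE, hw1E, hw2E, hb]
      have h5 : ({1, w, w1, w2, b} : Finset G).card = 5 := by
        rw [Finset.card_insert_of_notMem (by simp [hw1.symm, hw11.symm, hw21.symm, Ne.symm hb1]),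
          Finset.card_insert_of_notMem (by simp [hsxne.symm, hne20.symm, Ne.symm n0]),
          Finset.card_insert_of_notMem (by simp [hne12.symm, Ne.symm n1]),
          Finset.card_insert_of_notMem (by simp [Ne.symm n2]), Finset.card_singleton]
      have := Finset.card_le_card hsub
      rw [h5, ← Fintype.card_subtype, ← Nat.card_eq_fintype_card] at this
      rw [show Nat.card {a : G // a ∈ E} = 4 from hE4] at this
      omega
    rcases hall with rfl | rfl | rfl
    · exact ⟨1, Or.inr (Or.inr hxx.2.2), by rw [map_one, one_mul, inv_one, mul_one, hy]⟩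
    · exact ⟨sx, Or.inl hxx.2.1, (hconj sx).symm⟩
    · exact ⟨sx * sx, Or.inr (Or.inl hxx.1), (hconj _).symm⟩

end CfsgLib.StructB.CoA9
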