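import Cfsg.Agent.Lib.StructB.CoA9.Fixed
import Cfsg.Agent.Lib.StructB.CoA9.HJThree
import Cfsg.Agent.Lib.Trans3.ConwayJ2
import Cfsg.Agent.Lib.Janko2.Order
import Cfsg.Agent.Lib.PLocal.LargeExtra

/-!
The centraliser of the element of order five: the quotient of Hall-Janko type and the layer.
-/

set_option autoImplicit false
set_option maxRecDepth 20000
set_option synthInstance.maxSize 2000

namespace CfsgLib.StructB.CoA9

open Subgroup CfsgLib.Trans3.ExtraTwo CfsgLib.ClassK.Conway CfsgLib.Trans3.Conway Equiv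

universe u

variable {G : Type u} [Group G] {z : G} {Q : Subgroup G} {e : ↥Q ≃* ES 4 (ff 4)} {ρ : G}
variable [Finite G]

/-- The quotient of `C(z)` by `Q`. -/
def HasOmega (z : G) (Q : Subgroup G) : Prop :=
  ∃ π : ↥(centralizer ({z} : Set G)) →* ↥CfsgLib.Trans3.Conway.Om,
    Function.Surjective π ∧ π.ker = Q.subgroupOf (centralizer ({z} : Set G))

variable (T : Tri z Q e ρ) (hq : HasOmega z Q)
include T hq

theorem exists_cfg_bb : ∃ (u : G → Vv) (S : Cfg z (bb T) Q u), ∃ gs w, S.Frame gs w := by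
  have P := T.setup.pack
  have hz : orderOf z = 2 := by
    haveI : Fact (Nat.Prime 2) := ⟨Nat.prime_two⟩
    exact orderOf_eq_prime (by rw [pow_two]; exact P.z_mul_z) P.z_ne
  have hb : bb T ∈ centralizer ({z} : Set G) := Tri.memH (lam_lev T sb).1
  obtain ⟨u, S⟩ := CfsgLib.Trans3.Conway.exists_cfg hz (fun a ha => P.mem_centralizer_z ha)
    (fun c hc a ha => T.setup.conj_mem hc ha) P.cent P.ext P.mem
    (by rw [Nat.card_congr e.toEquiv, card_ES]; norm_num) (orderOf_bb T) (mem_centralizer_singleton_iff.1 hb)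
    (fix_extraspecial T) (fix_card T) (fun A hA hE => fix_rank T hA hE) T.setup.fus hq
  obtain ⟨gs, w, F⟩ := S.exists_frame
  exact ⟨u, S, gs, w, F⟩

theorem exists_quot : ∃ (J : Type u) (_ : Group J) (_ : Finite J)
    (χ : ↥(centralizer ({bb T} : Set G)) →* J) (zJ : J) (QJ : Subgroup J),
    InvChar.HJType.Data zJ QJ ∧ Function.Surjective χ ∧
      (∀ y, χ y = 1 ↔ y.1 ∈ zpowers (bb T)) ∧
      ∀ hz : z ∈ centralizer ({bb T} : Set G), IsConj zJ (χ ⟨z, hz⟩) := by
  classical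
  obtain ⟨u, S, gs, w, F⟩ := exists_cfg_bb T hq
  set b := bb T with hbdef
  haveI hn : (zpowers (Cfg.bC b)).Normal := Cfg.bC_normal b
  obtain ⟨zJ, QJ, D⟩ := S.exists_data F (fix_extraspecial T) (fix_card T) ⊤
    (fun _ _ _ => mem_top _) (mem_top _)
  let χ : ↥(centralizer ({b} : Set G)) →* ↥(⊤ : Subgroup (↥(Cfg.CB b) ⧸ zpowers (Cfg.bC b))) :=
    topEquiv.symm.toMonoidHom.comp (QuotientGroup.mk' _)
  have hker : ∀ y, χ y = 1 ↔ y.1 ∈ zpowers b := fun y => by
    show topEquiv.symm ((y : ↥(Cfg.CB b)) : ↥(Cfg.CB b) ⧸ zpowers (Cfg.bC b)) = 1 ↔ _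
    rw [map_eq_one_iff _ topEquiv.symm.injective, QuotientGroup.eq_one_iff]
    constructor
    · intro h
      obtain ⟨i, hi⟩ := mem_zpowers_iff.1 h
      exact mem_zpowers_iff.2 ⟨i, by rw [← hi]; rfl⟩
    · intro h
      obtain ⟨i, hi⟩ := mem_zpowers_iff.1 h
      exact mem_zpowers_iff.2 ⟨i, Subtype.ext (by rw [← hi]; rfl)⟩
  refine ⟨_, inferInstance, inferInstance, χ, zJ, QJ, D,
    topEquiv.symm.surjective.comp (QuotientGroup.mk'_surjective _), hker, fun hz => ?_⟩
  -- `z` is not outer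
  obtain ⟨a, W, X0, f, v, k, A, FF⟩ := D.exists_five_config
  set zb : ↥(centralizer ({b} : Set G)) := ⟨z, hz⟩ with hzb
  have hsep : ∀ y : ↥(centralizer ({b} : Set G)), χ y = 1 → ∀ n, y ^ (2 ^ n) = 1 → y = 1 := by
    intro y hy n hn2
    have h1 : orderOf (y : G) ∣ 2 ^ n :=
      orderOf_dvd_of_pow_eq_one (by rw [← SubmonoidClass.coe_pow, hn2]; rfl)
    have h2 : orderOf (y : G) ∣ 5 := by
      have := (zpowers b).orderOf_dvd_natCard ((hker y).1 hy)
      exact this.trans (dvd_of_eq ((Nat.card_zpowers b).trans (orderOf_bb T)))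
    exact Subtype.ext (orderOf_eq_one_iff.1 (Nat.eq_one_of_dvd_coprimes
      (Nat.Coprime.pow_left n (by norm_num : Nat.Coprime 2 5)) h1 h2))
  have hz2 : χ zb * χ zb = 1 := by
    rw [← map_mul, show zb * zb = 1 from Subtype.ext T.setup.pack.z_mul_z, map_one]
  have hzo : orderOf (χ zb) = 2 := by
    haveI : Fact (Nat.Prime 2) := ⟨Nat.prime_two⟩
    refine orderOf_eq_prime (by rw [pow_two, hz2]) fun h => T.setup.pack.z_ne ?_
    exact congrArg Subtype.val (hsep zb h 1 (Subtype.ext (by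
      show z ^ 2 ^ 1 = 1
      rw [pow_one, pow_two]; exact T.setup.pack.z_mul_z)))
  refine (D.conj_cases FF.L.ha hzo).resolve_right fun h => ?_
  obtain ⟨g, hg⟩ := isConj_iff.1 h
  set R := Q ⊓ centralizer ({b} : Set G)
  have hRP : IsPGroup 2 ↥R := IsPGroup.of_card (n := 5) (by rw [fix_card T]; norm_num)
  let φ : ↥R →* ↥(centralizer ({χ zb} : Set _)) :=
    (χ.comp (Subgroup.inclusion inf_le_right)).codRestrict _ fun q =>
      mem_centralizer_singleton_iff.2 (by
        show χ (Subgroup.inclusion inf_le_right q) * χ zb = χ zb * χ (Subgroup.inclusion inf_le_right q)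
        rw [← map_mul, ← map_mul]
        exact congrArg χ (Subtype.ext (T.setup.pack.comm_z q.2.1)))
  have hφ : Function.Injective φ := by
    rw [injective_iff_map_eq_one]
    intro q hq1
    obtain ⟨n, hn2⟩ := hRP q
    exact Subgroup.inclusion_injective inf_le_right
      ((hsep _ (congrArg Subtype.val hq1) n (by rw [← map_pow, hn2, map_one])).trans
        (map_one _).symm)
  have h32 := card_dvd_of_injective φ hφ
  rw [fix_card T, ← hg, InvChar.HJType.card_centralizer_conj, FF.L.hXc] at h32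
  norm_num at h32

/-- The layer: a subgroup of index five with centraliser of order sixty. -/
theorem exists_layer : ∃ L : Subgroup G, L ≤ centralizer ({bb T} : Set G) ∧
    Nat.card ↥(centralizer ({bb T} : Set G)) = 5 * Nat.card ↥L ∧ Nat.card ↥L = 604800 ∧
    (∀ c, c * bb T = bb T * c → ∀ l ∈ L, c * l * c⁻¹ ∈ L) ∧
    Nonempty (↥(centralizer (L : Set G)) ≃* alternatingGroup (Fin 5)) := by
  classical
  obtain ⟨J, _, _, χ, zJ, QJ, D, hsur, hker, -⟩ := exists_quot T hq
  obtain ⟨u, S, gs, w, F⟩ := exists_cfg_bb T hq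
  obtain ⟨⟨eL⟩, hC⟩ := S.layer_and_centralizer F (fix_extraspecial T) (fix_card T)
  set L0 := Cfsg.layer ↥(Cfg.CB (bb T))
  have hL : Nat.card ↥(L0.map (Cfg.CB (bb T)).subtype) = 604800 := by
    rw [card_map_of_injective (Cfg.CB (bb T)).subtype_injective, Nat.card_congr eL.toEquiv,
      Janko2.card_J2]
  have hk5 : Nat.card ↥χ.ker = 5 := by
    have hb : bb T ∈ centralizer ({bb T} : Set G) := mem_centralizer_singleton_iff.2 rfl
    have : χ.ker = zpowers (⟨bb T, hb⟩ : ↥(centralizer ({bb T} : Set G))) := by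
      ext y
      rw [MonoidHom.mem_ker, hker, mem_zpowers_iff, mem_zpowers_iff]
      exact ⟨fun ⟨i, hi⟩ => ⟨i, Subtype.ext (by rw [← hi]; rfl)⟩, fun ⟨i, hi⟩ => ⟨i, by rw [← hi]; rfl⟩⟩
    rw [this, Nat.card_zpowers, ← orderOf_coe]
    exact orderOf_bb T
  have hJ : Nat.card ↥(centralizer ({bb T} : Set G)) = 5 * 604800 := by
    rw [card_eq_card_quotient_mul_card_subgroup χ.ker,
      Nat.card_congr (QuotientGroup.quotientKerEquivOfSurjective χ hsur).toEquiv, D.order_eq.1, hk5]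
  refine ⟨_, map_subtype_le _, by rw [hJ, hL], hL, fun c hc l hl => ?_, hC⟩
  obtain ⟨l', hl', rfl⟩ := hl
  haveI := CfsgLib.Comp.layer_normal ↥(Cfg.CB (bb T))
  exact ⟨⟨c, mem_centralizer_singleton_iff.2 hc⟩ * l' * ⟨c, mem_centralizer_singleton_iff.2 hc⟩⁻¹,
    (inferInstance : L0.Normal).conj_mem _ hl' _, rfl⟩

end CfsgLib.StructB.CoA9
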