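import Cfsg.Agent.Lib.StructB.CoA9.DStruct

/-!
The element `v` of order seven: `C(v) ∩ C(ρ) = A₇`, and the involution `δ` inverts `v`.
-/

set_option autoImplicit false
set_option maxRecDepth 20000
set_option synthInstance.maxSize 2000
set_option Elab.async false

namespace CfsgLib.StructB.CoA9

open Subgroup CfsgLib.Trans3.ExtraTwo CfsgLib.ClassK.Conway Equiv

local notation "A8" => alternatingGroup (Fin 8)
local notation "A9" => alternatingGroup (Fin 9)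

/-- The involution `(01)(78)` of the nine points. -/
def dd : A9 := ⟨swap 0 1 * swap 7 8, Perm.mem_alternatingGroup.2 (by decide +kernel)⟩

theorem dd_facts : dd * dd = 1 ∧ dd.1 7 = 8 ∧ dd.1 8 = 7 ∧ (Fin.castSucc (7 : Fin 8)) = (7 : Fin 9) ∧
    Fin.last 8 = (8 : Fin 9) := by decide +kernel

theorem st7_move : ∀ j : Fin 9, j ≠ 7 → j ≠ 8 →
    ∃ a b c : Fin 7, a ≠ b ∧ a ≠ c ∧ ∃ i : Fin 8, i.castSucc = j ∧ cyc a b c i ≠ i := by decide +kernel

theorem solve7 : ∀ a : Fin 7, ∀ b : Fin 3, b.1 ≠ 0 →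
    ∃ c : Fin 7, (c.1 * 2 ^ b.1 + a.1) % 7 = c.1 % 7 := by decide +kernel

universe u

variable {G : Type u} [Group G] [Finite G] {z : G} {Q : Subgroup G} {e : ↥Q ≃* ES 4 (ff 4)} {ρ : G}
variable {T : Tri z Q e ρ} {v : G}

namespace Vee

variable (V : Vee T v)
include V

theorem ne_one : v ≠ 1 := fun h => by
  have := V.ord; rw [h, orderOf_one] at this; norm_num at this

theorem pow7 : v ^ 7 = 1 := V.ord ▸ pow_orderOf_eq_one v

theorem conj_pow_v (b k : ℕ) : ρ ^ b * v ^ k = v ^ (k * 2 ^ b) * ρ ^ b := by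
  induction b with
  | zero => simp
  | succ b ih =>
    have h1 : ∀ m : ℕ, ρ * v ^ m = v ^ (2 * m) * ρ := fun m => by
      rw [pow_mul, ← V.conj, conj_pow, inv_mul_cancel_right]
    rw [pow_succ', mul_assoc, ih, ← mul_assoc, h1, mul_assoc]
    congr 2
    rw [pow_succ]; ring

theorem pow_eq_iff {a b : ℕ} : v ^ a = v ^ b ↔ a % 7 = b % 7 := by
  rw [pow_eq_pow_iff_modEq, V.ord]; rfl

/-- The conjugate by `q` is normalised with the inverse exponent. -/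
theorem conj_q : ρ * (qe e * v * qe e) * ρ⁻¹ = (qe e * v * qe e) ^ 4 := by
  have hqq := T.setup.xe_facts.2.2.2.2.2.1
  have hqi : (qe e)⁻¹ = qe e := inv_eq_of_mul_eq_one_right hqq
  have hρq : ρ * qe e = qe e * ρ⁻¹ := by
    rw [← T.qrq, show qe e * (qe e * ρ * qe e) = (qe e * qe e) * (ρ * qe e) by group, hqq, one_mul]
  have hri : ρ⁻¹ * v * ρ = v ^ 4 := by
    have h := V.conj_pow_v 1 4
    rw [show 4 * 2 ^ 1 = 7 + 1 from rfl, pow_add, V.pow7, one_mul, pow_one, pow_one] at h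
    calc ρ⁻¹ * v * ρ = ρ⁻¹ * (ρ * v ^ 4) := by rw [h]; group
      _ = v ^ 4 := by group
  have hqρ : qe e * ρ⁻¹ = ρ * qe e := hρq.symm
  have hpow : ∀ n : ℕ, (qe e * v * qe e) ^ n = qe e * v ^ n * qe e := fun n => by
    have := (conj_pow (a := qe e) (b := v) (i := n))
    rwa [hqi] at this
  rw [hpow, ← hri]
  calc ρ * (qe e * v * qe e) * ρ⁻¹ = (ρ * qe e) * v * (qe e * ρ⁻¹) := by group
    _ = qe e * ρ⁻¹ * v * (ρ * qe e) := by rw [hρq, ← hρq]
    _ = qe e * (ρ⁻¹ * v * ρ) * qe e := by group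

theorem not_mem_of_exp {w : G} (hw : ρ * w * ρ⁻¹ = w ^ 2) (h : w ∈ zpowers (qe e * v * qe e)) :
    w = 1 := by
  obtain ⟨i, hi⟩ := mem_zpowers_iff.1 h
  have h4 : ρ * w * ρ⁻¹ = w ^ 4 := by
    rw [← hi, ← conj_zpow, V.conj_q, ← zpow_natCast, ← zpow_natCast, ← zpow_mul, ← zpow_mul, mul_comm]
  have h2 : w ^ 2 = 1 := by
    have h : w ^ 2 * w ^ 2 = w ^ 2 * 1 := by rw [← pow_add, mul_one]; exact h4.symm.trans hw
    exact mul_left_cancel h
  have h7 : w ^ 7 = 1 := by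
    rw [← hi, ← zpow_natCast, ← zpow_mul, mul_comm, zpow_mul, zpow_natCast]
    have hqq := T.setup.xe_facts.2.2.2.2.2.1
    have := (conj_pow (a := qe e) (b := v) (i := 7))
    rw [inv_eq_of_mul_eq_one_right hqq, V.pow7, mul_one, hqq] at this
    rw [this, one_zpow]
  rw [pow_succ, show (6 : ℕ) = 2 * 3 from rfl, pow_mul, h2, one_pow, one_mul] at h7
  exact h7

theorem not_norm : qe e * v * qe e ∉ zpowers v := fun h => by
  have hqq := T.setup.xe_facts.2.2.2.2.2.1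
  obtain ⟨i, hi⟩ := mem_zpowers_iff.1 h
  refine V.ne_one (V.not_mem_of_exp V.conj (mem_zpowers_iff.2 ⟨i, ?_⟩))
  have := conj_zpow (a := qe e) (b := v) (i := i)
  rw [inv_eq_of_mul_eq_one_right hqq] at this
  rw [this, hi, show qe e * (qe e * v * qe e) * qe e = (qe e * qe e) * v * (qe e * qe e) by group,
    hqq, one_mul, mul_one]

/-- The normaliser of `⟨v⟩` in `C(A₇)`. -/
theorem norm_elems (hcard : Nat.card ↥(D7 T) = 168) {n : G} (hn : n ∈ D7 T)
    (hnv : n * v * n⁻¹ ∈ zpowers v) : ∃ a : Fin 7, ∃ b : Fin 3, n = v ^ a.1 * ρ ^ b.1 := by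
  classical
  haveI : Fact (Nat.Prime 7) := ⟨by norm_num⟩
  obtain ⟨-, -, hρD, hqD⟩ := gen_mem_D7 T
  set vv : ↥(D7 T) := ⟨v, V.mem⟩ with hvv
  set P0 := zpowers vv
  have hP0 : Nat.card ↥P0 = 7 := by rw [Nat.card_zpowers, ← orderOf_coe]; exact V.ord
  obtain ⟨P, hP⟩ := (IsPGroup.of_card (p := 7) (n := 1) (by rw [hP0, pow_one]) :
    IsPGroup 7 ↥P0).exists_le_sylow
  have hPc : Nat.card ↥(P : Subgroup ↥(D7 T)) = 7 := by
    obtain ⟨k, hk⟩ := IsPGroup.iff_card.1 P.isPGroup'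
    have h1 := card_dvd_of_le hP
    have h2 := Subgroup.card_subgroup_dvd_card (P : Subgroup ↥(D7 T))
    rw [hP0, hk] at h1
    rw [hk, hcard] at h2
    rw [hk]
    match k with
    | 0 => norm_num at h1
    | 1 => rfl
    | k + 2 => exact absurd ((Dvd.intro_left _ (pow_add 7 k 2).symm).trans h2) (by norm_num)
  have hPeq : (P : Subgroup ↥(D7 T)) = P0 :=
    (eq_of_le_of_card_ge hP (by rw [hPc, hP0])).symm
  set Nv := normalizer ((P : Subgroup ↥(D7 T)) : Set ↥(D7 T)) with hNv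
  have hmem : ∀ g : ↥(D7 T), (g : G) * v * (g : G)⁻¹ ∈ zpowers v → g ∈ Nv := by
    intro g hg
    refine Sylow.smul_eq_iff_mem_normalizer.1 (Sylow.ext ?_)
    rw [Sylow.coe_subgroup_smul, hPeq]
    show P0.map (MulAut.conj g).toMonoidHom = P0
    rw [MonoidHom.map_zpowers]
    refine eq_of_le_of_card_ge (zpowers_le.2 ?_) (le_of_eq ?_)
    · obtain ⟨i, hi⟩ := mem_zpowers_iff.1 hg
      exact mem_zpowers_iff.2 ⟨i, Subtype.ext (by rw [SubgroupClass.coe_zpow]; exact hi)⟩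
    · rw [Nat.card_zpowers, Nat.card_zpowers, orderOf_injective _ (MulAut.conj g).injective]
  have hne : ¬ Nat.card (Sylow 7 ↥(D7 T)) = 1 := fun h1 => by
    haveI := (Nat.card_eq_one_iff_unique.1 h1).1
    haveI hnP : (P : Subgroup ↥(D7 T)).Normal := P.normal_of_subsingleton
    have h := hnP.conj_mem vv (hPeq ▸ mem_zpowers vv) ⟨qe e, hqD⟩
    rw [hPeq] at h
    obtain ⟨i, hi⟩ := mem_zpowers_iff.1 h
    have := congrArg Subtype.val hi
    rw [SubgroupClass.coe_zpow] at this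
    refine V.not_norm (mem_zpowers_iff.2 ⟨i, ?_⟩)
    rw [this]
    show qe e * v * (qe e)⁻¹ = _
    rw [inv_eq_of_mul_eq_one_right T.setup.xe_facts.2.2.2.2.2.1]
  have hN21 : Nat.card ↥Nv ≤ 21 := by
    have h1 := card_sylow_modEq_one 7 ↥(D7 T)
    have h2 : Nat.card (Sylow 7 ↥(D7 T)) ∣ 168 :=
      hcard ▸ (Sylow.card_dvd_index P).trans (Subgroup.index_dvd_card _)
    have key : ∀ d ∈ Nat.divisors 168, d % 7 = 1 → d ≠ 1 → d = 8 := by decide +kernel
    have h8 := key _ (Nat.mem_divisors.2 ⟨h2, by norm_num⟩) h1 hne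
    have h := Subgroup.card_mul_index Nv
    have hi : Nv.index = 8 := (Sylow.card_eq_index_normalizer P).symm.trans h8
    rw [hi, hcard] at h
    omega
  let f : Fin 7 × Fin 3 → ↥Nv := fun p =>
    ⟨vv ^ p.1.1 * (⟨ρ, hρD⟩ : ↥(D7 T)) ^ p.2.1, mul_mem (pow_mem (le_normalizer (hPeq ▸ mem_zpowers vv)) _)
      (pow_mem (hmem ⟨ρ, hρD⟩ (by show ρ * v * ρ⁻¹ ∈ _; rw [V.conj]; exact pow_mem (mem_zpowers v) _)) _)⟩
  have hinj : Function.Injective f := by
    rintro ⟨a, b⟩ ⟨a', b'⟩ h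
    have h' : v ^ a.1 * ρ ^ b.1 = v ^ a'.1 * ρ ^ b'.1 := by
      have := congrArg (fun x : ↥Nv => ((x : ↥(D7 T)) : G)) h
      simpa [f, hvv] using this
    have hρ3 : orderOf ρ = 3 := orderOf_rho T
    have h2 : (v ^ a'.1)⁻¹ * v ^ a.1 = ρ ^ b'.1 * (ρ ^ b.1)⁻¹ := by
      calc (v ^ a'.1)⁻¹ * v ^ a.1 = (v ^ a'.1)⁻¹ * (v ^ a.1 * ρ ^ b.1) * (ρ ^ b.1)⁻¹ := by group
        _ = _ := by rw [h']; group
    have h3 : (v ^ a'.1)⁻¹ * v ^ a.1 = 1 := by
      have hd1 := (zpowers v).orderOf_dvd_natCard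
        (mul_mem (inv_mem (pow_mem (mem_zpowers v) a'.1)) (pow_mem (mem_zpowers v) a.1))
      have hd2 := (zpowers ρ).orderOf_dvd_natCard
        (mul_mem (pow_mem (mem_zpowers ρ) b'.1) (inv_mem (pow_mem (mem_zpowers ρ) b.1)))
      rw [← h2, Nat.card_zpowers, hρ3] at hd2
      rw [Nat.card_zpowers, V.ord] at hd1
      exact orderOf_eq_one_iff.1 (Nat.eq_one_of_dvd_coprimes (by norm_num) hd1 hd2)
    rw [h3] at h2
    have ha := V.pow_eq_iff.1 (inv_mul_eq_one.1 h3)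
    have hb : ρ ^ b.1 = ρ ^ b'.1 := (mul_inv_eq_one.1 h2.symm).symm
    rw [pow_eq_pow_iff_modEq, hρ3] at hb
    have hb' : b.1 % 3 = b'.1 % 3 := hb
    exact Prod.ext (Fin.ext (show a.1 = a'.1 by omega)) (Fin.ext (show b.1 = b'.1 by omega))
  have hbij : Function.Bijective f :=
    hinj.bijective_of_nat_card_le (by simp only [Nat.card_prod, Nat.card_fin]; exact hN21)
  obtain ⟨⟨a, b⟩, hab⟩ := hbij.2 ⟨⟨n, hn⟩, hmem _ hnv⟩
  refine ⟨a, b, ?_⟩
  have := congrArg (fun x : ↥Nv => ((x : ↥(D7 T)) : G)) hab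
  simpa [f, hvv] using this.symm

/-- `v` generates its centraliser in `C(A₇)`. -/
theorem cent_D7 (hcard : Nat.card ↥(D7 T) = 168) {n : G} (hn : n ∈ D7 T) (hc : n * v = v * n) :
    n ∈ zpowers v := by
  obtain ⟨a, b, rfl⟩ := V.norm_elems hcard hn (by rw [hc, mul_inv_cancel_right]; exact mem_zpowers v)
  have hb : Commute (ρ ^ b.1) v := by
    have := ((Commute.refl v).pow_left a.1).inv_left.mul_left (show Commute (v ^ a.1 * ρ ^ b.1) v from hc)
    rwa [inv_mul_cancel_left] at this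
  have h := V.conj_pow_v b.1 1
  rw [pow_one, one_mul, hb.eq] at h
  have h1 : v ^ 1 = v ^ (2 ^ b.1) := by rw [pow_one]; exact mul_right_cancel h
  rw [V.pow_eq_iff] at h1
  have : b.1 = 0 := by
    have key : ∀ b : Fin 3, 1 % 7 = 2 ^ b.1 % 7 → b.1 = 0 := by decide
    exact key b h1
  rw [this, pow_zero, mul_one]
  exact pow_mem (mem_zpowers v) _

/-- The elements with the same exponent under `ρ` lie in `⟨v⟩`. -/
theorem eq_of_exp (hcard : Nat.card ↥(D7 T) = 168)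
    (hC : ∀ g ∈ D7 T, g * ρ = ρ * g → g ∈ zpowers ρ) {w : G} (hw : w ∈ D7 T) (hw7 : w ^ 7 = 1)
    (hwe : ρ * w * ρ⁻¹ = w ^ 2) : w ∈ zpowers v := by
  classical
  haveI : Fact (Nat.Prime 7) := ⟨by norm_num⟩
  by_cases hw1 : w = 1
  · rw [hw1]; exact one_mem _
  obtain ⟨-, -, hρD, hqD⟩ := gen_mem_D7 T
  have hwo : orderOf w = 7 := orderOf_eq_prime hw7 hw1
  -- Sylow
  obtain ⟨d, hd, i, hdi⟩ : ∃ d ∈ D7 T, ∃ i : ℤ, w = d * v ^ i * d⁻¹ := by
    set vv : ↥(D7 T) := ⟨v, V.mem⟩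
    set ww : ↥(D7 T) := ⟨w, hw⟩
    have hc : ∀ x : ↥(D7 T), orderOf x = 7 → ∃ P : Sylow 7 ↥(D7 T), (P : Subgroup ↥(D7 T)) = zpowers x := by
      intro x hx
      refine ⟨Sylow.ofCard (zpowers x) ?_, rfl⟩
      rw [Nat.card_zpowers, hx, hcard]
      have : (Nat.factorization 168) 7 = 1 := by
        rw [← Nat.primeFactorsList_count_eq,
          show Nat.primeFactorsList 168 = [2, 2, 2, 3, 7] by norm_num [Nat.primeFactorsList]]
        rfl
      rw [this, pow_one]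
    obtain ⟨P, hP⟩ := hc vv (by rw [← orderOf_coe]; exact V.ord)
    obtain ⟨P', hP'⟩ := hc ww (by rw [← orderOf_coe]; exact hwo)
    obtain ⟨d, hd⟩ := MulAction.exists_smul_eq ↥(D7 T) P P'
    have h : ww ∈ (P : Subgroup ↥(D7 T)).map (MulAut.conj d).toMonoidHom := by
      have h2 : ((d • P : Sylow 7 ↥(D7 T)) : Subgroup ↥(D7 T)) = zpowers ww := by rw [hd, hP']
      rw [Sylow.coe_subgroup_smul] at h2
      change (P : Subgroup ↥(D7 T)).map (MulAut.conj d).toMonoidHom = zpowers ww at h2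
      exact (SetLike.ext_iff.1 h2 ww).2 (mem_zpowers ww)
    obtain ⟨x, hx, hxd⟩ := h
    rw [hP] at hx
    obtain ⟨i, rfl⟩ := mem_zpowers_iff.1 hx
    exact ⟨d, d.2, i, (congrArg Subtype.val hxd).symm.trans (by
      show (d : G) * ((vv ^ i : ↥(D7 T)) : G) * (d : G)⁻¹ = _
      rw [SubgroupClass.coe_zpow])⟩
  -- move `ρ`
  set n := d⁻¹ * ρ * d with hn
  have hnD : n ∈ D7 T := mul_mem (mul_mem (inv_mem hd) hρD) hd
  have hvi : v ^ i ≠ 1 := fun h => hw1 (by rw [hdi, h, mul_one, mul_inv_cancel])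
  have hgen : ∃ j : ℤ, (v ^ i) ^ j = v := by
    have htop : zpowers (v ^ i) = zpowers v := eq_of_le_of_card_ge
      (zpowers_le.2 (zpow_mem (mem_zpowers v) i)) (le_of_eq (by
        rw [Nat.card_zpowers, Nat.card_zpowers, V.ord]
        refine (orderOf_eq_prime ?_ hvi).symm
        rw [← zpow_natCast, ← zpow_mul, mul_comm, zpow_mul, zpow_natCast, V.pow7, one_zpow]))
    exact mem_zpowers_iff.1 (htop ▸ mem_zpowers v)
  have hnv : n * v * n⁻¹ ∈ zpowers v := by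
    obtain ⟨j, hj⟩ := hgen
    have e1 : n * v ^ i * n⁻¹ = (v ^ i) ^ 2 := by
      calc n * v ^ i * n⁻¹ = d⁻¹ * (ρ * (d * v ^ i * d⁻¹) * ρ⁻¹) * d := by rw [hn]; group
        _ = d⁻¹ * w ^ 2 * d := by rw [← hdi, hwe]
        _ = (v ^ i) ^ 2 := by rw [hdi, conj_pow]; group
    have h : n * (v ^ i) ^ j * n⁻¹ ∈ zpowers v := by
      rw [← conj_zpow, e1]
      exact zpow_mem (pow_mem (zpow_mem (mem_zpowers v) i) 2) j
    rwa [hj] at h
  obtain ⟨a, b, hab⟩ := V.norm_elems hcard hnD hnv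
  have hb0 : b.1 ≠ 0 := fun h => by
    rw [h, pow_zero, mul_one] at hab
    have h3 : n ^ 3 = 1 := by
      rw [hn, show d⁻¹ * ρ * d = d⁻¹ * ρ * (d⁻¹)⁻¹ by rw [inv_inv], conj_pow, pow_succ, pow_two, T.rho3]
      group
    have h7 : n ^ 7 = 1 := by rw [hab, ← pow_mul, mul_comm, pow_mul, V.pow7, one_pow]
    have h1 : n = 1 := by simpa using pow_gcd_eq_one.2 ⟨h3, h7⟩
    refine rho_ne T ?_
    calc ρ = d * n * d⁻¹ := by rw [hn]; group
      _ = 1 := by rw [h1, mul_one, mul_inv_cancel]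
  obtain ⟨c, hc⟩ := solve7 a b hb0
  set d' := d * v ^ c.1 with hd'
  have hd'D : d' ∈ D7 T := mul_mem hd (pow_mem V.mem _)
  have hconj : ρ * d' = d' * ρ ^ b.1 := by
    calc ρ * d' = d * n * v ^ c.1 := by rw [hn, hd']; group
      _ = d * (v ^ (a.1 + c.1 * 2 ^ b.1) * ρ ^ b.1) := by
          rw [hab, pow_add, mul_assoc, mul_assoc, V.conj_pow_v b.1 c.1, mul_assoc]
      _ = d' * ρ ^ b.1 := by
          rw [hd', V.pow_eq_iff.2 (show (a.1 + c.1 * 2 ^ b.1) % 7 = c.1 % 7 by rw [add_comm]; exact hc),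
            mul_assoc]
  have hw' : w = d' * v ^ i * d'⁻¹ := by
    rw [hdi, hd', mul_inv_rev, ← zpow_natCast]; group
  have hb12 : b.1 = 1 ∨ b.1 = 2 := by omega
  have hqq := T.setup.xe_facts.2.2.2.2.2.1
  rcases hb12 with hb | hb <;> rw [hb] at hconj
  · rw [pow_one] at hconj
    obtain ⟨k, hk⟩ := mem_zpowers_iff.1 (hC d' hd'D hconj.symm)
    rw [hw', ← hk, ← conj_zpow]
    refine zpow_mem ?_ i
    have hN : ρ ∈ normalizer ((zpowers v : Subgroup G) : Set G) := by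
      refine Subgroup.mem_normalizer_iff.2 fun x => ?_
      have hmap : (zpowers v).map (MulAut.conj ρ).toMonoidHom = zpowers v := by
        refine eq_of_le_of_card_ge ?_ (le_of_eq (card_map_of_injective (MulAut.conj ρ).injective).symm)
        rw [MonoidHom.map_zpowers]
        refine zpowers_le.2 ?_
        show ρ * v * ρ⁻¹ ∈ _
        rw [V.conj]; exact pow_mem (mem_zpowers v) 2
      constructor
      · intro hx; rw [← hmap]; exact ⟨x, hx, rfl⟩
      · intro hx; rw [← hmap] at hx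
        obtain ⟨y, hy, hyx⟩ := hx
        rwa [mul_left_cancel (mul_right_cancel hyx)] at hy
    exact (Subgroup.mem_normalizer_iff.1 (zpow_mem hN k) v).1 (mem_zpowers v)
  · exfalso
    have hρ2 : ρ ^ 2 = ρ⁻¹ := eq_inv_of_mul_eq_one_left (by rw [pow_two, T.rho3])
    rw [hρ2] at hconj
    have hρq : qe e * ρ⁻¹ = ρ * qe e := by
      rw [← T.qrq, show qe e * (qe e * ρ * qe e) = (qe e * qe e) * (ρ * qe e) by group, hqq, one_mul]
    have hcm : d' * qe e * ρ = ρ * (d' * qe e) := by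
      have hq' : qe e * ρ = ρ⁻¹ * qe e := by
        rw [← T.qrq, mul_assoc (qe e * ρ), hqq, mul_one]
      rw [mul_assoc, hq', ← mul_assoc, ← hconj, mul_assoc]
    obtain ⟨k, hk⟩ := mem_zpowers_iff.1 (hC _ (mul_mem hd'D hqD) hcm)
    refine hw1 (V.not_mem_of_exp hwe ?_)
    have hd'k : d' = ρ ^ k * qe e := by rw [hk, mul_assoc, hqq, mul_one]
    rw [hw', hd'k, show ρ ^ k * qe e * v ^ i * (ρ ^ k * qe e)⁻¹ =
      ρ ^ k * (qe e * v * (qe e)⁻¹) ^ i * (ρ ^ k)⁻¹ by rw [conj_zpow]; group,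
      inv_eq_of_mul_eq_one_right hqq]
    set u := qe e * v * qe e with hu
    have hN : ρ ∈ normalizer ((zpowers u : Subgroup G) : Set G) := by
      refine Subgroup.mem_normalizer_iff.2 fun x => ?_
      have hmap : (zpowers u).map (MulAut.conj ρ).toMonoidHom = zpowers u := by
        refine eq_of_le_of_card_ge ?_ (le_of_eq (card_map_of_injective (MulAut.conj ρ).injective).symm)
        rw [MonoidHom.map_zpowers]
        refine zpowers_le.2 ?_
        show ρ * u * ρ⁻¹ ∈ _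
        rw [hu, V.conj_q]; exact pow_mem (mem_zpowers _) 4
      constructor
      · intro hx; rw [← hmap]; exact ⟨x, hx, rfl⟩
      · intro hx; rw [← hmap] at hx
        obtain ⟨y, hy, hyx⟩ := hx
        rwa [mul_left_cancel (mul_right_cancel hyx)] at hy
    exact (Subgroup.mem_normalizer_iff.1 (zpow_mem hN k) _).1 (zpow_mem (mem_zpowers u) i)

variable {pt : Fin 9 → G} {θ : ↥(RR e ρ) ≃* A9} (N : Nine T pt θ)
include N

/-- The elements of `R` centralising `v`. -/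
theorem cent_RR {g : G} (hg : g ∈ RR e ρ) (hgv : g * v = v * g) : g ∈ LamS T := by
  have hle : D7 T ≤ centralizer ({g} : Set G) := V.gen _ (mem_centralizer_singleton_iff.2 hgv.symm)
    (mem_centralizer_singleton_iff.2 (mem_RR.1 hg).2.symm)
    (mem_centralizer_singleton_iff.2 (mem_RR.1 hg).1.symm)
  have hcz : g * z = z * g := (mem_centralizer_singleton_iff.1 (hle (gen_mem_D7 T).1)).symm
  obtain ⟨σ, hσ⟩ := cent_z_RR T hg hcz
  have hyD : pt (Fin.castSucc (7 : Fin 8)) ∈ D7 T := (mem_D7 T).2 fun π hπ => by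
    have h := N.act ⟨lam T π, lam_mem_RR T π⟩ (Fin.castSucc (7 : Fin 8))
    rw [N.lam_cast, hπ] at h
    exact mul_inv_eq_iff_eq_mul.1 h
  refine ⟨σ, ?_, hσ⟩
  show σ.1 7 = 7
  have h := N.act ⟨lam T σ, lam_mem_RR T σ⟩ (Fin.castSucc (7 : Fin 8))
  rw [N.lam_cast] at h
  refine Fin.castSucc_injective _ (N.inj (h.symm.trans ?_))
  show lam T σ * _ * (lam T σ)⁻¹ = _
  rw [hσ]
  exact mul_inv_eq_iff_eq_mul.2 (mem_centralizer_singleton_iff.1 (hle hyD)).symm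

omit N in
theorem lamS_comm {g : G} (hg : g ∈ LamS T) : g * v = v * g :=
  mem_centralizer_iff.1 V.mem g hg

theorem norm_LamS {r : G} (hr : r ∈ RR e ρ) (hD : ∀ d ∈ D7 T, r * d * r⁻¹ ∈ D7 T) :
    ∀ a ∈ LamS T, r⁻¹ * a * r ∈ LamS T := by
  intro a ha
  have haR : a ∈ RR e ρ := by
    obtain ⟨σ, -, rfl⟩ := ha; exact lam_mem_RR T σ
  refine V.cent_RR N (mul_mem (mul_mem (inv_mem hr) haR) hr) ?_
  have h := mem_centralizer_iff.1 (hD v V.mem) a ha
  calc r⁻¹ * a * r * v = r⁻¹ * (a * (r * v * r⁻¹)) * r := by group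
    _ = r⁻¹ * (r * v * r⁻¹ * a) * r := by rw [h]
    _ = v * (r⁻¹ * a * r) := by group

omit V in
theorem mem_LamS_iff {r : ↥(RR e ρ)} : (r : G) ∈ LamS T ↔ (θ r).1 7 = 7 ∧ (θ r).1 8 = 8 := by
  obtain ⟨-, -, -, h7, h8⟩ := dd_facts
  rw [← h7, ← h8]
  constructor
  · rintro ⟨σ, hσ, hσr⟩
    obtain rfl : r = ⟨lam T σ, lam_mem_RR T σ⟩ := Subtype.ext hσr.symm
    exact ⟨by rw [N.lam_cast, show σ.1 7 = 7 from hσ], N.lam_last σ⟩
  · rintro ⟨ha, hb⟩
    have h := N.act r (Fin.last 8)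
    rw [hb, N.last] at h
    obtain ⟨σ, hσ⟩ := cent_z_RR T r.2 (mul_inv_eq_iff_eq_mul.1 h)
    obtain rfl : r = ⟨lam T σ, lam_mem_RR T σ⟩ := Subtype.ext hσ.symm
    refine ⟨σ, ?_, rfl⟩
    rw [N.lam_cast] at ha
    exact Fin.castSucc_injective _ ha

/-- The involution `δ` normalises `C(A₇)`. -/
theorem dd_D7 : ∀ d ∈ D7 T, (θ.symm dd : G) * d * (θ.symm dd : G)⁻¹ ∈ D7 T := by
  intro d hd
  set r := θ.symm dd with hr
  obtain ⟨h2, h78, h87, -, -⟩ := dd_facts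
  refine mem_centralizer_iff.2 fun a ha => ?_
  obtain ⟨σ, hσ, rfl⟩ := ha
  set l : ↥(RR e ρ) := ⟨lam T σ, lam_mem_RR T σ⟩
  obtain ⟨l7, l8⟩ := (mem_LamS_iff N (r := l)).1 ⟨σ, hσ, rfl⟩
  have ha' : ((r⁻¹ * l * r : ↥(RR e ρ)) : G) ∈ LamS T := (mem_LamS_iff N).2 (by
    rw [map_mul, map_mul, map_inv, hr, MulEquiv.apply_symm_apply]
    refine ⟨?_, ?_⟩
    · show dd.1.symm ((θ l).1 (dd.1 7)) = 7
      rw [h78, l8, Equiv.symm_apply_eq, h78]
    · show dd.1.symm ((θ l).1 (dd.1 8)) = 8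
      rw [h87, l7, Equiv.symm_apply_eq, h87])
  have h : (r : G)⁻¹ * lam T σ * r * d = d * ((r : G)⁻¹ * lam T σ * r) :=
    mem_centralizer_iff.1 hd _ ha'
  calc lam T σ * ((r : G) * d * (r : G)⁻¹) = r * ((r : G)⁻¹ * lam T σ * r * d) * (r : G)⁻¹ := by group
    _ = r * d * (r : G)⁻¹ * lam T σ := by rw [h]; group

theorem dd_inv (hq : HasOmega z Q) :
    (θ.symm dd : G) * v * (θ.symm dd : G)⁻¹ = v⁻¹ := by
  classical
  set r := θ.symm dd with hr
  obtain ⟨h2, h78, -, -, -⟩ := dd_facts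
  have hcard := D7_card T N hq
  have hrρ : Commute (r : G) ρ := (mem_RR.1 r.2).2
  set w := (r : G) * v * (r : G)⁻¹ with hw
  have hwv : w ∈ zpowers v := by
    refine V.eq_of_exp hcard (fun g => D7_cent_rho T N hq) (dd_D7 V N v V.mem) ?_ ?_
    · rw [hw, conj_pow, V.pow7]; group
    · calc ρ * w * ρ⁻¹ = (ρ * r) * v * ((r : G)⁻¹ * ρ⁻¹) := by rw [hw]; group
        _ = r * (ρ * v * ρ⁻¹) * (r : G)⁻¹ := by
            rw [← hrρ.eq, ← mul_inv_rev, ← hrρ.eq, mul_inv_rev]; group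
        _ = w ^ 2 := by rw [V.conj, hw, conj_pow]
  haveI : Fact (Nat.Prime 7) := ⟨by norm_num⟩
  rw [mem_zpowers_iff_mem_range_orderOf, V.ord] at hwv
  obtain ⟨m, hm, hmw⟩ := Finset.mem_image.1 hwv
  have hrr : (r : G) * r = 1 := by
    rw [← Subgroup.coe_mul, hr, ← map_mul, h2, map_one]; rfl
  have hmm : v ^ (m * m) = v ^ 1 := by
    have hmw' : (r : G) * v * (r : G)⁻¹ = v ^ m := hmw.symm
    rw [pow_one, pow_mul, ← hmw', conj_pow, ← hmw']
    calc (r : G) * (r * v * (r : G)⁻¹) * (r : G)⁻¹ = (r * r) * v * ((r : G) * r)⁻¹ := by group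
      _ = v := by rw [hrr]; group
  rw [V.pow_eq_iff] at hmm
  have hm1 : m ≠ 1 := fun h => by
    rw [h, pow_one] at hmw
    have hc : (r : G) * v = v * r := mul_inv_eq_iff_eq_mul.1 hmw.symm
    have h8 := (mem_LamS_iff N (r := r)).1 (V.cent_RR N r.2 hc)
    rw [hr, MulEquiv.apply_symm_apply, h78] at h8
    exact absurd h8.1 (by decide)
  have key : ∀ m ∈ Finset.range 7, m * m % 7 = 1 % 7 → m ≠ 1 → m = 6 := by decide
  rw [← hmw, key m hm hmm hm1]
  refine eq_inv_of_mul_eq_one_left ?_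
  rw [← pow_succ]; exact V.pow7

/-- `C(v) ∩ C(ρ) = A₇`. -/
theorem cent_rho (hq : HasOmega z Q) {g : G} (hgv : g * v = v * g) (hgr : g * ρ = ρ * g) :
    g ∈ LamS T := by
  classical
  obtain ⟨a, ha, r, hr, rfl⟩ := cent_rho_split T N hq hgr
  rw [mem_zpowers_iff_mem_range_orderOf, orderOf_rho T] at ha
  obtain ⟨i, hi, rfl⟩ := Finset.mem_image.1 ha
  obtain ⟨h2, h78, h87, -, -⟩ := dd_facts
  set r' : ↥(RR e ρ) := ⟨r, hr⟩ with hr'
  obtain ⟨k, hk, hrv⟩ : ∃ k, k = 2 ^ (2 * i) ∧ r * v * r⁻¹ = v ^ k := by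
    refine ⟨_, rfl, ?_⟩
    have e1 : r * v * r⁻¹ = (ρ ^ i)⁻¹ * v * ρ ^ i := by
      calc r * v * r⁻¹ = (ρ ^ i)⁻¹ * (ρ ^ i * r * v) * r⁻¹ := by group
        _ = _ := by rw [hgv]; group
    have h3 : ρ ^ (2 * i) * ρ ^ i = 1 := by
      rw [← pow_add, show 2 * i + i = 3 * i by ring, pow_mul, pow_succ, pow_two, T.rho3, one_pow]
    rw [e1, ← eq_inv_of_mul_eq_one_left h3]
    calc ρ ^ (2 * i) * v * ρ ^ i = ρ ^ (2 * i) * v ^ 1 * ρ ^ i := by rw [pow_one]
      _ = v ^ (2 ^ (2 * i)) * (ρ ^ (2 * i) * ρ ^ i) := by rw [V.conj_pow_v, one_mul, mul_assoc]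
      _ = _ := by rw [h3, mul_one]
  -- `r` normalises `C(A₇)`
  have hD : ∀ d ∈ D7 T, r * d * r⁻¹ ∈ D7 T := by
    have hle : D7 T ≤ (D7 T).comap (MulAut.conj r).toMonoidHom := by
      refine V.gen _ ?_ ?_ ?_
      · show r * v * r⁻¹ ∈ D7 T
        rw [hrv]; exact pow_mem V.mem _
      · show r * ρ * r⁻¹ ∈ D7 T
        rw [(mem_RR.1 hr).2, mul_inv_cancel_right]; exact (gen_mem_D7 T).2.2.1
      · show r * qe e * r⁻¹ ∈ D7 T
        rw [(mem_RR.1 hr).1, mul_inv_cancel_right]; exact (gen_mem_D7 T).2.2.2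
    exact fun d hd => hle hd
  have hnL := V.norm_LamS N hr hD
  have hfix : ∀ j : Fin 9, (∀ a : ↥(RR e ρ), (a : G) ∈ LamS T → (θ a).1 j = j) → j = 7 ∨ j = 8 := by
    intro j hj
    by_contra hcon
    push Not at hcon
    obtain ⟨a, b, c, hab, hac, x, hx, hmv⟩ := st7_move j hcon.1 hcon.2
    set σ : A8 := ⟨cyc a b c, cyc_sign a b c hab hac⟩
    have h := hj ⟨lam T σ, lam_mem_RR T σ⟩ ⟨σ, cyc_seven a b c, rfl⟩
    rw [← hx, N.lam_cast] at h
    exact hmv (Fin.castSucc_injective _ h)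
  have himg : ∀ j : Fin 9, j = 7 ∨ j = 8 → (θ r').1 j = 7 ∨ (θ r').1 j = 8 := by
    intro j hj
    refine hfix _ fun a ha => ?_
    obtain ⟨a7, a8⟩ := (mem_LamS_iff N (r := r'⁻¹ * a * r')).1 (hnL a ha)
    have hja : (θ (r'⁻¹ * a * r')).1 j = j := by rcases hj with rfl | rfl <;> assumption
    rw [map_mul, map_mul, map_inv] at hja
    change (θ r').1.symm ((θ a).1 ((θ r').1 j)) = j at hja
    rwa [Equiv.symm_apply_eq] at hja
  have key : ∀ b : ↥(RR e ρ), (θ b).1 7 = 7 → ((θ b).1 8 = 7 ∨ (θ b).1 8 = 8) → (b : G) ∈ LamS T := by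
    intro b hb7 hb8
    refine (mem_LamS_iff N).2 ⟨hb7, hb8.resolve_left fun h => ?_⟩
    exact absurd ((θ b).1.injective (hb7.trans h.symm)) (by decide)
  have hdrop : ∀ b : G, b * v = v * b → ∀ m : ℕ, b * v * b⁻¹ = v ^ m → m % 7 = 1 := by
    intro b hb m hm
    rw [hb, mul_inv_cancel_right] at hm
    exact (V.pow_eq_iff.1 (hm.symm.trans (pow_one v).symm))
  have hkey : ∀ i ∈ Finset.range 3, 2 ^ (2 * i) % 7 = 1 → i = 0 := by decide
  have hkey2 : ∀ i ∈ Finset.range 3, 2 ^ (2 * i) % 7 ≠ 6 := by decide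
  rcases himg 7 (Or.inl rfl) with h7 | h7
  · have hrL := key r' h7 (himg 8 (Or.inr rfl))
    have := hdrop r (V.lamS_comm hrL) k hrv
    rw [hkey i hi (hk ▸ this), pow_zero, one_mul]
    exact hrL
  · exfalso
    set δ := θ.symm dd with hδ
    have h8 : (θ r').1 8 = 7 := (himg 8 (Or.inr rfl)).resolve_right fun h =>
      absurd ((θ r').1.injective (h7.trans h.symm)) (by decide)
    have hbL : ((δ * r' : ↥(RR e ρ)) : G) ∈ LamS T := by
      refine key _ ?_ (Or.inr ?_) <;> rw [map_mul, hδ, MulEquiv.apply_symm_apply]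
      · show dd.1 ((θ r').1 7) = 7
        rw [h7, h87]
      · show dd.1 ((θ r').1 8) = 8
        rw [h8, h78]
    have hc : Commute ((δ * r' : ↥(RR e ρ)) : G) v := V.lamS_comm hbL
    have hb : (δ : G) * (r * v * r⁻¹) * (δ : G)⁻¹ = v := by
      calc (δ : G) * (r * v * r⁻¹) * (δ : G)⁻¹
          = ((δ * r' : ↥(RR e ρ)) : G) * v * ((δ * r' : ↥(RR e ρ)) : G)⁻¹ := by
            rw [Subgroup.coe_mul, show (r' : G) = r from rfl]; group
        _ = v := by rw [hc.eq, mul_inv_cancel_right]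
    rw [hrv, ← conj_pow, V.dd_inv N hq] at hb
    have h6 : v⁻¹ = v ^ 6 := by
      refine inv_eq_of_mul_eq_one_right ?_
      rw [← pow_succ']; exact V.pow7
    have hb' : v ^ (6 * k) = v ^ 1 := by rw [pow_mul, ← h6, hb, pow_one]
    rw [V.pow_eq_iff] at hb'
    have hlast : ∀ m < 7, 6 * m % 7 = 1 → m = 6 := by decide
    exact hkey2 i hi (hk ▸ hlast (k % 7) (Nat.mod_lt _ (by norm_num)) (by omega))

end Vee

end CfsgLib.StructB.CoA9
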