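import Cfsg.Agent.Lib.StructB.CoA9.VLines

/-!
All elements of order three of `A₇` have centraliser in `C(v)` inside `⟨v⟩ × A₇`.
-/

set_option autoImplicit false
set_option maxRecDepth 20000
set_option synthInstance.maxSize 2000
set_option Elab.async false

namespace CfsgLib.StructB.CoA9

open Subgroup CfsgLib.Trans3.ExtraTwo CfsgLib.ClassK.Conway Equiv

local notation "A7" => alternatingGroup (Fin 7)
local notation "A9" => alternatingGroup (Fin 9)

/-- The three-cycle `(012)` of seven points. -/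
def cx7 : A7 := ⟨swap 0 1 * swap 1 2, Perm.mem_alternatingGroup.2 (by decide +kernel)⟩

/-- The product `(012)(345)` on seven points. -/
def cq7 : A7 :=
  ⟨swap 0 1 * swap 1 2 * (swap 3 4 * swap 4 5), Perm.mem_alternatingGroup.2 (by decide +kernel)⟩

theorem rep_facts : orderOf cx7.1 = 3 ∧ orderOf cq7.1 = 3 ∧ cx7.1.support.card = 3 ∧
    cq7.1.support.card = 6 ∧ swap 3 4 * cx7.1 = cx7.1 * swap 3 4 ∧
    swap 0 3 * swap 1 4 * swap 2 5 * cq7.1 = cq7.1 * (swap 0 3 * swap 1 4 * swap 2 5) ∧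
    Perm.sign (swap (3 : Fin 7) 4) = -1 ∧ Perm.sign (swap (0 : Fin 7) 3 * swap 1 4 * swap 2 5) = -1 := by
  haveI : Fact (Nat.Prime 3) := ⟨by norm_num⟩
  refine ⟨orderOf_eq_prime (by decide +kernel) (by decide +kernel),
    orderOf_eq_prime (by decide +kernel) (by decide +kernel), ?_, ?_, ?_, ?_, ?_, ?_⟩ <;> decide +kernel

theorem e79_reps : e79 cx7 = x9 ∧ e79 cq7 = x9 * y9 := by
  constructor <;> exact Subtype.ext (Equiv.ext (by decide +kernel))

theorem conj_of_support {σ τ : Perm (Fin 7)} (hσ : orderOf σ = 3) (hτ : orderOf τ = 3)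
    (h : σ.support.card = τ.support.card) : IsConj σ τ := by
  haveI : Fact (Nat.Prime 3) := ⟨by norm_num⟩
  obtain ⟨n, hn⟩ := Perm.cycleType_prime_order (σ := σ) (by rw [hσ]; norm_num)
  obtain ⟨m, hm⟩ := Perm.cycleType_prime_order (σ := τ) (by rw [hτ]; norm_num)
  rw [hσ] at hn
  rw [hτ] at hm
  rw [Perm.isConj_iff_cycleType_eq, hn, hm]
  have e1 := Perm.sum_cycleType σ
  have e2 := Perm.sum_cycleType τ
  rw [hn, Multiset.sum_replicate, smul_eq_mul] at e1
  rw [hm, Multiset.sum_replicate, smul_eq_mul] at e2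
  rw [show n = m by omega]

theorem rep_conj (a : A7) (ha : orderOf a = 3) :
    ∃ r : A7, (r = cx7 ∨ r = cq7) ∧ ∃ ε : A7, ε * r * ε⁻¹ = a := by
  classical
  haveI : Fact (Nat.Prime 3) := ⟨by norm_num⟩
  obtain ⟨ox, oq, sx', sq, cx, cq, gx, gq⟩ := rep_facts
  have ha' : orderOf a.1 = 3 := by rw [Subgroup.orderOf_coe, ha]
  obtain ⟨n, hn⟩ := Perm.cycleType_prime_order (σ := a.1) (by rw [ha']; norm_num)
  rw [ha'] at hn
  have e1 := Perm.sum_cycleType a.1
  rw [hn, Multiset.sum_replicate, smul_eq_mul] at e1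
  have hle : a.1.support.card ≤ 7 := (Finset.card_le_univ _).trans (by simp)
  have hmain : ∀ (r : A7) (o : Perm (Fin 7)), IsConj r.1 a.1 → o * r.1 = r.1 * o → Perm.sign o = -1 →
      ∃ ε : A7, ε * r * ε⁻¹ = a := by
    intro r o hc hor hos
    obtain ⟨g, hg⟩ := isConj_iff.1 hc
    rcases Int.units_eq_one_or (Perm.sign g) with h | h
    · exact ⟨⟨g, Perm.mem_alternatingGroup.2 h⟩, Subtype.ext hg⟩
    · refine ⟨⟨g * o, Perm.mem_alternatingGroup.2 (by rw [Perm.sign_mul, h, hos]; rfl)⟩, Subtype.ext ?_⟩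
      show g * o * r.1 * (g * o)⁻¹ = a.1
      rw [← hg, mul_assoc g o, hor]; group
  rcases (show n = 0 ∨ n = 1 by omega) with rfl | rfl
  · exact ⟨cx7, Or.inl rfl, hmain cx7 _ (conj_of_support ox ha' (by rw [sx', ← e1])) cx gx⟩
  · exact ⟨cq7, Or.inr rfl, hmain cq7 _ (conj_of_support oq ha' (by rw [sq, ← e1])) cq gq⟩

universe u

variable {G : Type u} [Group G] [Finite G] {z : G} {Q : Subgroup G} {e : ↥Q ≃* ES 4 (ff 4)} {ρ : G}
variable {T : Tri z Q e ρ} {v : G} {pt : Fin 9 → G} {θ : ↥(RR e ρ) ≃* A9}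

/-- The centralisers of the elements of order three. -/
theorem Vee.good_three (V : Vee T v) (N : Nine T pt θ) (hq : HasOmega z Q) (hP : PNineFact θ v)
    (a : A7) (ha : orderOf a = 3) : Good T v (iota7 θ a) := by
  obtain ⟨r, hr, ε, hε⟩ := rep_conj a ha
  have hgood : Good T v (iota7 θ r) := by
    rcases hr with rfl | rfl
    · show Good T v (em θ (e79 cx7))
      rw [e79_reps.1]; exact V.good_x N hq hP
    · show Good T v (em θ (e79 cq7))
      rw [e79_reps.2]; exact V.good_q N hq hP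
  intro g hgv hga
  set l := iota7 θ ε with hl
  have hlL : l ∈ LamS T := by rw [← iota7_range N]; exact ⟨ε, rfl⟩
  have hlv : Commute l v := V.lamS_comm hlL
  have ea : iota7 θ a = l * iota7 θ r * l⁻¹ := by rw [← hε, map_mul, map_mul, map_inv]
  have h1 : l⁻¹ * g * l ∈ HH T v := by
    refine hgood _ ((hlv.inv_left.mul_left (show Commute g v from hgv)).mul_left hlv).eq ?_
    rw [ea] at hga
    calc l⁻¹ * g * l * iota7 θ r = l⁻¹ * (g * (l * iota7 θ r * l⁻¹)) * l := by group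
      _ = l⁻¹ * (l * iota7 θ r * l⁻¹ * g) * l := by rw [hga]
      _ = iota7 θ r * (l⁻¹ * g * l) := by group
  have hlH : l ∈ HH T v := mem_sup_right hlL
  have := mul_mem (mul_mem hlH h1) (inv_mem hlH)
  rwa [show l * (l⁻¹ * g * l) * l⁻¹ = g by group] at this

end CfsgLib.StructB.CoA9
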