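import Cfsg.Agent.Lib.StructB.CoA9.VPermTwo
import Mathlib.GroupTheory.Sylow
import Mathlib.GroupTheory.SpecificGroups.Alternating

/-!
Subgroups of order prime to three of the centralisers of `(012)` and `(012)(345)^±` in `A₉` on
which `(345)` acts without fixed points.
-/

set_option autoImplicit false
set_option maxRecDepth 20000
set_option synthInstance.maxSize 2000
set_option Elab.async false

namespace CfsgLib.StructB.CoA9

open Subgroup Equiv

local notation "A9" => alternatingGroup (Fin 9)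

/-- The hypotheses on the subgroup. -/
structure FreeSub (S : Subgroup A9) : Prop where
  cop : ∀ s ∈ S, (orderOf s).Coprime 3
  conj : ∀ s ∈ S, y9 * s * y9⁻¹ ∈ S
  free : ∀ s ∈ S, y9 * s * y9⁻¹ = s → s = 1

theorem rest_three : ∀ a : Fin 9, a = 0 ∨ a = 1 ∨ a = 2 ∨ a = 3 ∨ a = 4 ∨ a = 5 ∨
    ((a = 6 ∨ a = 7 ∨ a = 8) ∧ x9.1 a = a ∧ y9.1 a = a) := by decide +kernel

/-- A `3'`-element fixing six points is trivial. -/
theorem eq_one_of_six {s : A9} (hc : (orderOf s).Coprime 3)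
    (h : s.1 0 = 0 ∧ s.1 1 = 1 ∧ s.1 2 = 2 ∧ s.1 3 = 3 ∧ s.1 4 = 4 ∧ s.1 5 = 5) : s = 1 := by
  classical
  obtain ⟨h0, h1, h2, h3, h4, h5⟩ := h
  set c : A9 := ⟨swap 6 7 * swap 7 8, Perm.mem_alternatingGroup.2 (by decide +kernel)⟩ with hc'
  have hfix : ∀ i : Fin 9, i = 0 ∨ i = 1 ∨ i = 2 ∨ i = 3 ∨ i = 4 ∨ i = 5 → s.1 i = i := by
    rintro i (rfl | rfl | rfl | rfl | rfl | rfl) <;> assumption
  have hmem : s.1 6 = 6 ∨ s.1 6 = 7 ∨ s.1 6 = 8 := by
    rcases rest_three (s.1 6) with h | h | h | h | h | h | h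
    all_goals first
      | exact h.1
      | exact absurd (s.1.injective ((hfix _ (by rw [h]; decide)).trans rfl)) (by rw [h]; decide)
  have key : ∃ n : ℕ, n < 3 ∧ s.1 6 = (c.1 ^ n) 6 := by
    rcases hmem with h | h | h <;> rw [h]
    exacts [⟨0, by decide, by decide +kernel⟩, ⟨1, by decide, by decide +kernel⟩,
      ⟨2, by decide, by decide +kernel⟩]
  obtain ⟨n, hn, hn6⟩ := key
  have h1' : (c ^ n)⁻¹ * s = 1 := by
    refine eq_one_of_two (a := 7) (b := 8) fun i hi7 hi8 => ?_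
    show ((c ^ n : A9).1)⁻¹ (s.1 i) = i
    rw [Perm.inv_def, Equiv.symm_apply_eq, SubmonoidClass.coe_pow]
    rcases rest_three i with rfl | rfl | rfl | rfl | rfl | rfl | ⟨rfl | rfl | rfl, -, -⟩
    iterate 6
      rw [hfix _ (by decide)]
      exact ((by decide +kernel : ∀ m : Fin 3, ∀ i : Fin 9, i.1 < 6 →
        ((swap 6 7 * swap 7 8 : Perm (Fin 9)) ^ m.1) i = i) ⟨n, hn⟩ _ (by decide)).symm
    · exact hn6
    · exact absurd rfl hi7
    · exact absurd rfl hi8
  have hs : s = c ^ n := (inv_mul_eq_one.1 h1').symm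
  have h3' : s ^ 3 = 1 := by
    rw [hs, ← pow_mul, mul_comm, pow_mul]
    have : c ^ 3 = 1 := Subtype.ext (by rw [SubmonoidClass.coe_pow, hc']; decide +kernel)
    rw [this, one_pow]
  exact orderOf_eq_one_iff.1 (Nat.eq_one_of_dvd_coprimes hc (dvd_refl _) (orderOf_dvd_of_pow_eq_one h3'))

/-- In the centraliser of `(012)(345)^±` only the identity remains. -/
theorem FreeSub.bot_q {S : Subgroup A9} (F : FreeSub S) {p : A9} (hp : p = y9 ∨ p = y9⁻¹)
    (hcm : ∀ s ∈ S, s * (x9 * p) = x9 * p * s) : ∀ s ∈ S, s = 1 := by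
  classical
  set c := x9 * p with hc
  have hxp : x9 * p = p * x9 := by
    rcases hp with rfl | rfl
    · exact p9_rels.1
    · exact (show Commute x9 y9 from p9_rels.1).inv_right.eq
  have hp3 : p ^ 3 = 1 := by
    rcases hp with rfl | rfl
    · exact x9_cube.2.1
    · rw [inv_pow, x9_cube.2.1, inv_one]
  have hc3 : c ^ 3 = 1 := by
    rw [hc, (show Commute x9 p from hxp).mul_pow, x9_cube.1, hp3, one_mul]
  -- the permutation on the points
  have hfacts : ∀ p : Perm (Fin 9), p = y9.1 ∨ p = y9.1⁻¹ →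
      (∀ a : Fin 9, (x9.1 * p) a ≠ a → a.1 < 6) ∧
      (∀ a : Fin 9, a.1 < 6 → (x9.1 * p) a ≠ a) ∧
      (∀ a b : Fin 9, a.1 < 3 → b.1 < 3 → ∃ i : Fin 3, b = ((x9.1 * p) ^ i.1) a) ∧
      (∀ a b : Fin 9, 3 ≤ a.1 ∧ a.1 < 6 → 3 ≤ b.1 ∧ b.1 < 6 → ∃ i : Fin 3, b = ((x9.1 * p) ^ i.1) a) ∧
      (∀ (i : Fin 3) (a : Fin 9), a.1 < 3 → (((x9.1 * p) ^ i.1) a).1 < 3) := by
    rintro p (rfl | rfl) <;> decide +kernel
  have hp' : p.1 = y9.1 ∨ p.1 = y9.1⁻¹ := hp.imp (congrArg Subtype.val) (congrArg Subtype.val)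
  obtain ⟨hm1, hm2, hA, hB, hA'⟩ := hfacts p.1 hp'
  have hval : ∀ s ∈ S, ∀ a, s.1 (c.1 a) = c.1 (s.1 a) := fun s hs a =>
    congrArg (fun q : Perm (Fin 9) => q a) (congrArg Subtype.val (hcm s hs))
  have hmove : ∀ s ∈ S, ∀ a : Fin 9, a.1 < 6 → (s.1 a).1 < 6 := fun s hs a ha => hm1 _ fun h => by
    change c.1 (s.1 a) = s.1 a at h
    rw [← hval s hs] at h
    exact hm2 a ha (s.1.injective h)
  -- an element keeping `0` in its orbit is trivial
  have hkeep : ∀ s ∈ S, (s.1 0).1 < 3 → s = 1 := by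
    intro s hs h0
    have hpow : s ^ orderOf s = 1 := pow_orderOf_eq_one s
    have hA0 : ∀ a : Fin 9, a.1 < 3 → s.1 a = a := by
      intro a ha
      obtain ⟨i, hi⟩ := hA 0 a (by decide) ha
      obtain ⟨j, hj⟩ := hA 0 (s.1 0) (by decide) h0
      have hfix : s.1 0 = 0 := orbit_fix (F.cop s hs) (by rw [← SubmonoidClass.coe_pow, hpow]; rfl)
        (congrArg Subtype.val (hcm s hs)) (by rw [← SubmonoidClass.coe_pow, hc3]; rfl) hj
      rw [hi]
      have hcm' : Commute s.1 (c.1 ^ i.1) :=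
        (show Commute s.1 c.1 from congrArg Subtype.val (hcm s hs)).pow_right _
      calc s.1 ((c.1 ^ i.1) 0) = (s.1 * c.1 ^ i.1) 0 := rfl
        _ = (c.1 ^ i.1 * s.1) 0 := by rw [hcm'.eq]
        _ = (c.1 ^ i.1) 0 := by rw [Perm.mul_apply, hfix]
    have hB0 : ∀ a : Fin 9, 3 ≤ a.1 ∧ a.1 < 6 → s.1 a = a := by
      intro a ha
      have hb : 3 ≤ (s.1 a).1 ∧ (s.1 a).1 < 6 := by
        refine ⟨?_, hmove s hs a ha.2⟩
        by_contra hlt
        push Not at hlt
        have := s.1.injective (hA0 (s.1 a) hlt)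
        omega
      obtain ⟨i, hi⟩ := hB a (s.1 a) ha hb
      exact orbit_fix (F.cop s hs) (by rw [← SubmonoidClass.coe_pow, hpow]; rfl)
        (congrArg Subtype.val (hcm s hs)) (by rw [← SubmonoidClass.coe_pow, hc3]; rfl) hi
    exact eq_one_of_six (F.cop s hs) ⟨hA0 0 (by decide), hA0 1 (by decide), hA0 2 (by decide),
      hB0 3 (by decide), hB0 4 (by decide), hB0 5 (by decide)⟩
  have hswap : ∀ s ∈ S, s ≠ 1 → ∀ t ∈ S, t ≠ 1 → t * s = 1 := by
    intro s hs hs1 t ht ht1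
    have hout : ∀ r ∈ S, r ≠ 1 → ∀ a : Fin 9, a.1 < 3 → 3 ≤ (r.1 a).1 := by
      intro r hr hr1 a ha
      by_contra hlt
      push Not at hlt
      obtain ⟨i, hi⟩ := hA a 0 ha (by decide)
      refine hr1 (hkeep r hr ?_)
      have hcm' : Commute r.1 (c.1 ^ i.1) :=
        (show Commute r.1 c.1 from congrArg Subtype.val (hcm r hr)).pow_right _
      rw [hi]
      show (r.1 ((c.1 ^ i.1) a)).1 < 3
      rw [show r.1 ((c.1 ^ i.1) a) = (c.1 ^ i.1 * r.1) a by rw [← hcm'.eq]; rfl]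
      exact hA' i _ hlt
    refine hkeep _ (mul_mem ht hs) ?_
    have hs0 : 3 ≤ (s.1 0).1 ∧ (s.1 0).1 < 6 :=
      ⟨hout s hs hs1 0 (by decide), hmove s hs 0 (by decide)⟩
    show (t.1 (s.1 0)).1 < 3
    by_contra hge
    push Not at hge
    have ht0 : ∀ a : Fin 9, a.1 < 3 → 3 ≤ (t.1 a).1 ∧ (t.1 a).1 < 6 := fun a ha =>
      ⟨hout t ht ht1 a ha, hmove t ht a (by omega)⟩
    let f : Fin 4 → Fin 3 := fun k =>
      if hk : k.1 < 3 then ⟨(t.1 ⟨k.1, by omega⟩).1 - 3, by
        have := ht0 ⟨k.1, by omega⟩ hk; omega⟩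
      else ⟨(t.1 (s.1 0)).1 - 3, by have := hmove t ht _ hs0.2; omega⟩
    obtain ⟨a, b, hab, hf⟩ := Fintype.exists_ne_map_eq_of_card_lt f (by decide)
    simp only [f] at hf
    split at hf <;> split at hf <;> simp only [Fin.ext_iff] at hf
    · rename_i ha hb
      have h1 := ht0 ⟨a.1, by omega⟩ ha
      have h2 := ht0 ⟨b.1, by omega⟩ hb
      have := t.1.injective (Fin.ext (show (t.1 ⟨a.1, by omega⟩).1 = (t.1 ⟨b.1, by omega⟩).1 by omega))
      have h' : a.1 = b.1 := congrArg (fun x : Fin 9 => x.1) this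
      exact hab (Fin.ext h')
    · rename_i ha hb
      have h1 := ht0 ⟨a.1, by omega⟩ ha
      have h2 := Fin.ext_iff.1
        (t.1.injective (Fin.ext (show (t.1 ⟨a.1, by omega⟩).1 = (t.1 (s.1 0)).1 by omega)))
      have h3 := hs0.1
      simp only [] at h2
      omega
    · rename_i ha hb
      have h1 := ht0 ⟨b.1, by omega⟩ hb
      have h2 := Fin.ext_iff.1
        (t.1.injective (Fin.ext (show (t.1 ⟨b.1, by omega⟩).1 = (t.1 (s.1 0)).1 by omega)))
      have h3 := hs0.1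
      simp only [] at h2
      omega
    · rename_i ha hb
      exact hab (Fin.ext (by omega))
  intro s hs
  by_contra hs1
  refine hs1 (F.free s hs ?_)
  have h1 := hswap s hs hs1 _ (F.conj s hs) (fun h => hs1 (conj_eq_one_iff.1 h))
  have h2 := hswap s hs hs1 s hs hs1
  exact mul_right_cancel (h1.trans h2.symm)

/-- A fixed-point-free permutation of order three forces the order to be one modulo three. -/
theorem card_mod_three {A : Type*} [Group A] [Finite A] (B : Subgroup A) (p : A) (hp : p ^ 3 = 1)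
    (hconj : ∀ b ∈ B, p * b * p⁻¹ ∈ B) (hfree : ∀ b ∈ B, p * b * p⁻¹ = b → b = 1) :
    Nat.card ↥B % 3 = 1 := by
  classical
  haveI : Fact (Nat.Prime 3) := ⟨by norm_num⟩
  let f : ↥B → ↥B := fun b => ⟨p * b * p⁻¹, hconj b b.2⟩
  have hf : Function.Injective f := fun a b h =>
    Subtype.ext (mul_left_cancel (mul_right_cancel (congrArg Subtype.val h)))
  let σ : Perm ↥B := Equiv.ofBijective f (Finite.injective_iff_bijective.1 hf)
  have hσ3 : σ ^ 3 = 1 := Equiv.ext fun b => Subtype.ext (by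
    show p * (p * (p * (b : A) * p⁻¹) * p⁻¹) * p⁻¹ = b
    calc p * (p * (p * (b : A) * p⁻¹) * p⁻¹) * p⁻¹ = p ^ 3 * b * (p ^ 3)⁻¹ := by
          rw [pow_succ, pow_two]; group
      _ = b := by rw [hp, one_mul, inv_one, mul_one])
  have hP : IsPGroup 3 ↥(zpowers σ) := fun g => ⟨1, by
    obtain ⟨i, hi⟩ := mem_zpowers_iff.1 g.2
    refine Subtype.ext ?_
    rw [SubmonoidClass.coe_pow, ← hi, pow_one, ← zpow_natCast, ← zpow_mul, mul_comm, zpow_mul,
      zpow_natCast, hσ3, one_zpow]; rfl⟩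
  have h := hP.card_modEq_card_fixedPoints ↥B
  have hfix : MulAction.fixedPoints ↥(zpowers σ) ↥B = {1} := by
    ext b
    simp only [MulAction.mem_fixedPoints, Set.mem_singleton_iff]
    constructor
    · intro hb
      exact Subtype.ext (hfree b b.2 (congrArg Subtype.val (hb ⟨σ, mem_zpowers σ⟩)))
    · rintro rfl ⟨g, hg⟩
      obtain ⟨i, rfl⟩ := mem_zpowers_iff.1 hg
      show (σ ^ i) 1 = 1
      exact Equiv.Perm.zpow_apply_eq_self_of_apply_eq_self (Subtype.ext (by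
        show p * 1 * p⁻¹ = 1
        rw [mul_one, mul_inv_cancel])) i
  rw [hfix, Nat.card_unique (α := ({1} : Set ↥B))] at h
  exact h

/-- In the centraliser of `(012)` a four-group on `{3,4,5,6}` remains at most. -/
theorem FreeSub.four_x {S : Subgroup A9} (F : FreeSub S) (hcm : ∀ s ∈ S, s * x9 = x9 * s)
    (hdd : ∀ s ∈ S, dd * s * dd ∈ S) : (∀ s ∈ S, s = 1) ∨ ∀ k, w9 k ∈ S := by
  classical
  have h012 : ∀ s ∈ S, ∀ i : Fin 9, i.1 < 3 → s.1 i = i := fun s hs i hi =>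
    fix_of_comm x9_cube.1 x9_trans (hcm s hs) (F.cop s hs) (pow_orderOf_eq_one s)
      ((by decide +kernel : ∀ i : Fin 9, i.1 < 3 → x9.1 i ≠ i) i hi)
  -- the order
  have hdvd : Nat.card ↥S ∣ 360 := by
    have hp : ∀ (s : ↥S) (i : Fin 9), ((s : A9).1 i).1 < 3 ↔ i.1 < 3 := by
      intro s i
      constructor
      · intro h
        by_contra hi
        exact hi (by rw [(s : A9).1.injective (h012 s s.2 _ h)] at h; exact h)
      · intro h; rw [h012 s s.2 i h]; exact h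
    let φ : ↥S →* ↥(alternatingGroup {i : Fin 9 // ¬ i.1 < 3}) := MonoidHom.mk'
      (fun s => ⟨(s : A9).1.subtypePerm (fun i => not_congr (hp s i)), Perm.mem_alternatingGroup.2 (by
        exact (Perm.sign_subtypePerm (s : A9).1 _ fun i hi h => hi (h012 s s.2 i h)).trans
          (Perm.mem_alternatingGroup.1 (s : A9).2))⟩)
      fun a b => Subtype.ext (Equiv.ext fun i => rfl)
    have hφ : Function.Injective φ := fun a b h => Subtype.ext (Subtype.ext (Equiv.ext fun i => by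
      by_cases hi : i.1 < 3
      · rw [h012 a a.2 i hi, h012 b b.2 i hi]
      · exact congrArg Subtype.val (Equiv.congr_fun (congrArg Subtype.val h) ⟨i, hi⟩)))
    have h := card_dvd_of_injective φ hφ
    haveI : Nontrivial {i : Fin 9 // ¬ i.1 < 3} := ⟨⟨⟨3, by decide⟩, ⟨4, by decide⟩, by decide⟩⟩
    rwa [nat_card_alternatingGroup, Nat.card_eq_fintype_card (α := {i : Fin 9 // ¬ i.1 < 3}),
      show Fintype.card {i : Fin 9 // ¬ i.1 < 3} = 6 by decide] at h
  have hmod := card_mod_three S y9 x9_cube.2.1 F.conj F.free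
  -- no element of order five
  have hno5 : ¬ 5 ∣ Nat.card ↥S := by
    intro h5
    haveI : Fact (Nat.Prime 5) := ⟨by norm_num⟩
    obtain ⟨P⟩ : Nonempty (Sylow 5 ↥S) := inferInstance
    have h3 : ¬ 3 ∣ Nat.card ↥S := by omega
    have hP5 : Nat.card ↥(P : Subgroup ↥S) = 5 := by
      have h1 := P.dvd_card_of_dvd_card h5
      have h2 := (Subgroup.card_subgroup_dvd_card (P : Subgroup ↥S)).trans hdvd
      obtain ⟨n, hn⟩ := IsPGroup.iff_card.1 P.isPGroup'
      rw [hn] at h1 h2 ⊢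
      match n with
      | 0 => norm_num at h1
      | 1 => rfl
      | n + 2 => exact absurd ((Dvd.intro_left _ (pow_add 5 n 2).symm).trans h2) (by norm_num)
    have hn1 : Nat.card (Sylow 5 ↥S) = 1 := by
      have h1 := card_sylow_modEq_one 5 ↥S
      have h2 : Nat.card (Sylow 5 ↥S) ∣ Nat.card ↥S :=
        (Sylow.card_dvd_index P).trans (Subgroup.index_dvd_card _)
      have h40 : Nat.card (Sylow 5 ↥S) ∣ 40 := by
        refine Nat.Coprime.dvd_of_dvd_mul_right (n := 9) ?_ (show _ ∣ 40 * 9 from h2.trans hdvd)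
        show Nat.Coprime _ (3 ^ 2)
        refine Nat.Coprime.pow_right 2 ((Nat.Prime.coprime_iff_not_dvd (by norm_num)).2 ?_).symm
        exact fun h => h3 (h.trans h2)
      have key : ∀ d ∈ Nat.divisors 40, d % 5 = 1 → d = 1 := by decide +kernel
      exact key _ (Nat.mem_divisors.2 ⟨h40, by norm_num⟩) h1
    haveI := (Nat.card_eq_one_iff_unique.1 hn1).1
    set B := (P : Subgroup ↥S).map S.subtype with hB
    have hB5 : Nat.card ↥B = 5 := by rw [hB, card_map_of_injective S.subtype_injective, hP5]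
    have hmem : ∀ b, b ∈ B ↔ b ∈ S ∧ b ^ 5 = 1 := by
      intro b
      constructor
      · rintro ⟨a, ha, rfl⟩
        refine ⟨a.2, ?_⟩
        have h' : (⟨a, ha⟩ : ↥(P : Subgroup ↥S)) ^ 5 = 1 := by
          have hcc := pow_card_eq_one' (x := (⟨a, ha⟩ : ↥(P : Subgroup ↥S)))
          rwa [hP5] at hcc
        exact congrArg (fun x : ↥(P : Subgroup ↥S) => ((x : ↥S) : A9)) h'
      · rintro ⟨hbS, hb5⟩
        refine ⟨⟨b, hbS⟩, ?_, rfl⟩
        have hp : IsPGroup 5 ↥(zpowers (⟨b, hbS⟩ : ↥S)) := fun g => ⟨1, by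
          obtain ⟨i, hi⟩ := mem_zpowers_iff.1 g.2
          refine Subtype.ext ?_
          rw [SubmonoidClass.coe_pow, ← hi, pow_one, ← zpow_natCast, ← zpow_mul, mul_comm, zpow_mul,
            zpow_natCast, show (⟨b, hbS⟩ : ↥S) ^ 5 = 1 from Subtype.ext hb5, one_zpow]; rfl⟩
        obtain ⟨P', hP'⟩ := hp.exists_le_sylow
        rw [Subsingleton.elim P P']
        exact hP' (mem_zpowers _)
    have := card_mod_three B y9 x9_cube.2.1 (fun b hb => (hmem _).2 ⟨F.conj b ((hmem b).1 hb).1, by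
      rw [conj_pow, ((hmem b).1 hb).2]; group⟩) fun b hb h => F.free b ((hmem b).1 hb).1 h
    omega
  have h3' : ¬ 3 ∣ Nat.card ↥S := by omega
  have h8 : Nat.card ↥S ∣ 8 := by
    refine Nat.Coprime.dvd_of_dvd_mul_right (n := 45) ?_ (show _ ∣ 8 * 45 from hdvd)
    rw [show (45 : ℕ) = 3 ^ 2 * 5 from rfl]
    exact Nat.Coprime.mul_right
      (Nat.Coprime.pow_right 2 ((Nat.Prime.coprime_iff_not_dvd (by norm_num)).2 h3').symm)
      ((Nat.Prime.coprime_iff_not_dvd (by norm_num)).2 hno5).symm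
  by_cases hbot : ∀ s ∈ S, s = 1
  · exact Or.inl hbot
  push Not at hbot
  obtain ⟨s0, hs0, hs01⟩ := hbot
  have h4 : Nat.card ↥S = 4 := by
    have key : ∀ d ∈ Nat.divisors 8, d % 3 = 1 → d = 1 ∨ d = 4 := by decide +kernel
    refine (key _ (Nat.mem_divisors.2 ⟨h8, by norm_num⟩) hmod).resolve_left fun h => hs01 ?_
    exact (Subgroup.mem_bot).1 ((Subgroup.card_eq_one.1 h) ▸ hs0)
  have hinv : ∀ s ∈ S, s * s = 1 := by
    intro s hs
    by_contra hne
    have hso : orderOf s = 4 := by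
      have h1 : orderOf s ∣ 4 := h4 ▸ S.orderOf_dvd_natCard hs
      have key : ∀ d ∈ Nat.divisors 4, d = 1 ∨ d = 2 ∨ d = 4 := by decide +kernel
      rcases key _ (Nat.mem_divisors.2 ⟨h1, by norm_num⟩) with h | h | h
      · exact absurd (by rw [orderOf_eq_one_iff.1 h, one_mul]) hne
      · exact absurd (by rw [← pow_two, ← h, pow_orderOf_eq_one]) hne
      · exact h
    have htop : zpowers s = S := eq_of_le_of_card_ge (zpowers_le.2 hs) (by
      rw [Nat.card_zpowers, hso, h4])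
    have hz := F.conj s hs
    rw [← htop, mem_zpowers_iff_mem_range_orderOf, hso] at hz
    obtain ⟨m, hm, hme⟩ := Finset.mem_image.1 hz
    have hodd : m = 1 ∨ m = 3 := by
      have hm4 : m < 4 := Finset.mem_range.1 hm
      have hne' : ¬ (m = 0 ∨ m = 2) := by
        intro hc
        have h2' : (y9 * s * y9⁻¹) * (y9 * s * y9⁻¹) = 1 := by
          rw [← hme, ← pow_add]
          rcases hc with rfl | rfl
          · rfl
          · rw [show 2 + 2 = 4 from rfl, ← hso, pow_orderOf_eq_one]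
        refine hne (conj_eq_one_iff.1 (show y9 * (s * s) * y9⁻¹ = 1 from ?_))
        rw [← h2']; group
      omega
    refine hne (F.free _ (mul_mem hs hs) ?_)
    calc y9 * (s * s) * y9⁻¹ = (y9 * s * y9⁻¹) * (y9 * s * y9⁻¹) := by group
      _ = s * s := by
        rw [← hme, ← pow_add]
        rcases hodd with rfl | rfl
        · rw [pow_two]
        · rw [show 3 + 3 = 4 + 2 from rfl, pow_add, ← hso, pow_orderOf_eq_one, one_mul, pow_two]
  obtain ⟨q1, hq1⟩ : ∃ q1, q1 = y9 * s0 * y9⁻¹ := ⟨_, rfl⟩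
  obtain ⟨q2, hq2⟩ : ∃ q2, q2 = y9 * q1 * y9⁻¹ := ⟨_, rfl⟩
  have hq1S : q1 ∈ S := hq1 ▸ F.conj s0 hs0
  have hq2S : q2 ∈ S := hq2 ▸ F.conj q1 hq1S
  have hq3 : y9 * q2 * y9⁻¹ = s0 := by
    rw [hq2, hq1]
    calc y9 * (y9 * (y9 * s0 * y9⁻¹) * y9⁻¹) * y9⁻¹ = y9 ^ 3 * s0 * (y9 ^ 3)⁻¹ := by
          rw [pow_succ, pow_two]; group
      _ = s0 := by rw [x9_cube.2.1, one_mul, inv_one, mul_one]
  have hne1 : q1 ≠ 1 := fun h => hs01 (conj_eq_one_iff.1 (hq1 ▸ h))
  have hne2 : q2 ≠ 1 := fun h => hne1 (conj_eq_one_iff.1 (hq2 ▸ h))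
  have hd01 : q1 ≠ s0 := fun h => hs01 (F.free s0 hs0 (hq1 ▸ h))
  have hd12 : q2 ≠ q1 := fun h => hne1 (F.free q1 hq1S (hq2 ▸ h))
  have hd02 : q2 ≠ s0 := fun h => hd01 (by
    rw [h] at hq3
    exact hq1.trans hq3)
  have hall : ∀ s ∈ S, s = 1 ∨ s = s0 ∨ s = q1 ∨ s = q2 := by
    intro s hs
    by_contra hcon
    push Not at hcon
    obtain ⟨n1, n2, n3, n4⟩ := hcon
    haveI : Fintype ↥S := Fintype.ofFinite _
    have h5 : ({⟨s, hs⟩, ⟨1, S.one_mem⟩, ⟨s0, hs0⟩, ⟨q1, hq1S⟩, ⟨q2, hq2S⟩} : Finset ↥S).card ≤ 4 := by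
      rw [← h4, Nat.card_eq_fintype_card]; exact Finset.card_le_univ _
    rw [Finset.card_insert_of_notMem, Finset.card_insert_of_notMem, Finset.card_insert_of_notMem,
      Finset.card_insert_of_notMem, Finset.card_singleton] at h5
    · omega
    all_goals simp only [Finset.mem_insert, Finset.mem_singleton, Subtype.mk.injEq, not_or]
    · exact hd12.symm
    · exact ⟨hd01.symm, hd02.symm⟩
    · exact ⟨Ne.symm hs01, hne1.symm, hne2.symm⟩
    · exact ⟨n1, n2, n3, n4⟩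
  have hprod : s0 * q1 = q2 := by
    rcases hall _ (mul_mem hs0 hq1S) with h | h | h | h
    · exact absurd (mul_left_cancel (h.trans (hinv s0 hs0).symm)) hd01
    · exact absurd (mul_eq_left.1 h) hne1
    · exact absurd (mul_eq_right.1 h) hs01
    · exact h
  obtain ⟨a, b, c, d, ha, hb, hc, hd, he⟩ := invol_rep (u := ({0, 1, 2} : Finset (Fin 9)))
    (hinv s0 hs0) hs01 (by decide) fun i hi => h012 s0 hs0 i
      ((by decide : ∀ i ∈ ({0, 1, 2} : Finset (Fin 9)), i.1 < 3) i hi)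
  have hpow : ∀ n : Fin 3, ((y9 ^ n.1 * s0 * (y9⁻¹) ^ n.1 : A9) : Perm (Fin 9)) =
      y9.1 ^ n.1 * s0.1 * (y9.1⁻¹) ^ n.1 := fun n => by
    simp [SubmonoidClass.coe_pow]
  obtain ⟨k, hk⟩ := four_w a b c d ha hb hc hd
    (fun i => by
      rw [← he]
      have := congrArg (fun q : A9 => q.1 i) hprod
      rw [hq2, hq1] at this
      exact this)
    (by
      rcases hall _ (hdd s0 hs0) with h | h | h | h
      · exfalso
        refine hs01 ?_
        calc s0 = dd * (dd * s0 * dd) * dd := by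
              rw [show dd * (dd * s0 * dd) * dd = (dd * dd) * s0 * (dd * dd) by group, dd_facts.1,
                one_mul, mul_one]
          _ = 1 := by rw [h, mul_one, dd_facts.1]
      · refine ⟨0, fun i => ?_⟩
        rw [← he]
        exact congrArg (fun q : A9 => q.1 i) (h.trans (by simp : s0 = y9 ^ (0 : Fin 3).1 * s0 * (y9⁻¹) ^ (0 : Fin 3).1))
          |>.trans (congrFun (congrArg DFunLike.coe (hpow 0)) i)
      · refine ⟨1, fun i => ?_⟩
        rw [← he]
        exact congrArg (fun q : A9 => q.1 i) (h.trans (by simp [hq1] : q1 = y9 ^ (1 : Fin 3).1 * s0 * (y9⁻¹) ^ (1 : Fin 3).1))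
          |>.trans (congrFun (congrArg DFunLike.coe (hpow 1)) i)
      · refine ⟨2, fun i => ?_⟩
        rw [← he]
        exact congrArg (fun q : A9 => q.1 i) (h.trans (by
          rw [hq2, hq1, Fin.val_two, pow_two, pow_two]; group : q2 = y9 ^ (2 : Fin 3).1 * s0 * (y9⁻¹) ^ (2 : Fin 3).1))
          |>.trans (congrFun (congrArg DFunLike.coe (hpow 2)) i))
    (by
      by_contra hcon
      push Not at hcon
      exact hs01 (Subtype.ext (Equiv.ext fun i => by rw [he]; exact hcon i)))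
  have hw : w9 k = s0 := Subtype.ext (Equiv.ext fun i => (hk i).trans (by rw [he]))
  refine Or.inr fun l => ?_
  rcases (orbit3_hits l k).2 with h | h | h
  · rw [h, hw]; exact hs0
  · rw [← h, hw]; exact F.conj _ hs0
  · rw [← h, hw]; exact F.conj _ (F.conj _ hs0)

end CfsgLib.StructB.CoA9
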