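import Cfsg.Agent.Lib.StructB.CoA9.VInvolBase
import Cfsg.Agent.Lib.Coprime.Generation

/-!
In `C(v)` the centraliser of an involution of the complement `A₇` lies in `⟨v⟩ × A₇`, given the same for
the elements of order three.
-/

set_option autoImplicit false
set_option maxRecDepth 20000
set_option synthInstance.maxSize 2000
set_option linter.unusedSectionVars false
set_option Elab.async false

namespace CfsgLib.StructB.CoA9

open Subgroup CfsgLib.Trans3.ExtraTwo CfsgLib.ClassK.Conway Equiv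

local notation "A7" => alternatingGroup (Fin 7)
local notation "A9" => alternatingGroup (Fin 9)

theorem x7_facts : x7 ^ 3 = 1 ∧ x7 ≠ 1 ∧ u7 * x7 * u7⁻¹ = x7 * x7 ∧ u7 * t7 = t7 * u7 ∧
    x7 * t7 = t7 * x7 ∧ x7 * e7 = e7 * x7 ∧ (y7 * t7 * y7⁻¹ = t7 * e7 ∨ y7 * t7 * y7⁻¹ = e7) ∧
    InE (y7 * e7 * y7⁻¹) ∧ x7 * y7 = y7 * x7 ∧ y7 ^ 3 = 1 ∧ t7 * e7 = e7 * t7 ∧ t7 * f7 = f7 * t7 ∧
    t7 * t7 = 1 ∧ t7 ≠ 1 := by
  decide +kernel

theorem orderOf_x7 : orderOf x7 = 3 :=
  haveI : Fact (Nat.Prime 3) := ⟨Nat.prime_three⟩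
  orderOf_eq_prime x7_facts.1 x7_facts.2.1

theorem inX_iff {a : A7} : a ∈ zpowers x7 ↔ InX a := by
  constructor
  · intro ha
    obtain ⟨k, hk⟩ := (Submonoid.mem_powers_iff _ _).1 (mem_powers_iff_mem_zpowers.2 ha)
    have hk' : x7 ^ (k % 3) = a := by rw [← orderOf_x7, pow_mod_orderOf]; exact hk
    have h3 := Nat.mod_lt k (show 0 < 3 by norm_num)
    interval_cases (k % 3)
    · exact Or.inl (by rw [← hk', pow_zero])
    · exact Or.inr (Or.inl (by rw [← hk', pow_one]))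
    · exact Or.inr (Or.inr (by rw [← hk', pow_two]))
  · rintro (rfl | rfl | rfl)
    · exact one_mem _
    · exact mem_zpowers _
    · exact mul_mem (mem_zpowers _) (mem_zpowers _)

theorem three_cases {a : A7} (h : InX a) (h1 : a ≠ 1) : a = x7 ∨ a = x7 * x7 :=
  h.resolve_left h1

theorem five_fixed : ∀ m : Fin 5, m.1 ^ 3 % 5 = 1 → m.1 = 1 := by decide

universe u

variable {G : Type u} [Group G] [Finite G] {z : G} {Q : Subgroup G} {e : ↥Q ≃* ES 4 (ff 4)} {ρ : G}
variable {T : Tri z Q e ρ} {v : G} {pt : Fin 9 → G} {θ : ↥(RR e ρ) ≃* A9}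

/-- An element of the centraliser of a set of three. -/
theorem mem_cent3 {g a b c : G} :
    g ∈ centralizer ({a, b, c} : Set G) ↔ g * a = a * g ∧ g * b = b * g ∧ g * c = c * g := by
  rw [mem_centralizer_iff]
  simp only [Set.mem_insert_iff, Set.mem_singleton_iff, forall_eq_or_imp, forall_eq]
  exact ⟨fun h => ⟨h.1.symm, h.2.1.symm, h.2.2.symm⟩, fun h => ⟨h.1.symm, h.2.1.symm, h.2.2.symm⟩⟩

theorem mem_cent2 {g a b : G} :
    g ∈ centralizer ({a, b} : Set G) ↔ g * a = a * g ∧ g * b = b * g := by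
  rw [mem_centralizer_iff]
  simp only [Set.mem_insert_iff, Set.mem_singleton_iff, forall_eq_or_imp, forall_eq]
  exact ⟨fun h => ⟨h.1.symm, h.2.symm⟩, fun h => ⟨h.1.symm, h.2.symm⟩⟩

theorem comm_conj {g a x : G} (h : g * a = a * g) :
    x * g * x⁻¹ * (x * a * x⁻¹) = x * a * x⁻¹ * (x * g * x⁻¹) := by
  calc x * g * x⁻¹ * (x * a * x⁻¹) = x * (g * a) * x⁻¹ := by group
    _ = x * (a * g) * x⁻¹ := by rw [h]
    _ = _ := by group

theorem iota7_rho (a : A7) : iota7 θ a * ρ = ρ * iota7 θ a := (em_rho (e79 a)).eq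

/-- Elements centralising `v` and an involution generated with the four group. -/
def CE (θ : ↥(RR e ρ) ≃* A9) (v : G) : Subgroup G :=
  centralizer ({v, iota7 θ t7, iota7 θ e7} : Set G)

/-- The centraliser of `v` and the involution. -/
def CT (θ : ↥(RR e ρ) ≃* A9) (v : G) : Subgroup G := centralizer ({v, iota7 θ t7} : Set G)

/-- The hypothesis on the elements of order three. -/
def ThreeHyp (T : Tri z Q e ρ) (θ : ↥(RR e ρ) ≃* A9) (v : G) : Prop :=
  ∀ a : A7, orderOf a = 3 → ∀ g : G, g * v = v * g → g * iota7 θ a = iota7 θ a * g → g ∈ HH T v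

section Elems

variable (V : Vee T v) (N : Nine T pt θ)
include V N

theorem iota7_v (a : A7) : iota7 θ a * v = v * iota7 θ a :=
  V.lamS_comm (iota7_range N ▸ ⟨a, rfl⟩)

theorem pow_v_comm (k : ℕ) (a : A7) : Commute (v ^ k) (iota7 θ a) :=
  (show Commute v (iota7 θ a) from (iota7_v V N a).symm).pow_left k

theorem HH_elim {g : G} (hg : g ∈ HH T v) : ∃ (k : ℕ) (a : A7), g = v ^ k * iota7 θ a := by
  obtain ⟨k, l, hl, rfl⟩ := (mem_HH V).1 hg
  obtain ⟨a, rfl⟩ := (iota7_range N).symm ▸ hl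
  exact ⟨k, a, rfl⟩

theorem HH_intro (k : ℕ) (a : A7) : v ^ k * iota7 θ a ∈ HH T v :=
  (mem_HH V).2 ⟨k, _, iota7_range N ▸ ⟨a, rfl⟩, rfl⟩

theorem HH_one {k : ℕ} {a : A7} (h : v ^ k * iota7 θ a = 1) : v ^ k = 1 ∧ a = 1 := by
  have hi : iota7 θ a = (v ^ k)⁻¹ := eq_inv_of_mul_eq_one_right h
  have ha : a ∈ center A7 := mem_center_iff.2 fun b => iota7_injective (θ := θ) (by
    rw [map_mul, map_mul, hi]; exact (pow_v_comm V N k b).inv_left.eq.symm)
  rw [alternatingGroup.center_eq_bot (by rw [Nat.card_fin]; norm_num), mem_bot] at ha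
  subst ha
  rw [map_one, mul_one] at h
  exact ⟨h, rfl⟩

theorem HH_pow (k n : ℕ) (a : A7) : (v ^ k * iota7 θ a) ^ n = v ^ (k * n) * iota7 θ (a ^ n) := by
  rw [(pow_v_comm V N k a).mul_pow, ← pow_mul, map_pow]

theorem HH_pow_one {k n : ℕ} {a : A7} (h : (v ^ k * iota7 θ a) ^ n = 1) :
    v ^ (k * n) = 1 ∧ a ^ n = 1 := HH_one V N (HH_pow V N k n a ▸ h)

theorem HH_comm {k : ℕ} {a b : A7}
    (h : v ^ k * iota7 θ a * iota7 θ b = iota7 θ b * (v ^ k * iota7 θ a)) : a * b = b * a := by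
  refine iota7_injective (θ := θ) ?_
  rw [map_mul, map_mul]
  apply mul_left_cancel (a := v ^ k)
  rw [← mul_assoc, h, ← mul_assoc, ← mul_assoc, (pow_v_comm V N k b).eq]

theorem HH_conj (k : ℕ) (a b : A7) :
    v ^ k * iota7 θ a * iota7 θ b * (v ^ k * iota7 θ a)⁻¹ = iota7 θ (a * b * a⁻¹) := by
  rw [show v ^ k * iota7 θ a * iota7 θ b * (v ^ k * iota7 θ a)⁻¹ =
    v ^ k * (iota7 θ a * iota7 θ b * (iota7 θ a)⁻¹) * (v ^ k)⁻¹ by group, ← map_inv, ← map_mul, ← map_mul,
    (pow_v_comm V N k _).eq, mul_inv_cancel_right]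

/-- A power of `v` of order prime to seven is trivial. -/
theorem v_pow_one {k n : ℕ} (hn : Nat.Coprime n 7) (h : v ^ (k * n) = 1) : v ^ k = 1 := by
  have h7 : (v ^ k) ^ 7 = 1 := by rw [← pow_mul, mul_comm, pow_mul, V.pow7, one_pow]
  rw [pow_mul] at h
  rw [← pow_one (v ^ k), ← hn]
  exact pow_gcd_eq_one.2 ⟨h, h7⟩

variable (h3 : ThreeHyp T θ v)
include h3

/-- The normaliser of `⟨(456)⟩`. -/
theorem norm_x7 {g : G} (hv : g * v = v * g) {a : A7} (ha : InX a) (ha1 : a ≠ 1)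
    (hg : g * iota7 θ x7 * g⁻¹ = iota7 θ a) : g ∈ HH T v := by
  rcases three_cases ha ha1 with rfl | rfl
  · exact h3 x7 orderOf_x7 g hv (mul_inv_eq_iff_eq_mul.1 hg)
  · have hu : iota7 θ u7 * g * iota7 θ x7 * (iota7 θ u7 * g)⁻¹ = iota7 θ x7 := by
      rw [show iota7 θ u7 * g * iota7 θ x7 * (iota7 θ u7 * g)⁻¹ =
        iota7 θ u7 * (g * iota7 θ x7 * g⁻¹) * (iota7 θ u7)⁻¹ by group, hg, ← map_inv, ← map_mul, ← map_mul]
      exact congrArg _ (show u7 * (x7 * x7) * u7⁻¹ = x7 by decide +kernel)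
    have h : iota7 θ u7 * g ∈ HH T v := h3 x7 orderOf_x7 _
      (((show Commute (iota7 θ u7) v from iota7_v V N u7).mul_left hv).eq) (mul_inv_eq_iff_eq_mul.1 hu)
    have h1 : iota7 θ u7 ∈ HH T v := by simpa using HH_intro V N 0 u7
    have := mul_mem (inv_mem h1) h
    rwa [inv_mul_cancel_left] at this

/-- An element normalising `⟨(456)⟩`. -/
theorem norm_P3 {g : G} (hv : g * v = v * g)
    (hn : ∀ a ∈ (zpowers x7).map (iota7 θ), g * a * g⁻¹ ∈ (zpowers x7).map (iota7 θ)) : g ∈ HH T v := by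
  obtain ⟨a, ha, hae⟩ := hn _ ⟨x7, mem_zpowers _, rfl⟩
  refine norm_x7 V N h3 hv (inX_iff.1 ha) (fun h1 => x7_facts.2.1 (iota7_injective (θ := θ) ?_)) hae.symm
  rw [h1, map_one] at hae
  rw [map_one]
  exact conj_eq_one_iff.1 hae.symm

/-- The centraliser of the four group. -/
theorem CE_le : CE θ v ≤ HH T v := by
  classical
  haveI : Fact (Nat.Prime 3) := ⟨Nat.prime_three⟩
  set P := (zpowers x7).map (iota7 θ) with hP
  have hPle : P ≤ CE θ v := by
    rintro _ ⟨a, ha, rfl⟩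
    refine mem_cent3.2 ⟨iota7_v V N a, ?_, ?_⟩ <;> rw [← map_mul, ← map_mul] <;> congr 1 <;>
      rcases inX_iff.1 ha with rfl | rfl | rfl <;> decide +kernel
  have hP3 : IsPGroup 3 ↥P := IsPGroup.map (IsPGroup.of_card (n := 1) (by
    rw [Nat.card_zpowers, orderOf_x7, pow_one])) _
  have elim : ∀ g ∈ CE θ v, g ∈ HH T v → ∃ k a, g = v ^ k * iota7 θ a ∧ a * t7 = t7 * a ∧ a * e7 = e7 * a := by
    intro g hg hH
    obtain ⟨k, a, rfl⟩ := HH_elim V N hH
    exact ⟨k, a, rfl, HH_comm V N (mem_cent3.1 hg).2.1, HH_comm V N (mem_cent3.1 hg).2.2⟩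
  obtain ⟨N0, hN0le, hN03, hfac, hin, hinv⟩ := exists_compl (p := 3) (CE θ v) P hPle hP3
    (fun g hg hn ⟨n, hgn⟩ => by
      obtain ⟨k, a, rfl, hat, hae⟩ := elim g hg (norm_P3 V N h3 (mem_cent3.1 hg).1 hn)
      obtain ⟨h1, h2⟩ := HH_pow_one V N hgn
      rw [v_pow_one V N ((Nat.Coprime.pow_left n (by norm_num)) : Nat.Coprime (3 ^ n) 7) h1, one_mul]
      refine ⟨a, inX_iff.2 ((cent_E_three hat hae).2.1 ?_), rfl⟩
      have hd : orderOf a ∣ Nat.gcd (3 ^ n) 6 :=
        Nat.dvd_gcd (orderOf_dvd_of_pow_eq_one h2) (orderOf_dvd_of_pow_eq_one (cent_E_three hat hae).2.2.2)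
      refine orderOf_dvd_iff_pow_eq_one.1 (hd.trans ?_)
      refine Nat.Coprime.dvd_of_dvd_mul_left (m := 2) (n := 3) ?_
        (show Nat.gcd (3 ^ n) 6 ∣ 2 * 3 from Nat.gcd_dvd_right _ _)
      exact Nat.Coprime.coprime_dvd_left (Nat.gcd_dvd_left _ _) (Nat.Coprime.pow_left n (by norm_num)))
    (fun g hg hn a ha => by
      obtain ⟨b, hb, rfl⟩ := ha
      obtain ⟨k, c, rfl, hat, hae⟩ := elim g hg (norm_P3 V N h3 (mem_cent3.1 hg).1 hn)
      have hcb : Commute c b := by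
        have hcx : Commute c x7 := (cent_E_three hat hae).1
        rcases inX_iff.1 hb with rfl | rfl | rfl
        exacts [Commute.one_right _, hcx, hcx.mul_right hcx]
      exact (((pow_v_comm V N k b).mul_left
        (show Commute (iota7 θ c) (iota7 θ b) from hcb.map (iota7 θ)))).eq)
  let ψ : ↥(zpowers y7) × ↥(zpowers x7) →* A7 :=
    MonoidHom.noncommCoprod (zpowers y7).subtype (zpowers x7).subtype fun a b => by
      obtain ⟨i, hi⟩ := mem_zpowers_iff.1 a.2
      obtain ⟨j, hj⟩ := mem_zpowers_iff.1 b.2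
      show Commute (a : A7) (b : A7)
      rw [← hi, ← hj]
      exact (show Commute y7 x7 from x7_facts.2.2.2.2.2.2.2.2.1.symm).zpow_zpow i j
  set A := ψ.range.map (iota7 θ) with hA
  have hy3 : orderOf y7 = 3 := orderOf_eq_prime x7_facts.2.2.2.2.2.2.2.2.2.1 (by decide +kernel)
  have hA9 : Nat.card ↥A ∣ 9 := by
    refine (card_map_dvd _ _).trans ?_
    have h := card_range_dvd ψ
    rwa [Nat.card_prod, Nat.card_zpowers, Nat.card_zpowers, hy3, orderOf_x7] at h
  have hmemA : ∀ a ∈ A, ∃ b, iota7 θ b = a ∧ b ^ 3 = 1 ∧ b * t7 * b⁻¹ ≠ 1 ∧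
      (InE (b * t7 * b⁻¹) ∧ InE (b * e7 * b⁻¹)) := by
    rintro _ ⟨_, ⟨⟨⟨p, hp⟩, ⟨q, hq⟩⟩, rfl⟩, rfl⟩
    refine ⟨p * q, by rw [MonoidHom.noncommCoprod_apply]; rfl, ?_⟩
    have hp' : p = 1 ∨ p = y7 ∨ p = y7 * y7 := by
      obtain ⟨k, hk⟩ := (Submonoid.mem_powers_iff _ _).1 (mem_powers_iff_mem_zpowers.2 hp)
      have hk' : y7 ^ (k % 3) = p := by rw [← hy3, pow_mod_orderOf]; exact hk
      have h3 := Nat.mod_lt k (show 0 < 3 by norm_num)
      interval_cases (k % 3)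
      · exact Or.inl (by rw [← hk', pow_zero])
      · exact Or.inr (Or.inl (by rw [← hk', pow_one]))
      · exact Or.inr (Or.inr (by rw [← hk', pow_two]))
    rcases hp' with rfl | rfl | rfl <;> rcases inX_iff.1 hq with rfl | rfl | rfl <;> decide +kernel
  have hAN : A ≤ normalizer (N0 : Set G) := by
    intro a ha
    refine mem_normalizer_of_maps (hinv a fun g hg => ?_)
    obtain ⟨b, rfl, -, -, hbt, hbe⟩ := hmemA a ha
    obtain ⟨hgv, hgt, hge⟩ := mem_cent3.1 hg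
    have hgE : ∀ c : A7, InE c → g * iota7 θ c = iota7 θ c * g := by
      rintro c (rfl | rfl | rfl | rfl)
      · rw [map_one, one_mul, mul_one]
      · exact hgt
      · exact hge
      · rw [map_mul]; exact ((show Commute g _ from hgt).mul_right hge).eq
    have back : ∀ c : A7, (b⁻¹ * c * b = t7 ∨ b⁻¹ * c * b = e7 ∨ InE (b⁻¹ * c * b)) →
        iota7 θ b * g * (iota7 θ b)⁻¹ * iota7 θ c = iota7 θ c * (iota7 θ b * g * (iota7 θ b)⁻¹) := by
      intro c hc
      have hE : InE (b⁻¹ * c * b) := by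
        rcases hc with h | h | h
        · rw [h]; exact Or.inr (Or.inl rfl)
        · rw [h]; exact Or.inr (Or.inr (Or.inl rfl))
        · exact h
      have h := comm_conj (x := iota7 θ b) (hgE _ hE)
      rwa [← map_inv, ← map_mul, ← map_mul, show b * (b⁻¹ * c * b) * b⁻¹ = c by group, map_inv] at h
    have hE : ∀ c, InE c → InE (b⁻¹ * c * b) := by
      obtain ⟨bb, hbb, hb3, -, h1, h2⟩ := hmemA _ ha
      obtain rfl := iota7_injective (θ := θ) hbb
      have hmul : ∀ c d : A7, InE c → InE d → InE (c * d) := by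
        rintro c d (rfl | rfl | rfl | rfl) (rfl | rfl | rfl | rfl) <;> decide +kernel
      have hfwd : ∀ c, InE c → InE (bb * c * bb⁻¹) := by
        rintro c (rfl | rfl | rfl | rfl)
        · exact Or.inl (by group)
        · exact h1
        · exact h2
        · rw [show bb * (t7 * e7) * bb⁻¹ = bb * t7 * bb⁻¹ * (bb * e7 * bb⁻¹) by group]
          exact hmul _ _ h1 h2
      intro c hc
      have h := hfwd _ (hfwd c hc)
      have hbi : bb⁻¹ = bb * bb := inv_eq_of_mul_eq_one_right (by rw [← mul_assoc, ← pow_two, ← pow_succ]; exact hb3)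
      rwa [show bb * (bb * c * bb⁻¹) * bb⁻¹ = bb * bb * c * (bb * bb)⁻¹ by group, ← hbi, inv_inv] at h
    refine mem_cent3.2 ⟨?_, back t7 (Or.inr (Or.inr (hE _ (Or.inr (Or.inl rfl))))),
      back e7 (Or.inr (Or.inr (hE _ (Or.inr (Or.inr (Or.inl rfl))))))⟩
    exact (((show Commute (iota7 θ b) v from iota7_v V N b).mul_left hgv).mul_left
      (show Commute (iota7 θ b) v from iota7_v V N b).inv_left).eq
  have hN0H : N0 ≤ HH T v := by
    have hAab : IsMulCommutative ↥A := by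
      have : ∀ a ∈ A, ∀ b ∈ A, a * b = b * a := by
        rintro _ ⟨_, ⟨p, rfl⟩, rfl⟩ _ ⟨_, ⟨q, rfl⟩, rfl⟩
        rw [← map_mul, ← map_mul, ← map_mul, ← map_mul,
          show p * q = q * p from Prod.ext (IsMulCommutative.is_comm.comm _ _) (IsMulCommutative.is_comm.comm _ _)]
      exact ⟨⟨fun a b => Subtype.ext (this a a.2 b b.2)⟩⟩
    have hnc : ¬ IsCyclic ↥A := by
      intro hcyc
      haveI : Fintype ↥A := Fintype.ofFinite _
      classical
      have hm : ∀ b : A7, (∃ p q, ψ (p, q) = b) → iota7 θ b ∈ A := fun b ⟨p, q, h⟩ =>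
        ⟨b, ⟨(p, q), h⟩, rfl⟩
      let a1 : ↥A := ⟨_, hm y7 ⟨⟨y7, mem_zpowers _⟩, 1, by rw [MonoidHom.noncommCoprod_apply]; simp⟩⟩
      let a2 : ↥A := ⟨_, hm x7 ⟨1, ⟨x7, mem_zpowers _⟩, by rw [MonoidHom.noncommCoprod_apply]; simp⟩⟩
      have hle := IsCyclic.card_pow_eq_one_le (α := ↥A) (show 0 < 3 by norm_num)
      have hsub : ({1, a1, a1 * a1, a2} : Finset ↥A) ⊆ Finset.univ.filter fun a => a ^ 3 = 1 := by
        intro a ha
        refine Finset.mem_filter.2 ⟨Finset.mem_univ _, Subtype.ext ?_⟩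
        simp only [Finset.mem_insert, Finset.mem_singleton] at ha
        rw [SubmonoidClass.coe_pow]
        rcases ha with rfl | rfl | rfl | rfl
        · simp
        · show (iota7 θ y7) ^ 3 = 1
          rw [← map_pow, x7_facts.2.2.2.2.2.2.2.2.2.1, map_one]
        · show (iota7 θ y7 * iota7 θ y7) ^ 3 = 1
          rw [← map_mul, ← map_pow, show (y7 * y7) ^ 3 = 1 by decide +kernel, map_one]
        · show (iota7 θ x7) ^ 3 = 1
          rw [← map_pow, x7_facts.1, map_one]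
      have e1 : ∀ b c : A7, b ≠ c → iota7 θ b ≠ iota7 θ c := fun b c h h' => h (iota7_injective (θ := θ) h')
      have h4 : ({1, a1, a1 * a1, a2} : Finset ↥A).card = 4 := by
        have n1 : (1 : ↥A) ≠ a1 := fun h => e1 1 y7 (by decide +kernel) ((map_one _).trans (congrArg Subtype.val h))
        have n2 : (1 : ↥A) ≠ a1 * a1 := fun h => e1 1 (y7 * y7) (by decide +kernel)
          ((map_one _).trans ((congrArg Subtype.val h).trans (map_mul _ _ _).symm))
        have n3 : (1 : ↥A) ≠ a2 := fun h => e1 1 x7 (by decide +kernel) ((map_one _).trans (congrArg Subtype.val h))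
        have n4 : a1 ≠ a1 * a1 := fun h => n1 (mul_eq_left.1 h.symm).symm
        have n5 : a1 ≠ a2 := fun h => e1 y7 x7 (by decide +kernel) (congrArg Subtype.val h :)
        have n6 : a1 * a1 ≠ a2 := fun h => e1 (y7 * y7) x7 (by decide +kernel)
          ((map_mul _ _ _).trans (congrArg Subtype.val h))
        simp [n1, n2, n3, n4, n5, n6]
      have := (Finset.card_le_card hsub).trans hle
      omega
    have hcop : (Nat.card ↥A).Coprime (Nat.card ↥N0) :=
      Nat.Coprime.coprime_dvd_left hA9 ((show Nat.Coprime (3 ^ 2) _ from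
        ((Nat.prime_three.coprime_iff_not_dvd).2 hN03).pow_left 2))
    rw [← CfsgLib.Coprime.iSup_centralizer_eq hAab hnc hAN hcop]
    refine iSup_le ?_
    rintro ⟨a, ha, ha1⟩ g ⟨hgN, hga⟩
    obtain ⟨b, rfl, hb3, -, -⟩ := hmemA a ha
    exact h3 b (orderOf_eq_prime hb3 fun h => ha1 (by rw [h, map_one])) g (mem_cent3.1 (hN0le hgN)).1
      (mem_centralizer_singleton_iff.1 hga)
  intro g hg
  obtain ⟨b, hb, a, ha, rfl⟩ := hfac g hg
  obtain ⟨c, -, rfl⟩ := ha
  exact mul_mem (hN0H hb) (by simpa using HH_intro V N 0 c)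

end Elems

/-- The four group as a subgroup. -/
def EE : Subgroup A7 where
  carrier := {a | InE a}
  one_mem' := Or.inl rfl
  mul_mem' := fun {a b} (ha : InE a) (hb : InE b) => by
    rcases ha with rfl | rfl | rfl | rfl <;> rcases hb with rfl | rfl | rfl | rfl <;> decide +kernel
  inv_mem' := fun {a} (ha : InE a) => by
    rcases ha with rfl | rfl | rfl | rfl <;> decide +kernel

/-- The other four group as a subgroup. -/
def FF : Subgroup A7 where
  carrier := {a | InF a}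
  one_mem' := Or.inl rfl
  mul_mem' := fun {a b} (ha : InF a) (hb : InF b) => by
    rcases ha with rfl | rfl | rfl | rfl <;> rcases hb with rfl | rfl | rfl | rfl <;> decide +kernel
  inv_mem' := fun {a} (ha : InF a) => by
    rcases ha with rfl | rfl | rfl | rfl <;> decide +kernel

def fourE (i : Fin 4) : A7 := ![1, t7, e7, t7 * e7] i

def fourF (i : Fin 4) : A7 := ![1, t7, f7, t7 * f7] i

theorem four_facts : Function.Injective fourE ∧ Function.Injective fourF ∧
    (∀ i, InE (fourE i)) ∧ ∀ i, InF (fourF i) := by decide +kernel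

theorem card_EE : Nat.card ↥EE = 4 := by
  refine ((Nat.card_congr (Equiv.ofBijective (fun i => (⟨fourE i, four_facts.2.2.1 i⟩ : ↥EE))
    ⟨fun i j h => four_facts.1 (congrArg Subtype.val h), ?_⟩)).symm.trans (Nat.card_fin 4))
  rintro ⟨a, rfl | rfl | rfl | rfl⟩
  exacts [⟨0, rfl⟩, ⟨1, rfl⟩, ⟨2, rfl⟩, ⟨3, rfl⟩]

theorem card_FF : Nat.card ↥FF = 4 := by
  refine ((Nat.card_congr (Equiv.ofBijective (fun i => (⟨fourF i, four_facts.2.2.2 i⟩ : ↥FF))
    ⟨fun i j h => four_facts.2.1 (congrArg Subtype.val h), ?_⟩)).symm.trans (Nat.card_fin 4))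
  rintro ⟨a, rfl | rfl | rfl | rfl⟩
  exacts [⟨0, rfl⟩, ⟨1, rfl⟩, ⟨2, rfl⟩, ⟨3, rfl⟩]

section Fusion

variable (V : Vee T v) (N : Nine T pt θ) (h3 : ThreeHyp T θ v)
include V N h3

/-- What is known of an element of order three of `C(E)`. -/
theorem CE_three {y : G} (hy : y ∈ CE θ v) (h : y ^ 3 = 1) : ∃ a, InX a ∧ y = iota7 θ a := by
  obtain ⟨k, a, rfl⟩ := HH_elim V N (CE_le V N h3 hy)
  obtain ⟨h1, h2⟩ := HH_pow_one V N h
  have hat := HH_comm V N (mem_cent3.1 hy).2.1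
  have hae := HH_comm V N (mem_cent3.1 hy).2.2
  exact ⟨a, (cent_E_three hat hae).2.1 h2, by rw [v_pow_one V N (by norm_num) h1, one_mul]⟩

/-- The normaliser of the four group. -/
theorem normE {g : G} (hv : g * v = v * g)
    (hg : ∀ a ∈ EE.map (iota7 θ), g * a * g⁻¹ ∈ EE.map (iota7 θ)) : g ∈ HH T v := by
  have hN := mem_normalizer_of_maps hg
  have key : ∀ c : A7, InE c → g * iota7 θ x7 * g⁻¹ * iota7 θ c = iota7 θ c * (g * iota7 θ x7 * g⁻¹) := by
    intro c hc
    obtain ⟨d, hd, hde⟩ := (mem_normalizer_iff.1 (inv_mem hN) (iota7 θ c)).1 ⟨c, hc, rfl⟩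
    have hxd : x7 * d = d * x7 := by
      rcases (hd : InE d) with rfl | rfl | rfl | rfl <;> decide +kernel
    have h := comm_conj (x := g) (show iota7 θ x7 * iota7 θ d = iota7 θ d * iota7 θ x7 by
      rw [← map_mul, ← map_mul, hxd])
    rwa [hde, inv_inv, show g * (g⁻¹ * iota7 θ c * g) * g⁻¹ = iota7 θ c by group] at h
  obtain ⟨a, ha, hae⟩ := CE_three V N h3 (y := g * iota7 θ x7 * g⁻¹)
    (mem_cent3.2 ⟨(((show Commute g v from hv).mul_left (iota7_v V N x7)).mul_left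
      (show Commute g v from hv).inv_left).eq, key t7 (Or.inr (Or.inl rfl)),
      key e7 (Or.inr (Or.inr (Or.inl rfl)))⟩)
    (by rw [conj_pow, ← map_pow, x7_facts.1, map_one]; group)
  refine norm_x7 V N h3 hv ha (fun h1 => x7_facts.2.1 (iota7_injective (θ := θ) ?_)) hae
  rw [h1, map_one] at hae
  rw [map_one]
  exact conj_eq_one_iff.1 hae

/-- The two four groups are not conjugate in `C(v)`. -/
theorem not_fused (hq : HasOmega z Q) {g : G} (hv : g * v = v * g)
    (hg : ∀ a ∈ EE.map (iota7 θ), g * a * g⁻¹ ∈ FF.map (iota7 θ)) : False := by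
  have heq : (EE.map (iota7 θ)).map (MulAut.conj g).toMonoidHom = FF.map (iota7 θ) := by
    refine eq_of_le_of_card_ge ?_ ?_
    · rintro _ ⟨a, ha, rfl⟩; exact hg a ha
    · rw [card_map_of_injective (f := (MulAut.conj g).toMonoidHom) (MulEquiv.injective _), card_map_of_injective iota7_injective,
        card_map_of_injective iota7_injective, card_EE, card_FF]
  set y := g * iota7 θ x7 * g⁻¹ with hy
  have hyv : y * v = v * y :=
    (((show Commute g v from hv).mul_left (iota7_v V N x7)).mul_left (show Commute g v from hv).inv_left).eq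
  have hy3 : y ^ 3 = 1 := by rw [hy, conj_pow, ← map_pow, x7_facts.1, map_one]; group
  have hyF : ∀ f : A7, InF f → y * iota7 θ f = iota7 θ f * y := by
    intro f hf
    obtain ⟨_, ⟨c, hc, rfl⟩, hce⟩ := (heq.symm ▸ (⟨f, hf, rfl⟩ : iota7 θ f ∈ FF.map (iota7 θ)) :
      iota7 θ f ∈ (EE.map (iota7 θ)).map (MulAut.conj g).toMonoidHom)
    have hxd : x7 * c = c * x7 := by
      rcases (hc : InE c) with rfl | rfl | rfl | rfl <;> decide +kernel
    have h := comm_conj (x := g) (show iota7 θ x7 * iota7 θ c = iota7 θ c * iota7 θ x7 by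
      rw [← map_mul, ← map_mul, hxd])
    rw [← hce]
    exact h
  set y' := ρ * y * ρ⁻¹ with hy'
  have hy'v : y' * v = v * y' := by
    have h := comm_conj (x := ρ) hyv
    rw [V.conj] at h
    have h4 := (show Commute y' (v ^ 2) from h).pow_right 4
    rwa [← pow_mul, show 2 * 4 = 7 + 1 from rfl, pow_add, V.pow7, one_mul, pow_one] at h4
  have hy'E : ∀ c : A7, InE c → g⁻¹ * y' * g * iota7 θ c = iota7 θ c * (g⁻¹ * y' * g) := by
    intro c hc
    obtain ⟨f, hf, hfe⟩ := hg (iota7 θ c) ⟨c, hc, rfl⟩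
    have h1 := comm_conj (x := ρ) (hyF f hf)
    rw [← iota7_rho f, mul_inv_cancel_right, ← hy'] at h1
    have h2 := comm_conj (x := g⁻¹) h1
    rwa [hfe, inv_inv, show g⁻¹ * (g * iota7 θ c * g⁻¹) * g = iota7 θ c by group] at h2
  obtain ⟨a, ha, hae⟩ := CE_three V N h3 (y := g⁻¹ * y' * g)
    (mem_cent3.2 ⟨(((show Commute g v from hv).inv_left.mul_left hy'v).mul_left
      (show Commute g v from hv)).eq, hy'E t7 (Or.inr (Or.inl rfl)), hy'E e7 (Or.inr (Or.inr (Or.inl rfl)))⟩)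
    (by
      rw [show g⁻¹ * y' * g = g⁻¹ * ρ * y * (g⁻¹ * ρ)⁻¹ by rw [hy']; group, conj_pow, hy3]; group)
  have hy1 : y ≠ 1 := fun h => x7_facts.2.1 (iota7_injective (θ := θ) (by
    rw [map_one]; exact conj_eq_one_iff.1 h))
  have hya : y' = g * iota7 θ a * g⁻¹ := by rw [← hae]; group
  have hyρ : y' = y := by
    rcases ha with rfl | rfl | rfl
    · exfalso
      rw [map_one, mul_one, mul_inv_cancel, hy', conj_eq_one_iff] at hya
      exact hy1 hya
    · exact hya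
    · exfalso
      have hsq : ρ * y * ρ⁻¹ = y * y := by rw [← hy', hya, map_mul, hy]; group
      have h4 : y * y * (y * y) = y := by
        rw [show y * y * (y * y) = y ^ 3 * y by simp only [pow_succ, pow_zero, one_mul, mul_assoc], hy3,
          one_mul]
      have h2 : ρ * (ρ * y * ρ⁻¹) * ρ⁻¹ = y := by
        rw [hsq, show ρ * (y * y) * ρ⁻¹ = ρ * y * ρ⁻¹ * (ρ * y * ρ⁻¹) by group, hsq, h4]
      have h33 : ρ * (ρ * (ρ * y * ρ⁻¹) * ρ⁻¹) * ρ⁻¹ = y := by
        rw [show ρ * (ρ * (ρ * y * ρ⁻¹) * ρ⁻¹) * ρ⁻¹ = (ρ * ρ * ρ) * y * (ρ * ρ * ρ)⁻¹ by group, T.rho3]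
        group
      rw [h2, hsq] at h33
      exact hy1 (mul_eq_left.1 h33)
  obtain ⟨b, hb⟩ : ∃ b, iota7 θ b = y := by
    have h := V.cent_rho N hq hyv ((mul_inv_eq_iff_eq_mul.1 hyρ).symm)
    rwa [← iota7_range N] at h
  have hb3 : b ^ 3 = 1 := iota7_injective (θ := θ) (by rw [map_pow, hb, hy3, map_one])
  have hb1 : b = 1 := cent_F_three
    (iota7_injective (θ := θ) (by rw [map_mul, map_mul, hb]; exact hyF t7 (Or.inr (Or.inl rfl))))
    (iota7_injective (θ := θ) (by rw [map_mul, map_mul, hb]; exact hyF f7 (Or.inr (Or.inr (Or.inl rfl)))))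
    hb3
  exact hy1 (by rw [← hb, hb1, map_one])

/-- The normaliser of the dihedral group. -/
theorem normD (hq : HasOmega z Q) {g : G} (hv : g * v = v * g)
    (hg : ∀ a ∈ D8.map (iota7 θ), g * a * g⁻¹ ∈ D8.map (iota7 θ)) :
    ∃ k d, InD d ∧ g = v ^ k * iota7 θ d := by
  have hN := mem_normalizer_of_maps hg
  have img : ∀ a, InD a → ∃ b, InD b ∧ g * iota7 θ a * g⁻¹ = iota7 θ b := by
    intro a ha
    obtain ⟨b, hb, hbe⟩ := hg _ ⟨a, ha, rfl⟩
    exact ⟨b, hb, hbe.symm⟩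
  have ht : InD t7 := Or.inl (Or.inr (Or.inl rfl))
  have he : InD e7 := Or.inl (Or.inr (Or.inr (Or.inl rfl)))
  have hf : InD f7 := Or.inr (Or.inl (by decide +kernel))
  obtain ⟨t', ht', hte⟩ := img t7 ht
  have htc : ∀ d, InD d → t' * d = d * t' := by
    intro d hd
    obtain ⟨c, hc, hce⟩ := (mem_normalizer_iff.1 (inv_mem hN) (iota7 θ d)).1 ⟨d, hd, rfl⟩
    obtain ⟨p, rfl⟩ := inD_iff.1 (hc : InD c)
    have h := comm_conj (x := g) (show iota7 θ t7 * iota7 θ (d8el p) = iota7 θ (d8el p) * iota7 θ t7 by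
      rw [← map_mul, ← map_mul, d8_facts.2.2.2.1 p])
    rw [hte, hce, inv_inv, show g * (g⁻¹ * iota7 θ d * g) * g⁻¹ = iota7 θ d by group, ← map_mul,
      ← map_mul] at h
    exact iota7_injective h
  have ht1 : t' ≠ 1 := fun h => by
    rw [h, map_one, conj_eq_one_iff] at hte
    exact x7_facts.2.2.2.2.2.2.2.2.2.2.2.2.2 (iota7_injective (hte.trans (map_one _).symm))
  obtain rfl := D8_central ht' (htc e7 he) (htc f7 hf) ht1
  obtain ⟨e', he', hee⟩ := img e7 he
  have he2 : e' * e' = 1 := iota7_injective (θ := θ) (by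
    rw [map_mul, ← hee, show g * iota7 θ e7 * g⁻¹ * (g * iota7 θ e7 * g⁻¹) =
      g * (iota7 θ e7 * iota7 θ e7) * g⁻¹ by group, ← map_mul, show e7 * e7 = 1 by decide +kernel,
      map_one, mul_one, mul_inv_cancel])
  have himg : ∀ (S : Subgroup A7), t7 ∈ S → e' ∈ S →
      ∀ a ∈ EE.map (iota7 θ), g * a * g⁻¹ ∈ S.map (iota7 θ) := by
    intro S hS1 hS2
    rintro _ ⟨c, hc, rfl⟩
    rcases (hc : InE c) with rfl | rfl | rfl | rfl
    · rw [map_one, mul_one, mul_inv_cancel]; exact one_mem _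
    · exact ⟨t7, hS1, hte.symm⟩
    · exact ⟨e', hS2, hee.symm⟩
    · refine ⟨t7 * e', mul_mem hS1 hS2, ?_⟩
      rw [map_mul, map_mul, ← hee]
      nth_rewrite 1 [← hte]
      group
  have hgH : g ∈ HH T v := by
    rcases D8_invol he' he2 with h | h
    · exact normE V N h3 hv (himg EE (Or.inr (Or.inl rfl)) h)
    · exact absurd (not_fused V N h3 hq hv (himg FF (Or.inr (Or.inl rfl)) h)) id
  obtain ⟨k, a, rfl⟩ := HH_elim V N hgH
  rw [HH_conj V N] at hte
  have hat : a * t7 = t7 * a := mul_inv_eq_iff_eq_mul.1 (iota7_injective hte)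
  obtain ⟨b, hb, hbe⟩ := img e7 he
  obtain ⟨c, hc, hce⟩ := img f7 hf
  rw [HH_conj V N] at hbe hce
  refine ⟨k, a, (cent_t_facts hat).1 ?_ ?_, rfl⟩
  · rw [iota7_injective hbe]; exact hb
  · rw [iota7_injective hce]; exact hc

end Fusion

section Involution

variable (V : Vee T v) (N : Nine T pt θ) (h3 : ThreeHyp T θ v)
include V N h3

/-- The odd part of the centraliser of the involution. -/
theorem exists_odd (hq : HasOmega z Q) : ∃ O : Subgroup G, O ≤ CT θ v ∧ Odd (Nat.card ↥O) ∧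
    (∀ g ∈ CT θ v, Odd (orderOf g) → g ∈ O) ∧
    (∀ g ∈ CT θ v, ∃ o ∈ O, ∃ a, InD a ∧ g = o * iota7 θ a) := by
  classical
  haveI : Fact (Nat.Prime 2) := ⟨Nat.prime_two⟩
  set K := CT θ v with hK
  have hDK : ∀ a, InD a → iota7 θ a ∈ K := fun a ha => by
    obtain ⟨p, rfl⟩ := inD_iff.1 ha
    exact mem_cent2.2 ⟨iota7_v V N _, by rw [← map_mul, ← map_mul, d8_facts.2.2.2.1 p]⟩
  have htD : InD t7 := Or.inl (Or.inr (Or.inl rfl))
  set tK : ↥K := ⟨iota7 θ t7, hDK _ htD⟩ with htK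
  set Z := zpowers tK with hZ
  have htc : ∀ s ∈ Z, ∀ g : ↥K, g * s = s * g := by
    intro s hs g
    obtain ⟨i, rfl⟩ := mem_zpowers_iff.1 hs
    exact ((show Commute g tK from Subtype.ext (mem_cent2.1 g.2).2).zpow_right i).eq
  haveI hZn : Z.Normal := ⟨fun s hs g => by rw [htc s hs g, mul_inv_cancel_right]; exact hs⟩
  have htt : tK * tK = 1 := Subtype.ext (by
    show iota7 θ t7 * iota7 θ t7 = 1
    rw [← map_mul, x7_facts.2.2.2.2.2.2.2.2.2.2.2.2.1, map_one])
  have hZel : ∀ s ∈ Z, s = 1 ∨ s = tK := by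
    intro s hs
    obtain ⟨k, hk⟩ := (Submonoid.mem_powers_iff _ _).1 (mem_powers_iff_mem_zpowers.2 hs)
    rcases Nat.even_or_odd k with ⟨l, rfl⟩ | ⟨l, rfl⟩
    · left; rw [← hk, ← two_mul, pow_mul, pow_two, htt, one_pow]
    · right; rw [← hk, pow_succ, pow_mul, pow_two, htt, one_pow, one_mul]
  set P := ((D8.map (iota7 θ)).subgroupOf K).map (QuotientGroup.mk' Z) with hP
  have hD8K : D8.map (iota7 θ) ≤ K := by rintro _ ⟨a, ha, rfl⟩; exact hDK a ha
  have hD8card : IsPGroup 2 ↥D8 := by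
    intro a
    obtain ⟨p, hp⟩ := inD_iff.1 a.2
    refine ⟨2, Subtype.ext ?_⟩
    show (a : A7) ^ 2 ^ 2 = 1
    rw [← hp]
    clear hp
    revert p; decide +kernel
  have hP2 : IsPGroup 2 ↥P :=
    ((hD8card.map (iota7 θ)).of_equiv (subgroupOfEquivOfLe hD8K).symm).map _
  have hlift : ∀ g : ↥K, (∀ x ∈ P, QuotientGroup.mk' Z g * x * (QuotientGroup.mk' Z g)⁻¹ ∈ P) →
      ∃ k d, InD d ∧ (g : G) = v ^ k * iota7 θ d := by
    intro g hg
    refine normD V N h3 hq (mem_cent2.1 g.2).1 ?_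
    rintro _ ⟨a, ha, rfl⟩
    obtain ⟨b, hb, hbe⟩ := hg _ ⟨⟨iota7 θ a, hDK a ha⟩, mem_subgroupOf.2 ⟨a, ha, rfl⟩, rfl⟩
    rw [← map_inv, ← map_mul, ← map_mul, QuotientGroup.mk'_eq_mk'] at hbe
    obtain ⟨s, hs, hse⟩ := hbe
    obtain ⟨c, hc, hce⟩ := mem_subgroupOf.1 hb
    have hse' : (b : G) * s = (g : G) * iota7 θ a * (g : G)⁻¹ := congrArg Subtype.val hse
    rw [← hse', ← hce]
    rcases hZel s hs with rfl | rfl
    · exact ⟨c, hc, by simp⟩
    · exact ⟨c * t7, mul_mem hc (mem_D8.2 htD), map_mul _ _ _⟩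
  obtain ⟨N1, -, hN12, hfac, hin, -⟩ := exists_compl (p := 2) (⊤ : Subgroup (↥K ⧸ Z)) P le_top hP2
    (fun x _ hn ⟨n, hxn⟩ => by
      obtain ⟨g, rfl⟩ := QuotientGroup.mk'_surjective Z x
      obtain ⟨k, d, hd, hgd⟩ := hlift g hn
      rw [← map_pow, QuotientGroup.mk'_apply, QuotientGroup.eq_one_iff] at hxn
      have hg2 : g ^ 2 ^ (n + 1) = 1 := by
        rw [pow_succ, pow_mul, pow_two]
        rcases hZel _ hxn with h | h <;> rw [h]
        · rw [one_mul]
        · exact htt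
      have h := congrArg Subtype.val hg2
      rw [SubmonoidClass.coe_pow, hgd] at h
      have hk := v_pow_one V N ((Nat.Coprime.pow_left (n + 1) (by norm_num)) : Nat.Coprime (2 ^ (n + 1)) 7)
        (HH_pow_one V N h).1
      rw [hk, one_mul] at hgd
      exact ⟨g, mem_subgroupOf.2 ⟨d, hd, hgd.symm⟩, rfl⟩)
    (fun x _ hn a ha => by
      obtain ⟨g, rfl⟩ := QuotientGroup.mk'_surjective Z x
      obtain ⟨b, hb, rfl⟩ := ha
      obtain ⟨k, d, hd, hgd⟩ := hlift g hn
      obtain ⟨c, hc, hce⟩ := mem_subgroupOf.1 hb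
      obtain ⟨p, rfl⟩ := inD_iff.1 hd
      obtain ⟨q, rfl⟩ := inD_iff.1 (hc : InD c)
      rw [← map_mul, ← map_mul]
      refine (QuotientGroup.mk'_eq_mk' Z).2 ⟨(g * b)⁻¹ * (b * g), ?_, mul_inv_cancel_left _ _⟩
      obtain ⟨r, hr, hre⟩ : ∃ r : ↥K, r ∈ Z ∧ r = g * b * g⁻¹ * b⁻¹ := by
        rcases d8_facts.2.2.2.2 p q with h | h
        · refine ⟨1, one_mem _, Subtype.ext ?_⟩
          show 1 = (g : G) * b * (g : G)⁻¹ * (b : G)⁻¹
          rw [hgd, ← hce, HH_conj V N, ← map_inv, ← map_mul, h, map_one]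
        · refine ⟨tK, mem_zpowers _, Subtype.ext ?_⟩
          show iota7 θ t7 = (g : G) * b * (g : G)⁻¹ * (b : G)⁻¹
          rw [hgd, ← hce, HH_conj V N, ← map_inv, ← map_mul, h]
      have : (g * b)⁻¹ * (b * g) = (g * b)⁻¹ * r⁻¹ * (g * b) := by rw [hre]; group
      rw [this, mul_assoc, ← htc _ (inv_mem hr), inv_mul_cancel_left]
      exact inv_mem hr)
  set K1 := (N1.comap (QuotientGroup.mk' Z)).map K.subtype with hK1
  have hK1K : K1 ≤ K := map_subtype_le _
  have hZ2 : Nat.card ↥Z = 2 := by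
    rw [hZ, Nat.card_zpowers]
    refine orderOf_eq_prime (by rw [pow_two]; exact htt) fun h => x7_facts.2.2.2.2.2.2.2.2.2.2.2.2.2 ?_
    exact iota7_injective (θ := θ) ((congrArg Subtype.val h).trans (map_one _).symm)
  have hP1 : zpowers (iota7 θ t7) ≤ K1 := zpowers_le.2 ⟨tK, by
    show QuotientGroup.mk' Z tK ∈ N1
    rw [QuotientGroup.mk'_apply, (QuotientGroup.eq_one_iff tK).2 (mem_zpowers _)]; exact one_mem _, rfl⟩
  have ho2 : orderOf (iota7 θ t7) = 2 := by
    rw [← hZ2, hZ, Nat.card_zpowers, ← orderOf_coe]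
  obtain ⟨O, hOK1, hO2, hOfac, hOin, -⟩ := exists_compl (p := 2) K1 (zpowers (iota7 θ t7)) hP1
    (IsPGroup.of_card (n := 1) (by rw [Nat.card_zpowers, ho2, pow_one]))
    (fun g hg _ ⟨n, hgn⟩ => by
      obtain ⟨h, hh, rfl⟩ := hg
      replace hh : QuotientGroup.mk' Z h ∈ N1 := hh
      have h1 : orderOf (QuotientGroup.mk' Z h) = 1 := by
        refine Nat.eq_one_of_dvd_coprimes ((Nat.prime_two.coprime_iff_not_dvd.2 hN12).pow_left n) ?_
          (N1.orderOf_dvd_natCard hh)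
        refine orderOf_dvd_of_pow_eq_one ?_
        rw [← map_pow, show h ^ 2 ^ n = 1 from Subtype.ext (by rw [SubmonoidClass.coe_pow]; exact hgn), map_one]
      rw [orderOf_eq_one_iff, QuotientGroup.mk'_apply, QuotientGroup.eq_one_iff] at h1
      rcases hZel h h1 with rfl | rfl
      · exact one_mem _
      · exact mem_zpowers _)
    (fun g hg _ a ha => by
      obtain ⟨i, rfl⟩ := mem_zpowers_iff.1 ha
      exact ((show Commute g (iota7 θ t7) from (mem_cent2.1 (hK1K hg)).2).zpow_right i).eq)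
  refine ⟨O, hOK1.trans hK1K, Nat.not_even_iff_odd.1 (fun h => hO2 (even_iff_two_dvd.1 h)),
    fun g hg hodd => hOin g ?_ ?_, fun g hg => ?_⟩
  · refine ⟨⟨g, hg⟩, hin _ (mem_top _) fun h => ?_, rfl⟩
    have h2 := h.trans (orderOf_map_dvd (QuotientGroup.mk' Z) (⟨g, hg⟩ : ↥K))
    rw [← orderOf_coe] at h2
    exact (Nat.not_even_iff_odd.2 hodd) (even_iff_two_dvd.2 h2)
  · exact fun h => (Nat.not_even_iff_odd.2 hodd) (even_iff_two_dvd.2 h)
  · obtain ⟨b, hb, a, ha, hgba⟩ := hfac (QuotientGroup.mk' Z ⟨g, hg⟩) (mem_top _)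
    obtain ⟨a0, ha0, rfl⟩ := ha
    obtain ⟨b0, rfl⟩ := QuotientGroup.mk'_surjective Z b
    rw [← map_mul, eq_comm, QuotientGroup.mk'_eq_mk'] at hgba
    obtain ⟨s, hs, hse⟩ := hgba
    obtain ⟨d, hd, hde⟩ := mem_subgroupOf.1 ha0
    have hb0 : (b0 : G) ∈ K1 := ⟨b0, hb, rfl⟩
    obtain ⟨o, ho, c, hc, hoc⟩ := hOfac _ hb0
    obtain ⟨i, rfl⟩ := mem_zpowers_iff.1 hc
    obtain ⟨s', hs', hss⟩ : ∃ s' ∈ D8, iota7 θ s' = (s : G) := by
      rcases hZel s hs with rfl | rfl
      · exact ⟨1, one_mem _, map_one _⟩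
      · exact ⟨t7, mem_D8.2 htD, rfl⟩
    refine ⟨o, ho, t7 ^ i * d * s', mul_mem (mul_mem (zpow_mem (mem_D8.2 htD) i) hd) hs', ?_⟩
    have := congrArg Subtype.val hse
    rw [Subgroup.coe_mul, Subgroup.coe_mul, hoc, ← hde, ← hss] at this
    change _ = g at this
    rw [← this, map_mul, map_mul, map_zpow]
    simp only [mul_assoc]

set_option maxHeartbeats 800000 in
/-- The statement. -/
theorem cent_invol_le' (hq : HasOmega z Q) : CT θ v ≤ HH T v := by
  classical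
  haveI : Fact (Nat.Prime 3) := ⟨Nat.prime_three⟩
  obtain ⟨O, hOK, hOodd, hOin, hfac⟩ := exists_odd V N h3 hq
  set x := iota7 θ x7 with hx
  set P := (zpowers x7).map (iota7 θ) with hP
  have hxK : x ∈ CT θ v := mem_cent2.2 ⟨iota7_v V N x7, by rw [hx, ← map_mul, ← map_mul, x7_facts.2.2.2.2.1]⟩
  have hx3 : x ^ 3 = 1 := by rw [hx, ← map_pow, x7_facts.1, map_one]
  have hxo : orderOf x = 3 := by rw [hx, orderOf_injective _ iota7_injective, orderOf_x7]
  have hxO : x ∈ O := hOin x hxK (by rw [hxo]; decide)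
  have hPO : P ≤ O := by rw [hP, MonoidHom.map_zpowers]; exact zpowers_le.2 hxO
  have elim : ∀ g ∈ O, g ∈ HH T v → ∃ k a, g = v ^ k * iota7 θ a ∧ InX a := by
    intro g hg hH
    obtain ⟨k, a, rfl⟩ := HH_elim V N hH
    have hat := HH_comm V N (mem_cent2.1 (hOK hg)).2
    refine ⟨k, a, rfl, (cent_t_facts hat).2.2 ?_⟩
    have h1 : (v ^ k * iota7 θ a) ^ Nat.card ↥O = 1 :=
      orderOf_dvd_iff_pow_eq_one.1 (O.orderOf_dvd_natCard hg)
    refine orderOf_dvd_iff_pow_eq_one.1 (Nat.Coprime.dvd_of_dvd_mul_left (m := 8) ?_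
      (show orderOf a ∣ 8 * 3 from orderOf_dvd_of_pow_eq_one (cent_t_facts hat).2.1))
    exact Nat.Coprime.coprime_dvd_left (orderOf_dvd_of_pow_eq_one (HH_pow_one V N h1).2)
      (show Nat.Coprime _ (2 ^ 3) from ((Nat.coprime_two_right.2 hOodd).pow_right 3))
  obtain ⟨N0, hN0O, hN03, hN0fac, hN0in, hN0inv⟩ := exists_compl (p := 3) O P hPO
    (IsPGroup.map (IsPGroup.of_card (n := 1) (by rw [Nat.card_zpowers, orderOf_x7, pow_one])) _)
    (fun g hg hn ⟨n, hgn⟩ => by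
      obtain ⟨k, a, rfl, ha⟩ := elim g hg (norm_P3 V N h3 (mem_cent2.1 (hOK hg)).1 hn)
      rw [v_pow_one V N ((Nat.Coprime.pow_left n (by norm_num)) : Nat.Coprime (3 ^ n) 7)
        (HH_pow_one V N hgn).1, one_mul]
      exact ⟨a, inX_iff.2 ha, rfl⟩)
    (fun g hg hn a ha => by
      obtain ⟨b, hb, rfl⟩ := ha
      obtain ⟨k, c, rfl, hc⟩ := elim g hg (norm_P3 V N h3 (mem_cent2.1 (hOK hg)).1 hn)
      have hcb : Commute c b := by
        rcases inX_iff.1 hb with rfl | rfl | rfl <;> rcases hc with rfl | rfl | rfl <;>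
          (show _ * _ = _ * _; decide +kernel)
      exact ((pow_v_comm V N k b).mul_left
        (show Commute (iota7 θ c) (iota7 θ b) from hcb.map (iota7 θ))).eq)
  -- conjugations preserving the centraliser of the involution preserve `N0`
  have hinvK : ∀ w : G, (∀ g ∈ CT θ v, w * g * w⁻¹ ∈ CT θ v) → ∀ g ∈ N0, w * g * w⁻¹ ∈ N0 := by
    intro w hw
    refine hN0inv w fun g hg => hOin _ (hw g (hOK hg)) ?_
    show Odd (orderOf (MulAut.conj w g))
    rw [MulEquiv.orderOf_eq]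
    exact hOodd.of_dvd_nat (O.orderOf_dvd_natCard hg)
  have hρK : ∀ g ∈ CT θ v, ρ * g * ρ⁻¹ ∈ CT θ v := by
    intro g hg
    obtain ⟨hgv, hgt⟩ := mem_cent2.1 hg
    refine mem_cent2.2 ⟨?_, ?_⟩
    · have h := comm_conj (x := ρ) hgv
      rw [V.conj] at h
      have h4 := (show Commute _ (v ^ 2) from h).pow_right 4
      rwa [← pow_mul, show 2 * 4 = 7 + 1 from rfl, pow_add, V.pow7, one_mul, pow_one] at h4
    · have h := comm_conj (x := ρ) hgt
      rwa [← iota7_rho, mul_inv_cancel_right] at h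
  have hxρ : x * ρ = ρ * x := iota7_rho x7
  have hρ3 : ρ ^ 3 = 1 := by rw [pow_succ, pow_two, T.rho3]
  let ψ : ↥(zpowers ρ) × ↥(zpowers x) →* G :=
    MonoidHom.noncommCoprod (zpowers ρ).subtype (zpowers x).subtype fun a b => by
      obtain ⟨i, hi⟩ := mem_zpowers_iff.1 a.2
      obtain ⟨j, hj⟩ := mem_zpowers_iff.1 b.2
      show Commute (a : G) (b : G)
      rw [← hi, ← hj]
      exact (show Commute ρ x from hxρ.symm).zpow_zpow i j
  set A := ψ.range with hA
  have hρo : orderOf ρ = 3 := orderOf_rho T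
  have hA9 : Nat.card ↥A ∣ 9 := by
    have h := card_range_dvd ψ
    rwa [Nat.card_prod, Nat.card_zpowers, Nat.card_zpowers, hρo, hxo] at h
  have hρA : ρ ∈ A := ⟨(⟨ρ, mem_zpowers _⟩, 1), by rw [MonoidHom.noncommCoprod_apply]; simp⟩
  have hxA : x ∈ A := ⟨(1, ⟨x, mem_zpowers _⟩), by rw [MonoidHom.noncommCoprod_apply]; simp⟩
  have hAgen : ∀ a ∈ A, ∃ i < 3, ∃ j < 3, a = ρ ^ i * x ^ j := by
    rintro _ ⟨⟨⟨a, ha⟩, ⟨b, hb⟩⟩, rfl⟩
    obtain ⟨i, hi⟩ := (Submonoid.mem_powers_iff _ _).1 (mem_powers_iff_mem_zpowers.2 ha)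
    obtain ⟨j, hj⟩ := (Submonoid.mem_powers_iff _ _).1 (mem_powers_iff_mem_zpowers.2 hb)
    refine ⟨i % 3, Nat.mod_lt _ (by norm_num), j % 3, Nat.mod_lt _ (by norm_num), ?_⟩
    rw [MonoidHom.noncommCoprod_apply]
    show a * b = _
    conv_lhs => rw [← hi, ← hj, ← pow_mod_orderOf, hρo, ← pow_mod_orderOf x, hxo]
  have hAab : IsMulCommutative ↥A := by
    have : ∀ a ∈ A, ∀ b ∈ A, a * b = b * a := by
      intro a ha b hb
      obtain ⟨i, -, j, -, rfl⟩ := hAgen a ha
      obtain ⟨i', -, j', -, rfl⟩ := hAgen b hb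
      have hc : Commute ρ x := hxρ.symm
      exact (((Commute.refl ρ).pow_pow i i').mul_right (hc.pow_pow i j')).mul_left
        ((hc.symm.pow_pow j i').mul_right ((Commute.refl x).pow_pow j j')) |>.eq
    exact ⟨⟨fun a b => Subtype.ext (this a a.2 b b.2)⟩⟩
  have hAN : A ≤ normalizer (N0 : Set G) := by
    have hA' : ∀ a ∈ A, ∀ g ∈ CT θ v, a * g * a⁻¹ ∈ CT θ v := by
      intro a ha g hg
      obtain ⟨i, hi, j, hj, rfl⟩ := hAgen a ha
      have h1 : x ^ j * g * (x ^ j)⁻¹ ∈ CT θ v := mul_mem (mul_mem (pow_mem hxK j) hg) (inv_mem (pow_mem hxK j))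
      rw [show ρ ^ i * x ^ j * g * (ρ ^ i * x ^ j)⁻¹ = ρ ^ i * (x ^ j * g * (x ^ j)⁻¹) * (ρ ^ i)⁻¹ by group]
      generalize x ^ j * g * (x ^ j)⁻¹ = g' at h1
      clear hi ha
      induction i with
      | zero => simpa using h1
      | succ i ih =>
        rw [show ρ ^ (i + 1) * g' * (ρ ^ (i + 1))⁻¹ = ρ * (ρ ^ i * g' * (ρ ^ i)⁻¹) * ρ⁻¹ by
          rw [pow_succ']; group]
        exact hρK _ ih
    exact fun a ha => mem_normalizer_of_maps (hinvK a (hA' a ha))
  have hnc : ¬ IsCyclic ↥A := by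
    intro hcyc
    haveI : Fintype ↥A := Fintype.ofFinite _
    classical
    have hρx : ρ ∉ zpowers x := fun h => by
      obtain ⟨i, hi⟩ := mem_zpowers_iff.1 h
      have h1 : Commute ρ v := hi ▸ (show Commute x v from iota7_v V N x7).zpow_left i
      have h2 : v ^ 1 = v ^ 2 := by
        rw [pow_one, ← V.conj, h1.eq, mul_inv_cancel_right]
      rw [V.pow_eq_iff] at h2
      norm_num at h2
    have hle := IsCyclic.card_pow_eq_one_le (α := ↥A) (show 0 < 3 by norm_num)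
    let a1 : ↥A := ⟨x, hxA⟩
    let a2 : ↥A := ⟨ρ, hρA⟩
    have hsub : ({1, a1, a1 * a1, a2} : Finset ↥A) ⊆ Finset.univ.filter fun a => a ^ 3 = 1 := by
      intro a ha
      refine Finset.mem_filter.2 ⟨Finset.mem_univ _, Subtype.ext ?_⟩
      simp only [Finset.mem_insert, Finset.mem_singleton] at ha
      rw [SubmonoidClass.coe_pow]
      rcases ha with rfl | rfl | rfl | rfl
      · simp
      · exact hx3
      · show (x * x) ^ 3 = 1
        rw [← pow_two, ← pow_mul, mul_comm, pow_mul, hx3, one_pow]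
      · exact hρ3
    have h4 : ({1, a1, a1 * a1, a2} : Finset ↥A).card = 4 := by
      have hx1 : x ≠ 1 := fun h => by rw [h, orderOf_one] at hxo; norm_num at hxo
      have n1 : (1 : ↥A) ≠ a1 := fun h => hx1 (congrArg Subtype.val h).symm
      have n2 : (1 : ↥A) ≠ a1 * a1 := fun h => hx1 (by
        have h' : x * x = 1 := (congrArg Subtype.val h).symm
        rwa [pow_succ, pow_two, h', one_mul] at hx3)
      have n3 : (1 : ↥A) ≠ a2 := fun h => hρx (by
        have h' : (1 : G) = ρ := congrArg Subtype.val h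
        rw [← h']; exact one_mem _)
      have n4 : a1 ≠ a1 * a1 := fun h => n1 (mul_eq_left.1 h.symm).symm
      have n5 : a1 ≠ a2 := fun h => hρx (by
        have h' : x = ρ := congrArg Subtype.val h
        rw [← h']; exact mem_zpowers x)
      have n6 : a1 * a1 ≠ a2 := fun h => hρx (by
        have h' : x * x = ρ := congrArg Subtype.val h
        rw [← h']; exact mul_mem (mem_zpowers x) (mem_zpowers x))
      simp [n1, n2, n3, n4, n5, n6]
    have := (Finset.card_le_card hsub).trans hle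
    omega
  have hcop : (Nat.card ↥A).Coprime (Nat.card ↥N0) :=
    Nat.Coprime.coprime_dvd_left hA9 ((show Nat.Coprime (3 ^ 2) _ from
      ((Nat.prime_three.coprime_iff_not_dvd).2 hN03).pow_left 2))
  have hN0dvd : ∀ g ∈ N0, Nat.Coprime (orderOf g) 6 := fun g hg => by
    refine Nat.Coprime.coprime_dvd_left (N0.orderOf_dvd_natCard hg) ?_
    exact Nat.Coprime.mul_right (Nat.coprime_two_right.2 (hOodd.of_dvd_nat (card_dvd_of_le hN0O)))
      ((Nat.prime_three.coprime_iff_not_dvd).2 hN03).symm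
  have caseρ : ∀ g ∈ N0, g * ρ = ρ * g → g = 1 := by
    intro g hg hgρ
    obtain ⟨a, rfl⟩ : g ∈ (iota7 θ).range :=
      (iota7_range N).symm ▸ V.cent_rho N hq (mem_cent2.1 (hOK (hN0O hg))).1 hgρ
    have hd := hN0dvd _ hg
    rw [orderOf_injective _ iota7_injective] at hd
    have hat : a * t7 = t7 * a := iota7_injective (θ := θ) (by
      rw [map_mul, map_mul]; exact (mem_cent2.1 (hOK (hN0O hg))).2)
    have h1 : orderOf a = 1 := Nat.Coprime.eq_one_of_dvd (k := orderOf a) (m := 24)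
      (Nat.Coprime.coprime_dvd_right (show 24 ∣ 6 ^ 3 by norm_num) (hd.pow_right 3))
      (orderOf_dvd_of_pow_eq_one (cent_t_facts hat).2.1)
    rw [orderOf_eq_one_iff.1 h1, map_one]
  obtain ⟨hx9, t5, t6, t7', t8⟩ := pi9_facts
  obtain ⟨h, hh, hhc⟩ := exists_h N hq pi9
  rw [hx9] at hh
  change h * ρ * h⁻¹ = ρ * x at hh
  have hht : Commute (iota7 θ t7) h := hhc _ t5 t6 t7' t8
  have caseρx : ∀ g ∈ N0, g * (ρ * x) = ρ * x * g → g = 1 := by
    intro g hg hga
    by_contra hg1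
    set Y := N0 ⊓ centralizer ({ρ * x} : Set G) with hY
    let R : Subgroup G := (centralizer ({e79 t7} : Set A9)).map (em θ)
    let ψ2 : ↥(zpowers ρ) × ↥R →* G := MonoidHom.noncommCoprod (zpowers ρ).subtype R.subtype fun a b => by
      obtain ⟨i, hi⟩ := mem_zpowers_iff.1 a.2
      obtain ⟨c, -, hc⟩ := b.2
      show Commute (a : G) (b : G)
      rw [← hi, ← hc]
      exact (em_rho c).symm.zpow_left i
    have hYmap : Y.map (MulAut.conj h⁻¹).toMonoidHom ≤ ψ2.range := by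
      rintro _ ⟨y, ⟨hyN, hyc⟩, rfl⟩
      show h⁻¹ * y * h⁻¹⁻¹ ∈ _
      rw [inv_inv]
      have hρy : h⁻¹ * y * h * ρ = ρ * (h⁻¹ * y * h) := by
        have h1 := comm_conj (x := h⁻¹) (mem_centralizer_singleton_iff.1 hyc)
        rwa [← hh, inv_inv, show h⁻¹ * (h * ρ * h⁻¹) * h = ρ by group] at h1
      have hty : h⁻¹ * y * h * iota7 θ t7 = iota7 θ t7 * (h⁻¹ * y * h) :=
        ((hht.symm.inv_left.mul_left (show Commute y (iota7 θ t7) from (mem_cent2.1 (hOK (hN0O hyN))).2)).mul_left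
          hht.symm).eq
      obtain ⟨a, ha, r, hr, hyr⟩ := cent_rho_split T N hq hρy
      refine ⟨(⟨a, ha⟩, ⟨r, θ ⟨r, hr⟩, ?_, eq_em hr⟩), ?_⟩
      · refine mem_centralizer_singleton_iff.2 (em_injective (θ := θ) ?_)
        rw [map_mul, map_mul, eq_em hr]
        have hat : Commute a (iota7 θ t7) := by
          obtain ⟨i, rfl⟩ := mem_zpowers_iff.1 ha
          exact (show Commute ρ (iota7 θ t7) from (iota7_rho t7).symm).zpow_left i
        rw [show r = a⁻¹ * (h⁻¹ * y * h) by rw [hyr, inv_mul_cancel_left]]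
        exact (hat.inv_left.mul_left hty).eq
      · rw [MonoidHom.noncommCoprod_apply]; exact hyr.symm
    have hY5 : Nat.card ↥Y ∣ 5 := by
      have h1 : Nat.card ↥Y ∣ 3 * 960 := by
        have hYc : Nat.card ↥(Y.map (MulAut.conj h⁻¹).toMonoidHom) = Nat.card ↥Y :=
          card_map_of_injective (MulEquiv.injective _)
        rw [← hYc]
        refine (card_dvd_of_le hYmap).trans ((card_range_dvd ψ2).trans ?_)
        rw [Nat.card_prod, Nat.card_zpowers, hρo]
        exact Nat.mul_dvd_mul_left 3 ((card_map_dvd _ _).trans card_cent_t9)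
      have h6 : Nat.Coprime (Nat.card ↥Y) 6 :=
        Nat.Coprime.coprime_dvd_left (card_dvd_of_le inf_le_left)
          (Nat.Coprime.mul_right (Nat.coprime_two_right.2 (hOodd.of_dvd_nat (card_dvd_of_le hN0O)))
            ((Nat.prime_three.coprime_iff_not_dvd).2 hN03).symm)
      have h576 : Nat.Coprime (Nat.card ↥Y) 576 :=
        (Nat.Coprime.pow_right 6 h6).coprime_dvd_right (by norm_num)
      exact h576.dvd_of_dvd_mul_left (n := 5) (show Nat.card ↥Y ∣ 576 * 5 from h1)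
    have hgY : g ∈ Y := ⟨hg, mem_centralizer_singleton_iff.2 hga⟩
    have hgo : orderOf g = 5 := ((Nat.dvd_prime (by norm_num)).1
      ((Y.orderOf_dvd_natCard hgY).trans hY5)).resolve_left fun h' => hg1 (orderOf_eq_one_iff.1 h')
    have hgen : zpowers g = Y := eq_of_le_of_card_ge (zpowers_le.2 hgY) (by
      rw [Nat.card_zpowers, hgo]; exact Nat.le_of_dvd (by norm_num) hY5)
    have hxY : x * g * x⁻¹ ∈ Y := by
      refine ⟨hinvK x (fun w hw => mul_mem (mul_mem hxK hw) (inv_mem hxK)) g hg,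
        mem_centralizer_singleton_iff.2 ?_⟩
      have hcx : x * (ρ * x) * x⁻¹ = ρ * x := by rw [← mul_assoc, hxρ]; group
      have h1 := comm_conj (x := x) hga
      rwa [hcx] at h1
    rw [← hgen] at hxY
    obtain ⟨m0, hm0⟩ := (Submonoid.mem_powers_iff _ _).1 (mem_powers_iff_mem_zpowers.2 hxY)
    obtain ⟨m, hm⟩ : ∃ m : Fin 5, g ^ m.1 = x * g * x⁻¹ :=
      ⟨⟨m0 % 5, Nat.mod_lt _ (by norm_num)⟩, by
        show g ^ (m0 % 5) = _; rw [← hgo, pow_mod_orderOf]; exact hm0⟩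
    have hit : ∀ n : ℕ, x ^ n * g * (x ^ n)⁻¹ = g ^ (m.1 ^ n) := by
      intro n
      induction n with
      | zero => simp
      | succ n ih =>
        rw [pow_succ', show x * x ^ n * g * (x * x ^ n)⁻¹ = x * (x ^ n * g * (x ^ n)⁻¹) * x⁻¹ by group, ih,
          ← conj_pow, ← hm, ← pow_mul, pow_succ']
    have h3' := hit 3
    rw [hx3, one_mul, inv_one, mul_one] at h3'
    have hm1 : m.1 = 1 := five_fixed m (by
      have h5 := (pow_eq_pow_iff_modEq (x := g) (n := m.1 ^ 3) (m := 1)).1 (by rw [pow_one, ← h3'])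
      rw [hgo] at h5
      exact h5)
    rw [hm1, pow_one, eq_mul_inv_iff_mul_eq] at hm
    refine hg1 (caseρ g hg ?_)
    have h1 : Commute g (ρ * x) := hga
    have h2 : Commute g x := hm
    have := h1.mul_right h2.inv_right
    rwa [mul_inv_cancel_right] at this
  have hN0H : N0 ≤ HH T v := by
    rw [← CfsgLib.Coprime.iSup_centralizer_eq hAab hnc hAN hcop]
    refine iSup_le ?_
    rintro ⟨a, ha, ha1⟩ g ⟨hgN, hga⟩
    have hga' : Commute g a := mem_centralizer_singleton_iff.1 hga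
    obtain ⟨i, hi, j, hj, rfl⟩ := hAgen a ha
    have hgv := (mem_cent2.1 (hOK (hN0O hgN))).1
    rcases Nat.eq_zero_or_pos i with rfl | hi0
    · rw [pow_zero, one_mul] at ha1 hga'
      have hgx : Commute g x := by
        interval_cases j
        · exact absurd (pow_zero x) ha1
        · simpa using hga'
        · have h4 := hga'.pow_right 2
          rwa [← pow_mul, show 2 * 2 = 3 + 1 from rfl, pow_add, hx3, one_mul, pow_one] at h4
      exact h3 x7 orderOf_x7 g hgv hgx.eq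
    · obtain ⟨k, hk, hgk⟩ : ∃ k < 3, Commute g (ρ * x ^ k) := by
        have h2 := hga'.pow_right i
        rw [((show Commute ρ x from hxρ.symm).pow_pow i j).mul_pow, ← pow_mul, ← pow_mul] at h2
        refine ⟨(j * i) % 3, Nat.mod_lt _ (by norm_num), ?_⟩
        have hii : (i * i) % 3 = 1 := by interval_cases i <;> rfl
        rwa [← pow_mod_orderOf, hρo, hii, pow_one, ← pow_mod_orderOf x, hxo] at h2
      suffices hg1 : g = 1 by rw [hg1]; exact one_mem _
      interval_cases k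
      · exact caseρ g hgN (by simpa using hgk.eq)
      · exact caseρx g hgN (by simpa using hgk.eq)
      · set u := iota7 θ u7 with hu
        have huK : u ∈ CT θ v := mem_cent2.2 ⟨iota7_v V N u7, by
          rw [hu, ← map_mul, ← map_mul, x7_facts.2.2.2.1]⟩
        have hug : u * g * u⁻¹ ∈ N0 :=
          hinvK u (fun w hw => mul_mem (mul_mem huK hw) (inv_mem huK)) g hgN
        have hux : u * (ρ * x ^ 2) * u⁻¹ = ρ * x := by
          rw [show u * (ρ * x ^ 2) * u⁻¹ = u * ρ * u⁻¹ * (u * x ^ 2 * u⁻¹) by group,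
            show u * ρ = ρ * u from iota7_rho u7, mul_inv_cancel_right]
          congr 1
          rw [hu, hx, ← map_pow, ← map_inv, ← map_mul, ← map_mul]
          congr 1
          decide +kernel
        have h1 := comm_conj (x := u) hgk.eq
        rw [hux] at h1
        exact conj_eq_one_iff.1 (caseρx _ hug h1)
  intro g hg
  obtain ⟨o, ho, a, -, rfl⟩ := hfac g hg
  obtain ⟨b, hb, c, ⟨d, -, rfl⟩, rfl⟩ := hN0fac o ho
  exact mul_mem (mul_mem (hN0H hb) (by simpa using HH_intro V N 0 d)) (by simpa using HH_intro V N 0 a)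

end Involution

/-- In `C(v)` the centraliser of the involution lies in `⟨v⟩ × A₇`. -/
theorem cent_invol_le (N : Nine T pt θ) (hq : HasOmega z Q) (V : Vee T v)
    (h3 : ∀ a : A7, orderOf a = 3 → ∀ g : G, g * v = v * g →
      g * iota7 θ a = iota7 θ a * g → g ∈ HH T v) :
    ∀ g : G, g * v = v * g → g * iota7 θ t7 = iota7 θ t7 * g → g ∈ HH T v :=
  fun _ hgv hgt => cent_invol_le' V N h3 hq (mem_cent2.2 ⟨hgv, hgt⟩)

end CfsgLib.StructB.CoA9
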