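import Cfsg.Agent.Lib.StructB.CoA9.HBase
import Mathlib.GroupTheory.Transfer
import Mathlib.GroupTheory.Perm.Centralizer
import Mathlib.GroupTheory.Nilpotent

/-!
Finite facts on the centraliser of an involution of `A₇`, and Burnside transfer inside a subgroup.
-/

set_option autoImplicit false
set_option maxRecDepth 20000
set_option synthInstance.maxSize 2000
set_option Elab.async false

namespace CfsgLib.StructB.CoA9

open Subgroup Equiv

local notation "A7" => alternatingGroup (Fin 7)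
local notation "A9" => alternatingGroup (Fin 9)

/-- The involution `(01)(23)`. -/
def t7 : A7 := ⟨swap 0 1 * swap 2 3, Perm.mem_alternatingGroup.2 (by decide +kernel)⟩

/-- The involution `(02)(13)`. -/
def e7 : A7 := ⟨swap 0 2 * swap 1 3, Perm.mem_alternatingGroup.2 (by decide +kernel)⟩

/-- The involution `(01)(45)`. -/
def f7 : A7 := ⟨swap 0 1 * swap 4 5, Perm.mem_alternatingGroup.2 (by decide +kernel)⟩

/-- The three-cycle `(456)`. -/
def x7 : A7 := ⟨swap 4 5 * swap 5 6, Perm.mem_alternatingGroup.2 (by decide +kernel)⟩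

/-- The three-cycle `(012)`. -/
def y7 : A7 := ⟨swap 0 1 * swap 1 2, Perm.mem_alternatingGroup.2 (by decide +kernel)⟩

/-- The element `(01)(56)`, inverting `(456)`. -/
def u7 : A7 := ⟨swap 0 1 * swap 5 6, Perm.mem_alternatingGroup.2 (by decide +kernel)⟩

/-- The four group on four points. -/
def InE (a : A7) : Prop := a = 1 ∨ a = t7 ∨ a = e7 ∨ a = t7 * e7

/-- The other four group. -/
def InF (a : A7) : Prop := a = 1 ∨ a = t7 ∨ a = f7 ∨ a = t7 * f7

/-- The dihedral group of order eight. -/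
def InD (a : A7) : Prop := InE a ∨ InE (a * f7)

/-- The powers of `(456)`. -/
def InX (a : A7) : Prop := a = 1 ∨ a = x7 ∨ a = x7 * x7

instance : DecidablePred InE := fun a => by unfold InE; infer_instance
instance : DecidablePred InF := fun a => by unfold InF; infer_instance
instance : DecidablePred InD := fun a => by unfold InD; infer_instance
instance : DecidablePred InX := fun a => by unfold InX; infer_instance

/-- The elements commuting with `(01)(23)` in the symmetric group. -/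
def el48 (p : (Fin 2 × Fin 2 × Fin 2) × (Fin 3 × Fin 2)) : Perm (Fin 7) :=
  swap 0 1 ^ p.1.1.1 * (swap 2 3 ^ p.1.2.1.1 * ((swap 0 2 * swap 1 3) ^ p.1.2.2.1 *
    ((swap 4 5 * swap 5 6) ^ p.2.1.1 * swap 4 5 ^ p.2.2.1)))

theorem el48_facts : Function.Injective el48 ∧ ∀ p, el48 p * t7.1 = t7.1 * el48 p := by decide +kernel

theorem t7_type : t7.1.cycleType = Multiset.replicate 2 2 := by
  have hd : Perm.Disjoint (swap (0 : Fin 7) 1) (swap 2 3) := fun i => by
    revert i; decide +kernel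
  show (swap (0 : Fin 7) 1 * swap 2 3).cycleType = _
  rw [hd.cycleType_mul, (Perm.isSwap_iff_cycleType.1 ⟨0, 1, by decide, rfl⟩),
    (Perm.isSwap_iff_cycleType.1 ⟨2, 3, by decide, rfl⟩)]
  rfl

/-- The centraliser of `(01)(23)`. -/
theorem exists_el48 (a : A7) (h : a * t7 = t7 * a) : ∃ p, el48 p = a.1 := by
  classical
  set C := centralizer ({t7.1} : Set (Perm (Fin 7))) with hC
  have hcard : Nat.card ↥C = 48 := by
    rw [hC, Perm.nat_card_centralizer, t7_type]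
    rfl
  obtain ⟨p, hp⟩ := ((Nat.bijective_iff_injective_and_card
    (fun p => (⟨el48 p, mem_centralizer_singleton_iff.2 (el48_facts.2 p)⟩ : ↥C))).2
    ⟨fun p q e => el48_facts.1 (congrArg Subtype.val e), by rw [hcard]; simp [Nat.card_eq_fintype_card]⟩).2
    ⟨a.1, mem_centralizer_singleton_iff.2 (congrArg Subtype.val h)⟩
  exact ⟨p, congrArg Subtype.val hp⟩

/-- A property decided on the 48 elements holds on the centraliser of `(01)(23)`. -/
theorem cent_t_decide {φ : A7 → Prop} (h : ∀ p, ∀ hp : Perm.sign (el48 p) = 1, φ ⟨el48 p, Perm.mem_alternatingGroup.2 hp⟩) {a : A7}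
    (ha : a * t7 = t7 * a) : φ a := by
  obtain ⟨p, hp⟩ := exists_el48 a ha
  obtain ⟨a, hm⟩ := a
  subst hp
  exact h p (Perm.mem_alternatingGroup.1 hm)

theorem cent_E : ∀ a : A7, a * t7 = t7 * a → a * e7 = e7 * a → ∃ j, InX j ∧ InE (a * j) := by
  intro a ha he
  have : a * e7 = e7 * a → InE a ∨ InE (a * x7) ∨ InE (a * (x7 * x7)) := cent_t_decide
    (φ := fun a => a * e7 = e7 * a → InE a ∨ InE (a * x7) ∨ InE (a * (x7 * x7))) (by decide +kernel) ha
  rcases this he with h | h | h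
  · exact ⟨1, Or.inl rfl, by rwa [mul_one]⟩
  · exact ⟨x7, Or.inr (Or.inl rfl), h⟩
  · exact ⟨x7 * x7, Or.inr (Or.inr rfl), h⟩

theorem cent_E_three {a : A7} (ha : a * t7 = t7 * a) (he : a * e7 = e7 * a) :
    a * x7 = x7 * a ∧ (a ^ 3 = 1 → InX a) ∧ (a ^ 2 = 1 → InE a) ∧ a ^ 6 = 1 :=
  cent_t_decide (φ := fun a => a * e7 = e7 * a →
    a * x7 = x7 * a ∧ (a ^ 3 = 1 → InX a) ∧ (a ^ 2 = 1 → InE a) ∧ a ^ 6 = 1) (by decide +kernel) ha he

theorem cent_F_three {a : A7} (ha : a * t7 = t7 * a) (hf : a * f7 = f7 * a) (h3 : a ^ 3 = 1) : a = 1 :=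
  cent_t_decide (φ := fun a => a * f7 = f7 * a → a ^ 3 = 1 → a = 1) (by decide +kernel) ha hf h3

theorem cent_t_facts {a : A7} (ha : a * t7 = t7 * a) :
    (InD (a * e7 * a⁻¹) → InD (a * f7 * a⁻¹) → InD a) ∧ a ^ 24 = 1 ∧ (a ^ 3 = 1 → InX a) :=
  cent_t_decide (φ := fun a => (InD (a * e7 * a⁻¹) → InD (a * f7 * a⁻¹) → InD a) ∧ a ^ 24 = 1 ∧
    (a ^ 3 = 1 → InX a)) (by decide +kernel) ha

/-- The elements of `D` are the eight products. -/
def d8el (p : Fin 2 × Fin 2 × Fin 2) : A7 := t7 ^ p.1.1 * (e7 ^ p.2.1.1 * f7 ^ p.2.2.1)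

theorem d8_facts : (∀ p, InD (d8el p)) ∧ (∀ p q, ∃ r, d8el r = d8el p * d8el q) ∧
    (∀ p, ∃ r, d8el r = (d8el p)⁻¹) ∧ (∀ p, d8el p * t7 = t7 * d8el p) ∧
    (∀ p q, d8el p * d8el q * (d8el p)⁻¹ * (d8el q)⁻¹ = 1 ∨
      d8el p * d8el q * (d8el p)⁻¹ * (d8el q)⁻¹ = t7) := by decide +kernel

theorem inD_iff {a : A7} : InD a ↔ ∃ p, d8el p = a := by
  constructor
  · have h : ∀ b, InE b → (∃ p, d8el p = b) ∧ ∃ p, d8el p = b * f7 := by
      rintro b (rfl | rfl | rfl | rfl) <;> decide +kernel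
    rintro (ha | ha)
    · exact (h a ha).1
    · obtain ⟨p, hp⟩ := (h _ ha).2
      exact ⟨p, by rw [hp, mul_assoc, show f7 * f7 = 1 by decide +kernel, mul_one]⟩
  · rintro ⟨p, rfl⟩
    exact d8_facts.1 p

/-- The dihedral subgroup. -/
def D8 : Subgroup A7 where
  carrier := {a | InD a}
  one_mem' := Or.inl (Or.inl rfl)
  mul_mem' := fun {a b} (ha : InD a) (hb : InD b) => by
    obtain ⟨p, rfl⟩ := inD_iff.1 ha
    obtain ⟨q, rfl⟩ := inD_iff.1 hb
    exact inD_iff.2 (d8_facts.2.1 p q)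
  inv_mem' := fun {a} (ha : InD a) => by
    obtain ⟨p, rfl⟩ := inD_iff.1 ha
    exact inD_iff.2 (d8_facts.2.2.1 p)

theorem mem_D8 {a : A7} : a ∈ D8 ↔ InD a := Iff.rfl

theorem D8_central {a : A7} (ha : InD a) (he : a * e7 = e7 * a) (hf : a * f7 = f7 * a) (h1 : a ≠ 1) :
    a = t7 := by
  obtain ⟨p, rfl⟩ := inD_iff.1 ha
  revert p
  decide +kernel

theorem D8_invol {a : A7} (ha : InD a) (h2 : a * a = 1) : InE a ∨ InF a := by
  obtain ⟨p, rfl⟩ := inD_iff.1 ha
  revert p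
  decide +kernel

theorem t9_facts : e79 t7 = ⟨swap 0 1 * swap 2 3, Perm.mem_alternatingGroup.2 (by decide +kernel)⟩ ∧
    e79 x7 = ⟨swap 4 5 * swap 5 6, Perm.mem_alternatingGroup.2 (by decide +kernel)⟩ := by
  decide +kernel

/-- The five-cycle carrying `(567)` to `(456)`. -/
def pi9 : A9 := ⟨swap 4 8 * swap 8 7 * swap 7 6 * swap 6 5, Perm.mem_alternatingGroup.2 (by decide +kernel)⟩

theorem pi9_facts : pi9 * sx9 * pi9⁻¹ = e79 x7 ∧ (pi9⁻¹ * e79 t7 * pi9).1 5 = 5 ∧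
    (pi9⁻¹ * e79 t7 * pi9).1 6 = 6 ∧ (pi9⁻¹ * e79 t7 * pi9).1 7 = 7 ∧
    (pi9⁻¹ * e79 t7 * pi9).1 8 = 8 := by
  rw [t9_facts.1, t9_facts.2]
  decide +kernel

theorem card_cent_t9 : Nat.card ↥(centralizer ({e79 t7} : Set A9)) ∣ 960 := by
  classical
  have hS : Nat.card ↥(centralizer ({(e79 t7).1} : Set (Perm (Fin 9)))) = 960 := by
    rw [Perm.nat_card_centralizer, show (e79 t7).1.cycleType = t7.1.cycleType from
      Perm.cycleType_extendDomain _, t7_type]
    rfl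
  let f : ↥(centralizer ({e79 t7} : Set A9)) →* ↥(centralizer ({(e79 t7).1} : Set (Perm (Fin 9)))) :=
    { toFun := fun a => ⟨a.1.1, mem_centralizer_singleton_iff.2
        (congrArg Subtype.val (mem_centralizer_singleton_iff.1 a.2))⟩
      map_one' := rfl
      map_mul' := fun _ _ => rfl }
  exact hS ▸ card_dvd_of_injective f fun a b h => Subtype.ext (Subtype.ext (congrArg Subtype.val h :))

/-! ### Burnside transfer inside a subgroup -/

universe u

variable {X : Type u} [Group X] [Finite X]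

theorem mem_normalizer_of_maps {P : Subgroup X} {g : X} (h : ∀ a ∈ P, g * a * g⁻¹ ∈ P) :
    g ∈ normalizer (P : Set X) := by
  have e : P.map (MulAut.conj g).toMonoidHom = P := by
    refine eq_of_le_of_card_ge ?_ (le_of_eq (card_map_of_injective (MulEquiv.injective _)).symm)
    rintro _ ⟨a, ha, rfl⟩
    exact h a ha
  refine mem_normalizer_iff.2 fun a => ⟨fun ha => h a ha, fun ha => ?_⟩
  replace ha : g * a * g⁻¹ ∈ P := ha
  rw [← e] at ha
  obtain ⟨b, hb, hb'⟩ := ha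
  change g * b * g⁻¹ = g * a * g⁻¹ at hb'
  rwa [mul_left_cancel (mul_right_cancel hb')] at hb

/-- Burnside transfer inside `H`, with the complement described by element orders. -/
theorem exists_compl {p : ℕ} [Fact p.Prime] (H P : Subgroup X) (hPH : P ≤ H) (hP : IsPGroup p ↥P)
    (hmax : ∀ g ∈ H, (∀ a ∈ P, g * a * g⁻¹ ∈ P) → (∃ n, g ^ p ^ n = 1) → g ∈ P)
    (hc : ∀ g ∈ H, (∀ a ∈ P, g * a * g⁻¹ ∈ P) → ∀ a ∈ P, g * a = a * g) :
    ∃ N : Subgroup X, N ≤ H ∧ ¬ p ∣ Nat.card ↥N ∧ (∀ g ∈ H, ∃ b ∈ N, ∃ a ∈ P, g = b * a) ∧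
      (∀ g ∈ H, ¬ p ∣ orderOf g → g ∈ N) ∧
      (∀ x : X, (∀ g ∈ H, x * g * x⁻¹ ∈ H) → ∀ g ∈ N, x * g * x⁻¹ ∈ N) := by
  classical
  have hP' : IsPGroup p ↥(P.subgroupOf H) := hP.of_equiv (subgroupOfEquivOfLe hPH).symm
  obtain ⟨S, hS⟩ := hP'.exists_le_sylow
  have hmem : ∀ s : ↥H, s ∈ normalizer ((P.subgroupOf H : Subgroup ↥H) : Set ↥H) →
      ∀ a ∈ P, (s : X) * a * (s : X)⁻¹ ∈ P := fun s hs a ha =>
    mem_subgroupOf.1 ((mem_normalizer_iff.1 hs ⟨a, hPH ha⟩).1 (mem_subgroupOf.2 ha))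
  have hSP : (S : Subgroup ↥H) = P.subgroupOf H := by
    refine le_antisymm ?_ hS
    by_contra hne
    haveI : Finite ↥(S : Subgroup ↥H) := inferInstance
    haveI := S.isPGroup'.isNilpotent
    have hnc : NormalizerCondition ↥(S : Subgroup ↥H) := Group.normalizerCondition_of_isNilpotent
    have hlt : (P.subgroupOf H).subgroupOf (S : Subgroup ↥H) < ⊤ := lt_top_iff_ne_top.2 fun h =>
      hne fun s hs => mem_subgroupOf.1 (show (⟨s, hs⟩ : ↥(S : Subgroup ↥H)) ∈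
        (P.subgroupOf H).subgroupOf (S : Subgroup ↥H) by rw [h]; exact mem_top _)
    obtain ⟨g, hg, hgn⟩ := SetLike.exists_of_lt (hnc _ hlt)
    refine hgn (mem_subgroupOf.2 (mem_subgroupOf.2 (hmax _ (g : ↥H).2 (fun a ha => ?_) ?_)))
    · exact mem_subgroupOf.1 (mem_subgroupOf.1 ((mem_normalizer_iff.1 hg
        ⟨⟨a, hPH ha⟩, hS (mem_subgroupOf.2 ha)⟩).1 (mem_subgroupOf.2 (mem_subgroupOf.2 ha))))
    · obtain ⟨n, hn⟩ := S.isPGroup' g
      exact ⟨n, congrArg (fun x : ↥(S : Subgroup ↥H) => ((x : ↥H) : X)) hn⟩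
  have hSc : normalizer ((S : Subgroup ↥H) : Set ↥H) ≤ centralizer ((S : Subgroup ↥H) : Set ↥H) := by
    rw [hSP]
    exact fun s hs => mem_centralizer_iff.2 fun a ha =>
      Subtype.ext (hc _ s.2 (hmem s hs) _ (mem_subgroupOf.1 ha)).symm
  have hcompl := MonoidHom.ker_transferSylow_isComplement' S hSc
  set O := (MonoidHom.transferSylow S hSc).ker with hO
  have hOp : ¬ p ∣ Nat.card ↥O := by
    rw [← hcompl.index_eq_card]
    exact S.not_dvd_index
  have hin : ∀ g ∈ H, ¬ p ∣ orderOf g → g ∈ O.map H.subtype := by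
    intro g hg hgp
    refine ⟨⟨g, hg⟩, ?_, rfl⟩
    rw [SetLike.mem_coe, hO, MonoidHom.mem_ker, ← orderOf_eq_one_iff]
    have h1 : orderOf (MonoidHom.transferSylow S hSc ⟨g, hg⟩) ∣ orderOf g := by
      rw [← orderOf_mk (H := H) g hg]; exact orderOf_map_dvd _ _
    obtain ⟨n, hn⟩ := S.isPGroup' (MonoidHom.transferSylow S hSc ⟨g, hg⟩)
    obtain ⟨k, -, hk⟩ := (Nat.dvd_prime_pow (Fact.out : p.Prime)).1 (orderOf_dvd_of_pow_eq_one hn)
    rw [hk] at h1 ⊢
    cases k with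
    | zero => rfl
    | succ k => exact absurd ((dvd_pow_self p k.succ_ne_zero).trans h1) hgp
  refine ⟨O.map H.subtype, map_subtype_le O, ?_, fun g hg => ?_, hin, fun x hx g hg => ?_⟩
  · rwa [card_map_of_injective (Subgroup.subtype_injective H)]
  · obtain ⟨⟨⟨b, hb⟩, ⟨a, ha⟩⟩, hab, -⟩ := hcompl.existsUnique ⟨g, hg⟩
    rw [hSP] at ha
    exact ⟨b, ⟨b, hb, rfl⟩, a, mem_subgroupOf.1 ha, (congrArg Subtype.val hab).symm⟩
  · obtain ⟨g, hgO, rfl⟩ := hg
    refine hin _ (hx _ g.2) ?_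
    show ¬ p ∣ orderOf (MulAut.conj x (g : X))
    rw [MulEquiv.orderOf_eq, orderOf_coe]
    exact fun h => hOp (h.trans (O.orderOf_dvd_natCard hgO))

end CfsgLib.StructB.CoA9
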