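import Cfsg.Agent.Lib.StructB.CoA9.VThree
import Cfsg.Agent.Lib.StructB.CoA9.VFixFree

/-!
The centralisers of the elements of order three in `C(v)`: the conjugation `ρ ↦ ρ (345)` and the
conclusion.
-/

set_option autoImplicit false
set_option maxRecDepth 20000
set_option synthInstance.maxSize 2000
set_option Elab.async false

namespace CfsgLib.StructB.CoA9

open Subgroup CfsgLib.Trans3.ExtraTwo CfsgLib.ClassK.Conway Equiv

local notation "A9" => alternatingGroup (Fin 9)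

theorem piXY_facts : (∀ k, (piXY⁻¹ * cf k * piXY).1 5 = 5 ∧ (piXY⁻¹ * cf k * piXY).1 6 = 6 ∧
    (piXY⁻¹ * cf k * piXY).1 7 = 7 ∧ (piXY⁻¹ * cf k * piXY).1 8 = 8) ∧
    (piXY⁻¹ * x9 * piXY).1 5 = 5 ∧ (piXY⁻¹ * x9 * piXY).1 6 = 6 ∧ (piXY⁻¹ * x9 * piXY).1 7 = 7 ∧
    (piXY⁻¹ * x9 * piXY).1 8 = 8 := ⟨cf_fix, by decide +kernel⟩

theorem exp_pick : ∀ m : Fin 7, m.1 ≠ 0 →
    ∃ i : Fin 3, 2 ^ i.1 % 7 = m.1 ∨ 6 * 2 ^ i.1 % 7 = m.1 := by decide +kernel

universe u

variable {G : Type u} [Group G] [Finite G] {z : G} {Q : Subgroup G} {e : ↥Q ≃* ES 4 (ff 4)} {ρ : G}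
variable {T : Tri z Q e ρ} {v : G} {pt : Fin 9 → G} {θ : ↥(RR e ρ) ≃* A9}

/-- An element carrying `ρ` to `ρ (345)` with the normalised data. -/
structure Mover (θ : ↥(RR e ρ) ≃* A9) (h : G) (i : ℕ) (p : A9) : Prop where
  move : h * ρ * h⁻¹ = ρ * em θ y9
  commX : Commute (em θ x9) h
  commD : Commute (em θ dd) h
  back : h⁻¹ * em θ y9 * h = ρ ^ i * em θ p
  pcases : p = y9 ∨ p = y9⁻¹

theorem exists_mover (N : Nine T pt θ) (hq : HasOmega z Q) :
    ∃ h i p, Mover (θ := θ) h i p := by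
  classical
  obtain ⟨h0, hmove, hcomm⟩ := exists_h N hq piXY
  obtain ⟨hπ, x5, x6, x7, x8, d5, d6, d7, d8⟩ := piXY_spec
  rw [hπ] at hmove
  set Y := em θ y9
  have hX : Commute (em θ x9) h0 := hcomm _ x5 x6 x7 x8
  have hD : Commute (em θ dd) h0 := hcomm _ d5 d6 d7 d8
  have hcf : ∀ k, Commute (em θ (cf k)) h0 := fun k =>
    hcomm _ (cf_fix k).1 (cf_fix k).2.1 (cf_fix k).2.2.1 (cf_fix k).2.2.2
  set k0 := h0⁻¹ * Y * h0 with hk0
  have hρY : Commute ρ Y := (em_rho y9).symm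
  have hk0ρ : k0 * ρ = ρ * k0 := by
    have e : ρ = h0⁻¹ * (ρ * Y) * h0 := by rw [← hmove]; group
    calc k0 * ρ = h0⁻¹ * (Y * (ρ * Y)) * h0 := by rw [hk0]; nth_rw 1 [e]; group
      _ = h0⁻¹ * ((ρ * Y) * Y) * h0 := by
          rw [(((hρY.symm).mul_right (Commute.refl Y)) : Commute Y (ρ * Y)).eq]
      _ = ρ * k0 := by rw [hk0]; nth_rw 2 [e]; group
  obtain ⟨a, ha, r, hr, hkr⟩ := cent_rho_split T N hq hk0ρ
  rw [mem_zpowers_iff_mem_range_orderOf, orderOf_rho T] at ha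
  obtain ⟨i, -, rfl⟩ := Finset.mem_image.1 ha
  set p0 := θ ⟨r, hr⟩ with hp0
  have hep : em θ p0 = r := eq_em hr
  have hρr : Commute (ρ ^ i) r := ((show Commute r ρ from (mem_RR.1 hr).2).symm).pow_left i
  have hρ3 : ρ ^ 3 = 1 := by rw [pow_succ, pow_two, T.rho3]
  have hY3 : Y ^ 3 = 1 := em_pow_eq_one.2 x9_cube.2.1
  have hp3 : p0 ^ 3 = 1 := by
    rw [← em_pow_eq_one (θ := θ), hep]
    have h3 : k0 ^ 3 = 1 := by
      have : k0 = h0⁻¹ * Y * (h0⁻¹)⁻¹ := by rw [hk0, inv_inv]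
      rw [this, conj_pow, hY3]; group
    rwa [hkr, hρr.mul_pow, ← pow_mul, mul_comm i, pow_mul, hρ3, one_pow, one_mul] at h3
  have hp1 : p0 ≠ 1 := by
    intro h
    have hr1 : r = 1 := by rw [← hep, h, map_one]
    rw [hr1, mul_one] at hkr
    have e1 : Y = (ρ * Y) ^ i := by
      rw [← hmove, conj_pow, ← hkr, hk0]; group
    rw [hρY.mul_pow] at e1
    have hR : ρ ^ i ∈ RR e ρ := by
      have hYR : Y ∈ RR e ρ := em_mem y9
      have := mul_mem hYR (inv_mem (pow_mem hYR i))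
      nth_rw 1 [e1] at this
      rwa [mul_inv_cancel_right] at this
    rw [rho_pow_R T hR] at hkr
    refine p9_rels.2.2.2.2.2.2.2.2.2.2 (em_injective (θ := θ) ?_)
    rw [map_one]
    show Y = 1
    calc Y = h0 * k0 * h0⁻¹ := by rw [hk0]; group
      _ = 1 := by rw [hkr]; group
  have hpf := cent_A5 (p := p0) fun k => by
    refine em_injective (θ := θ) ?_
    rw [map_mul, map_mul, hep]
    have h1 : Commute k0 (em θ (cf k)) := by
      have hcY : Commute Y (em θ (cf k)) := em_comm (cf_commY k).symm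
      exact (((hcf k).symm.inv_left.mul_left hcY).mul_left (hcf k).symm)
    have h2 : Commute (ρ ^ i) (em θ (cf k)) := ((em_rho (cf k)).symm).pow_left i
    have h3 := h2.inv_left.mul_left (hkr ▸ h1)
    rwa [inv_mul_cancel_left] at h3
  obtain ⟨k, hk⟩ := three_on_four hp3 hp1 hpf
  set ω := w4 k with hω
  refine ⟨h0 * (em θ ω)⁻¹, i, ω * p0 * ω⁻¹, ?_, ?_, ?_, ?_, hk ω rfl⟩
  · have hc : Commute (em θ ω) ρ := em_rho ω
    calc h0 * (em θ ω)⁻¹ * ρ * (h0 * (em θ ω)⁻¹)⁻¹ = h0 * ((em θ ω)⁻¹ * (ρ * em θ ω)) * h0⁻¹ := by group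
      _ = ρ * Y := by rw [← hc.eq, inv_mul_cancel_left, hmove]
  · exact hX.mul_right (em_comm (w4_commX k).1.symm).inv_right
  · exact hD.mul_right (em_comm (w4_commX k).2.symm).inv_right
  · calc (h0 * (em θ ω)⁻¹)⁻¹ * Y * (h0 * (em θ ω)⁻¹) = em θ ω * k0 * (em θ ω)⁻¹ := by rw [hk0]; group
      _ = (em θ ω * ρ ^ i) * r * (em θ ω)⁻¹ := by rw [hkr]; group
      _ = ρ ^ i * em θ (ω * p0 * ω⁻¹) := by
          rw [((em_rho ω).pow_right i).eq, map_mul, map_mul, map_inv, hep]; group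

namespace Vee

variable (V : Vee T v) (N : Nine T pt θ) (hq : HasOmega z Q) (hP : PNineFact θ v)
include V N hq hP

/-- The transport of the centraliser of `ρ (345)` to `R`. -/
theorem exists_freeSub {c c' : A9} (hcase : c = x9 ∨ c = x9 * y9) {h : G} {i j : ℕ} {p : A9}
    (M : Mover (θ := θ) h i p) (hc' : h⁻¹ * em θ c * h = ρ ^ j * em θ c') {S : Subgroup G}
    (hS : ∀ g, g ∈ S ↔ g * v = v * g ∧ g * em θ c = em θ c * g ∧
      g * (ρ * em θ y9) = ρ * em θ y9 * g ∧ (orderOf g).Coprime 3) :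
    ∃ S9 : Subgroup A9, FreeSub S9 ∧ (∀ s ∈ S9, h * em θ s * h⁻¹ ∈ S) ∧
      (∀ g ∈ S, ∃ s ∈ S9, g = h * em θ s * h⁻¹) ∧ (∀ s ∈ S9, s * c' = c' * s) := by
  classical
  obtain ⟨x7, x8, y7, y8, -, -⟩ := p9_facts
  set X := em θ x9
  set Y := em θ y9
  have hρY : Commute ρ Y := (em_rho y9).symm
  let S9 : Subgroup A9 := (S.comap (MulAut.conj h).toMonoidHom).comap (em θ)
  have hmem : ∀ s, s ∈ S9 ↔ h * em θ s * h⁻¹ ∈ S := fun s => Iff.rfl
  have hcop : ∀ s ∈ S9, (orderOf s).Coprime 3 := by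
    intro s hs
    have := ((hS _).1 ((hmem s).1 hs)).2.2.2
    rwa [orderOf_conj', orderOf_injective _ em_injective] at this
  have hcc : Commute Y (em θ c) := by
    rcases hcase with rfl | rfl
    · exact em_comm p9_rels.1.symm
    · exact em_comm (by rw [← mul_assoc, ← p9_rels.1, mul_assoc])
  have hYS : ∀ g ∈ S, Y * g * Y⁻¹ ∈ S := by
    intro g hg
    obtain ⟨h1, h2, h3, h4⟩ := (hS g).1 hg
    refine (hS _).2 ⟨?_, ?_, ?_, by rw [orderOf_conj']; exact h4⟩
    · have hYv : Commute Y v := V.em_v N y7 y8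
      exact ((hYv.mul_left (show Commute g v from h1)).mul_left hYv.inv_left).eq
    · exact ((hcc.mul_left (show Commute g (em θ c) from h2)).mul_left hcc.inv_left).eq
    · have ha : Commute Y (ρ * Y) := hρY.symm.mul_right (Commute.refl Y)
      exact ((ha.mul_left (show Commute g (ρ * Y) from h3)).mul_left ha.inv_left).eq
  have hρs : ∀ s : A9, Commute (ρ ^ i) (em θ s) := fun s => ((em_rho s).symm).pow_left i
  have hpconj : ∀ s ∈ S9, p * s * p⁻¹ ∈ S9 := by
    intro s hs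
    rw [hmem] at hs ⊢
    have h1 := hYS _ hs
    have e : h * em θ (p * s * p⁻¹) * h⁻¹ = Y * (h * em θ s * h⁻¹) * Y⁻¹ := by
      have eY : Y = h * (ρ ^ i * em θ p) * h⁻¹ := by
        rw [← M.back]; show em θ y9 = _; group
      rw [eY, map_mul, map_mul, map_inv]
      calc h * (em θ p * em θ s * (em θ p)⁻¹) * h⁻¹
          = h * (ρ ^ i * (em θ p * em θ s * (em θ p)⁻¹) * (ρ ^ i)⁻¹) * h⁻¹ := by
            rw [((((hρs p).mul_right (hρs s)).mul_right (hρs p).inv_right)).eq, mul_inv_cancel_right]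
        _ = _ := by group
    rwa [e]
  have hy : ∀ s ∈ S9, y9 * s * y9⁻¹ ∈ S9 := by
    intro s hs
    rcases M.pcases with hp | hp
    · exact hp ▸ hpconj s hs
    · have h2 := hpconj _ (hpconj s hs)
      rw [hp] at h2
      convert h2 using 1
      have e : y9⁻¹ * y9⁻¹ = y9 := by
        rw [← mul_inv_rev, inv_eq_iff_mul_eq_one, ← pow_two, ← pow_succ, x9_cube.2.1]
      calc y9 * s * y9⁻¹ = (y9⁻¹ * y9⁻¹) * s * (y9⁻¹ * y9⁻¹)⁻¹ := by rw [e]
        _ = _ := by simp [mul_assoc]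
  refine ⟨S9, ⟨hcop, hy, fun s hs hfix => ?_⟩, fun s hs => (hmem s).1 hs, fun g hg => ?_,
    fun s hs => ?_⟩
  · -- fixed points
    obtain ⟨h1, h2, h3, h4⟩ := (hS _).1 ((hmem s).1 hs)
    set g := h * em θ s * h⁻¹ with hg
    have hps : Commute (em θ p) (em θ s) := by
      have hys : Commute y9 s := mul_inv_eq_iff_eq_mul.1 hfix
      rcases M.pcases with hp | hp <;> rw [hp]
      · exact em_comm hys.eq
      · exact em_comm hys.inv_left.eq
    have hgY : g * Y = Y * g := by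
      have eY : Y = h * (ρ ^ i * em θ p) * h⁻¹ := by
        rw [← M.back]; show em θ y9 = _; group
      have hc : Commute (ρ ^ i * em θ p) (em θ s) := (hρs s).mul_left hps
      calc g * Y = h * (em θ s * (ρ ^ i * em θ p)) * h⁻¹ := by rw [hg, eY]; group
        _ = h * ((ρ ^ i * em θ p) * em θ s) * h⁻¹ := by rw [hc.eq]
        _ = Y * g := by rw [hg, eY]; group
    have hgX : g * X = X * g := by
      rcases hcase with rfl | rfl
      · exact h2
      · have eX : X = em θ (x9 * y9) * Y⁻¹ := by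
          show em θ x9 = em θ (x9 * y9) * (em θ y9)⁻¹
          rw [map_mul, mul_inv_cancel_right]
        rw [eX]
        exact ((show Commute g (em θ (x9 * y9)) from h2).mul_right
          (show Commute g Y from hgY).inv_right).eq
    obtain ⟨a, b, d, he⟩ := hP g h1 hgX hgY
    have hva : v ^ a = 1 := by
      have hq' : Commute (ρ * Y) (X ^ b * Y ^ d) := by
        have hρX : Commute ρ X := (em_rho x9).symm
        have hYX : Commute Y X := em_comm p9_rels.1.symm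
        exact ((hρX.mul_left hYX).pow_right b).mul_right ((hρY.mul_left (Commute.refl Y)).pow_right d)
      have hv' : Commute (v ^ a) (ρ * Y) := by
        have hh := (show Commute g (ρ * Y) from h3)
        rw [he, mul_assoc] at hh
        have := hh.mul_left hq'.symm.inv_left
        rwa [mul_inv_cancel_right] at this
      have hv2 : ρ * Y * v ^ a * (ρ * Y)⁻¹ = v ^ (2 * a) := by
        have hYv : Commute Y (v ^ a) := (V.em_v N y7 y8).pow_right a
        calc ρ * Y * v ^ a * (ρ * Y)⁻¹ = ρ * (Y * v ^ a * Y⁻¹) * ρ⁻¹ := by group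
          _ = v ^ (2 * a) := by
              rw [hYv.eq, mul_inv_cancel_right, ← conj_pow, V.conj, ← pow_mul]
      rw [← hv'.eq, mul_inv_cancel_right, V.pow_eq_iff] at hv2
      rw [← pow_zero v, V.pow_eq_iff]; omega
    rw [hva, one_mul] at he
    have hg3 : g ^ 3 = 1 := by
      have hXY : Commute (X ^ b) (Y ^ d) := (em_comm p9_rels.1).pow_pow b d
      rw [he, hXY.mul_pow, ← pow_mul, ← pow_mul, mul_comm b, mul_comm d, pow_mul, pow_mul,
        em_pow_eq_one.2 x9_cube.1, em_pow_eq_one.2 x9_cube.2.1, one_pow, one_pow, one_mul]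
    have hg1 : g = 1 := eq_one_of_coprime_three h4 hg3
    refine em_injective (θ := θ) ?_
    rw [map_one]
    exact conj_eq_one_iff.1 hg1
  · -- every element comes from `R`
    obtain ⟨-, -, h3, h4⟩ := (hS g).1 hg
    set k := h⁻¹ * g * h with hk
    have hkρ : k * ρ = ρ * k := by
      have e : ρ = h⁻¹ * (ρ * Y) * h := by rw [← M.move]; group
      calc k * ρ = h⁻¹ * (g * (ρ * Y)) * h := by rw [hk]; nth_rw 1 [e]; group
        _ = h⁻¹ * ((ρ * Y) * g) * h := by rw [h3]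
        _ = ρ * k := by rw [hk]; nth_rw 2 [e]; group
    obtain ⟨a, ha, r, hr, hkr⟩ := cent_rho_split T N hq hkρ
    rw [mem_zpowers_iff_mem_range_orderOf, orderOf_rho T] at ha
    obtain ⟨m, -, rfl⟩ := Finset.mem_image.1 ha
    have hρr : Commute (ρ ^ m) r := ((show Commute r ρ from (mem_RR.1 hr).2).symm).pow_left m
    have hn : k ^ orderOf g = 1 := by
      have e : k = h⁻¹ * g * (h⁻¹)⁻¹ := by rw [hk, inv_inv]
      rw [e, conj_pow, pow_orderOf_eq_one]; group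
    rw [hkr, hρr.mul_pow, ← pow_mul] at hn
    have hR : ρ ^ (m * orderOf g) ∈ RR e ρ := by
      rw [eq_inv_of_mul_eq_one_left hn]; exact inv_mem (pow_mem hr _)
    have hd := orderOf_dvd_of_pow_eq_one (rho_pow_R T hR)
    rw [orderOf_rho T] at hd
    have hm : ρ ^ m = 1 := orderOf_dvd_iff_pow_eq_one.1 (by
      rw [orderOf_rho T]; exact Nat.Coprime.dvd_of_dvd_mul_right h4.symm hd)
    rw [hm, one_mul] at hkr
    have e : g = h * em θ (θ ⟨r, hr⟩) * h⁻¹ := by rw [eq_em, ← hkr, hk]; group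
    exact ⟨θ ⟨r, hr⟩, (hmem _).2 (e ▸ hg), e⟩
  · obtain ⟨-, h2, -, -⟩ := (hS _).1 ((hmem s).1 hs)
    refine em_injective (θ := θ) ?_
    rw [map_mul, map_mul]
    have hc : Commute (em θ s) (ρ ^ j * em θ c') := by
      rw [← hc']
      have h2' : Commute (h * em θ s * h⁻¹) (em θ c) := h2
      calc em θ s * (h⁻¹ * em θ c * h) = h⁻¹ * (h * em θ s * h⁻¹ * em θ c) * h := by group
        _ = h⁻¹ * (em θ c * (h * em θ s * h⁻¹)) * h := by rw [h2'.eq]
        _ = h⁻¹ * em θ c * h * em θ s := by group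
    have := ((((em_rho s).pow_right j).inv_right).mul_right hc).eq
    simpa [← mul_assoc] using this

/-- `C(v) ∩ C((012)(345))`. -/
theorem good_q : Good T v (em θ (x9 * y9)) := by
  obtain ⟨h, i, p, M⟩ := exists_mover N hq
  refine V.good_of_line N hq hP (Or.inr rfl) fun S hS g hg => ?_
  have hc' : h⁻¹ * em θ (x9 * y9) * h = ρ ^ i * em θ (x9 * p) := by
    rw [map_mul, map_mul]
    calc h⁻¹ * (em θ x9 * em θ y9) * h = (h⁻¹ * em θ x9 * h) * (h⁻¹ * em θ y9 * h) := by group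
      _ = em θ x9 * (ρ ^ i * em θ p) := by
          rw [M.back, mul_assoc h⁻¹, M.commX.eq, inv_mul_cancel_left]
      _ = ρ ^ i * (em θ x9 * em θ p) := by rw [← mul_assoc, ((em_rho x9).pow_right i).eq, mul_assoc]
  obtain ⟨S9, F, -, hfrom, hcm⟩ := V.exists_freeSub N hq hP (Or.inr rfl) M hc' hS
  obtain ⟨s, hs, rfl⟩ := hfrom g hg
  rw [F.bot_q M.pcases hcm s hs, map_one, mul_one, mul_inv_cancel]
  exact one_mem _

/-- `C(v) ∩ C((012))`. -/
theorem good_x : Good T v (em θ x9) := by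
  classical
  obtain ⟨h, i, p, M⟩ := exists_mover N hq
  obtain ⟨x7, x8, y7, y8, -, -, -, -, hu78, hw78⟩ := p9_facts
  obtain ⟨hxy, -, -, -, -, -, -, hdx, hdy, hx1, hy1⟩ := p9_rels
  refine V.good_of_line N hq hP (Or.inl rfl) fun S hS g hg => ?_
  set X := em θ x9 with hXd
  set Y := em θ y9 with hYd
  set D := em θ dd with hDd
  have hρY : Commute ρ Y := (em_rho y9).symm
  have hDD : D * D = 1 := by rw [hDd, ← map_mul, dd_facts.1, map_one]
  have hDi : D⁻¹ = D := inv_eq_of_mul_eq_one_right hDD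
  have hDv : D * v * D⁻¹ = v⁻¹ := V.dd_inv N hq
  have hc' : h⁻¹ * em θ x9 * h = ρ ^ 0 * em θ x9 := by
    rw [pow_zero, one_mul, mul_assoc, M.commX.eq, inv_mul_cancel_left]
  obtain ⟨S9, F, hinto, hfrom, hcm⟩ := V.exists_freeSub N hq hP (Or.inl rfl) M hc' hS
  have hDx : D * X * D⁻¹ = X⁻¹ := by
    rw [hDi, hDd, hXd, ← map_mul, ← map_mul, hdx, ← map_inv]
    congr 1
    refine eq_inv_of_mul_eq_one_left ?_
    rw [← pow_two, ← pow_succ, x9_cube.1]
  have hdd : ∀ s ∈ S9, dd * s * dd ∈ S9 := by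
    intro s hs
    obtain ⟨h1, h2, h3, h4⟩ := (hS _).1 (hinto s hs)
    have hDS : D * (h * em θ s * h⁻¹) * D⁻¹ ∈ S := by
      set g1 := h * em θ s * h⁻¹
      refine (hS _).2 ⟨?_, ?_, ?_, by rw [orderOf_conj']; exact h4⟩
      · have e : MulAut.conj D v⁻¹ = v := by
          show D * v⁻¹ * D⁻¹ = v
          rw [show D * v⁻¹ * D⁻¹ = (D * v * D⁻¹)⁻¹ by group, hDv, inv_inv]
        have h1' : Commute (D * g1 * D⁻¹) (MulAut.conj D v⁻¹) :=
          (show Commute g1 v from h1).inv_right.map (MulAut.conj D).toMonoidHom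
        rw [e] at h1'
        exact h1'.eq
      · have e : MulAut.conj D X⁻¹ = X := by
          show D * X⁻¹ * D⁻¹ = X
          rw [show D * X⁻¹ * D⁻¹ = (D * X * D⁻¹)⁻¹ by group, hDx, inv_inv]
        have h1' : Commute (D * g1 * D⁻¹) (MulAut.conj D X⁻¹) :=
          (show Commute g1 X from h2).inv_right.map (MulAut.conj D).toMonoidHom
        rw [e] at h1'
        exact h1'.eq
      · have hc : Commute D (ρ * Y) := (em_rho dd).mul_right (em_comm hdy)
        exact ((hc.mul_left (show Commute g1 (ρ * Y) from h3)).mul_left hc.inv_left).eq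
    obtain ⟨s', hs', he⟩ := hfrom _ hDS
    have e : em θ s' = em θ (dd * s * dd) := by
      rw [map_mul, map_mul, ← hDd]
      have h' : h * em θ s' * h⁻¹ = h * (D * em θ s * D) * h⁻¹ := by
        rw [← he, hDi]
        calc D * (h * em θ s * h⁻¹) * D = (D * h) * em θ s * (h⁻¹ * D) := by group
          _ = (h * D) * em θ s * (D * h⁻¹) := by rw [M.commD.eq, ← M.commD.inv_right.eq]
          _ = _ := by group
      exact mul_left_cancel (mul_right_cancel h')
    exact em_injective e ▸ hs'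
  rcases F.four_x hcm hdd with hbot | hw
  · obtain ⟨s, hs, rfl⟩ := hfrom g hg
    rw [hbot s hs, map_one, mul_one, mul_inv_cancel]
    exact one_mem _
  exfalso
  -- the conjugate of `v`
  set v' := h⁻¹ * v * h with hv'
  have hXv' : Commute (em θ x9) v' :=
    ((M.commX.inv_right).mul_right (V.em_v N x7 x8)).mul_right M.commX
  have hWv' : ∀ k, Commute (em θ (w9 k)) v' := by
    intro k
    obtain ⟨h1, -, -, -⟩ := (hS _).1 (hinto _ (hw k))
    show em θ (w9 k) * (h⁻¹ * v * h) = h⁻¹ * v * h * em θ (w9 k)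
    calc em θ (w9 k) * (h⁻¹ * v * h) = h⁻¹ * (h * em θ (w9 k) * h⁻¹ * v) * h := by group
      _ = h⁻¹ * (v * (h * em θ (w9 k) * h⁻¹)) * h := by rw [h1]
      _ = _ := by group
  have hUv' : ∀ k, Commute (em θ (u9 k)) v' := by
    obtain ⟨hl, hprod, ⟨n, hn⟩, huy, huu, hu1⟩ := u9_rels 0
    set U := em θ (u9 0) with hU
    set u' := h⁻¹ * U * h with hu'
    have hUρY : Commute U (ρ * Y) := (em_rho _).mul_right (em_comm huy)
    have hu'ρ : u' * ρ = ρ * u' := by
      have e : ρ = h⁻¹ * (ρ * Y) * h := by rw [← M.move]; group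
      calc u' * ρ = h⁻¹ * (U * (ρ * Y)) * h := by rw [hu']; nth_rw 1 [e]; group
        _ = h⁻¹ * ((ρ * Y) * U) * h := by rw [hUρY.eq]
        _ = ρ * u' := by rw [hu']; nth_rw 2 [e]; group
    obtain ⟨a, ha, r, hr, hur⟩ := cent_rho_split T N hq hu'ρ
    rw [mem_zpowers_iff_mem_range_orderOf, orderOf_rho T] at ha
    obtain ⟨m, -, rfl⟩ := Finset.mem_image.1 ha
    have hρr : Commute (ρ ^ m) r := ((show Commute r ρ from (mem_RR.1 hr).2).symm).pow_left m
    have hu'2 : u' * u' = 1 := by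
      rw [hu', show h⁻¹ * U * h * (h⁻¹ * U * h) = h⁻¹ * (U * U) * h by group, hU, ← map_mul, huu,
        map_one]
      group
    have hm : ρ ^ m = 1 := by
      have h2 : (ρ ^ m) ^ 2 * r ^ 2 = 1 := by rw [← hρr.mul_pow, pow_two, ← hur]; exact hu'2
      rw [← pow_mul] at h2
      have hR : ρ ^ (m * 2) ∈ RR e ρ := by
        rw [eq_inv_of_mul_eq_one_left h2]; exact inv_mem (pow_mem hr _)
      have hd := orderOf_dvd_of_pow_eq_one (rho_pow_R T hR)
      rw [orderOf_rho T] at hd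
      exact orderOf_dvd_iff_pow_eq_one.1 (by
        rw [orderOf_rho T]; exact Nat.Coprime.dvd_of_dvd_mul_right (by norm_num) hd)
    rw [hm, one_mul] at hur
    set s := θ ⟨r, hr⟩ with hs
    have hsu : em θ s = u' := by rw [hs, eq_em, hur]
    have hss : s * s = 1 := em_injective (θ := θ) (by rw [map_mul, hsu, hu'2, map_one])
    have hs1 : s ≠ 1 := fun h' => hu1 (em_injective (θ := θ) (by
      rw [map_one]
      show U = 1
      calc U = h * u' * h⁻¹ := by rw [hu']; group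
        _ = 1 := by rw [← hsu, h', map_one]; group))
    have hsp : Commute (em θ s) (em θ p) := by
      rw [hsu]
      have hcY : Commute U Y := em_comm huy
      have h1 : Commute u' (ρ ^ i * em θ p) := by
        rw [← M.back, hu']
        show h⁻¹ * U * h * (h⁻¹ * Y * h) = h⁻¹ * Y * h * (h⁻¹ * U * h)
        calc h⁻¹ * U * h * (h⁻¹ * Y * h) = h⁻¹ * (U * Y) * h := by group
          _ = h⁻¹ * (Y * U) * h := by rw [hcY.eq]
          _ = _ := by group
      have h2 : Commute u' (ρ ^ i) := (show Commute u' ρ from hu'ρ).pow_right i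
      have := h2.inv_right.mul_right h1
      rwa [inv_mul_cancel_left] at this
    have hsy : s * y9 = y9 * s := by
      refine em_injective (θ := θ) ?_
      rw [map_mul, map_mul]
      rcases M.pcases with hp | hp <;> rw [hp] at hsp
      · exact hsp.eq
      · rw [map_inv] at hsp
        have := hsp.inv_right
        rw [inv_inv] at this
        exact this.eq
    have h345 : ∀ a : Fin 9, a = 3 ∨ a = 4 ∨ a = 5 → s.1 a = a := fun a ha =>
      fix_of_comm x9_cube.2.1 y9_trans hsy (k := 2) (by norm_num) (by rw [pow_two, hss])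
        ((by decide +kernel : ∀ a : Fin 9, a = 3 ∨ a = 4 ∨ a = 5 → y9.1 a ≠ a) a ha)
    have hXh : X * h = h * X := M.commX.eq
    have hconjX : ∀ g : G, h⁻¹ * (X * g * X⁻¹) * h = X * (h⁻¹ * g * h) * X⁻¹ := fun g => by
      calc h⁻¹ * (X * g * X⁻¹) * h = (h⁻¹ * X) * g * (X⁻¹ * h) := by group
        _ = (X * h⁻¹) * g * (h * X⁻¹) := by rw [← M.commX.inv_right.eq, M.commX.inv_left.eq]
        _ = _ := by group
    obtain ⟨a, b, c, d, ha, hb, hc, hd, hee⟩ := invol_rep (u := ({3, 4, 5} : Finset (Fin 9))) hss hs1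
      (by decide) fun j hj => h345 j (by simpa using hj)
    have hs_prod : s * (x9 * s * x9⁻¹) = x9 * (x9 * s * x9⁻¹) * x9⁻¹ := by
      refine em_injective (θ := θ) ?_
      rw [map_mul, map_mul, map_mul, map_mul, map_mul, map_mul, map_mul, map_inv, hsu, ← hXd, hu',
        ← hconjX, ← hconjX]
      have e : U * (X * U * X⁻¹) = X * (X * U * X⁻¹) * X⁻¹ := by
        rw [hU, hXd, ← map_inv, ← map_mul, ← map_mul, ← map_mul, ← map_mul, ← map_mul, hprod]
      calc h⁻¹ * U * h * (h⁻¹ * (X * U * X⁻¹) * h) = h⁻¹ * (U * (X * U * X⁻¹)) * h := by group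
        _ = _ := by rw [e]
    have hs_dd : dd * s * dd = x9 ^ n.1 * s * (x9⁻¹) ^ n.1 := by
      refine em_injective (θ := θ) ?_
      rw [map_mul, map_mul, map_mul, map_mul, map_pow, map_pow, map_inv, hsu, ← hXd, ← hDd]
      have hDh : Commute D h := M.commD
      have hXn : Commute (X ^ n.1) h := M.commX.pow_left _
      have e : D * U * D = X ^ n.1 * U * X⁻¹ ^ n.1 := by
        rw [hDd, hU, hXd, ← map_inv, ← map_pow, ← map_pow, ← map_mul, ← map_mul, ← map_mul, ← map_mul,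
          hn]
      calc D * u' * D = (D * h⁻¹) * U * (h * D) := by rw [hu']; group
        _ = (h⁻¹ * D) * U * (D * h) := by rw [hDh.inv_right.eq, ← hDh.eq]
        _ = h⁻¹ * (D * U * D) * h := by group
        _ = (h⁻¹ * X ^ n.1) * U * ((X ^ n.1)⁻¹ * h) := by rw [e, inv_pow]; group
        _ = (X ^ n.1 * h⁻¹) * U * (h * (X ^ n.1)⁻¹) := by rw [← hXn.inv_right.eq, hXn.inv_left.eq]
        _ = _ := by rw [hu', inv_pow]; group
    obtain ⟨k', hk'⟩ := four_u a b c d ha hb hc hd (fun j => by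
        rw [← hee]; exact congrArg (fun q : A9 => q.1 j) hs_prod)
      (by
        refine ⟨n, fun j => ?_⟩
        rw [← hee]
        have := congrArg (fun q : A9 => q.1 j) hs_dd
        simpa [SubmonoidClass.coe_pow] using this)
      (by
        by_contra hcon
        push Not at hcon
        exact hs1 (Subtype.ext (Equiv.ext fun j => by rw [hee]; exact hcon j)))
    have hsk : u9 k' = s := Subtype.ext (Equiv.ext fun j => (hk' j).trans (by rw [hee]))
    have hUv : Commute U v := V.em_v N (hu78 0).1 (hu78 0).2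
    have hu'v : Commute (em θ (u9 k')) v' := by
      rw [hsk, hsu, hu', hv']
      show h⁻¹ * U * h * (h⁻¹ * v * h) = h⁻¹ * v * h * (h⁻¹ * U * h)
      calc h⁻¹ * U * h * (h⁻¹ * v * h) = h⁻¹ * (U * v) * h := by group
        _ = h⁻¹ * (v * U) * h := by rw [hUv.eq]
        _ = _ := by group
    intro l
    have hstep : ∀ q : A9, Commute (em θ q) v' → Commute (em θ (x9 * q * x9⁻¹)) v' := fun q hq' => by
      rw [map_mul, map_mul, map_inv]
      exact (hXv'.mul_left hq').mul_left hXv'.inv_left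
    rcases (orbit3_hits l k').1 with h' | h' | h' <;> [rw [h']; rw [← h']; rw [← h']]
    exacts [hu'v, hstep _ hu'v, hstep _ (hstep _ hu'v)]
  -- `v'` lies in `C(A₇)`
  have hA7 : ∀ a : alternatingGroup (Fin 7), Commute (em θ (e79 a)) v' := fun a => by
    have hm := gen_seven ((centralizer ({v'} : Set G)).comap (em θ))
      (mem_centralizer_singleton_iff.2 hXv'.eq) (fun k => mem_centralizer_singleton_iff.2 (hUv' k).eq)
      (fun k => mem_centralizer_singleton_iff.2 (hWv' k).eq) a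
    exact mem_centralizer_singleton_iff.1 hm
  have hv'D : v' ∈ D7 T := by
    refine mem_centralizer_iff.2 fun a ha => ?_
    rw [SetLike.mem_coe, ← iota7_range N] at ha
    obtain ⟨b, rfl⟩ := ha
    exact (hA7 b).eq
  have hYv : Commute Y v := V.em_v N y7 y8
  have hv'ρ : ρ * v' * ρ⁻¹ = v' ^ 2 := by
    have e : ρ = h⁻¹ * (ρ * Y) * h := by rw [← M.move]; group
    have e2 : v' ^ 2 = h⁻¹ * v ^ 2 * h := by
      rw [hv', pow_two, pow_two]; group
    rw [e2, ← V.conj]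
    calc ρ * v' * ρ⁻¹ = h⁻¹ * (ρ * (Y * v * Y⁻¹) * ρ⁻¹) * h := by
          rw [hv']; nth_rw 1 2 [e]; group
      _ = h⁻¹ * (ρ * v * ρ⁻¹) * h := by rw [hYv.eq, mul_inv_cancel_right]
  have hv'7 : v' ^ 7 = 1 := by
    have e : v' = h⁻¹ * v * (h⁻¹)⁻¹ := by rw [hv', inv_inv]
    rw [e, conj_pow, V.pow7]; group
  have hvv := V.eq_of_exp (D7_card T N hq) (fun g => D7_cent_rho T N hq) hv'D hv'7 hv'ρ
  haveI : Fact (Nat.Prime 7) := ⟨by norm_num⟩
  rw [mem_zpowers_iff_mem_range_orderOf, V.ord] at hvv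
  obtain ⟨m, hm7, hmv⟩ := Finset.mem_image.1 hvv
  have hm0 : m ≠ 0 := fun h0 => V.ne_one (by
    rw [h0, pow_zero] at hmv
    calc v = h * v' * h⁻¹ := by rw [hv']; group
      _ = 1 := by rw [← hmv]; group)
  -- the element of `C(v)`
  have hhv : h * v ^ m * h⁻¹ = v := by rw [hmv, hv']; group
  obtain ⟨g0, hg0v, hg0ρ, hg0x⟩ : ∃ g0 : G, g0 * v * g0⁻¹ = v ^ m ∧ g0 * ρ = ρ * g0 ∧
      (g0 * X * g0⁻¹ = X ∨ g0 * X * g0⁻¹ = X⁻¹) := by
    have hρX : Commute ρ X := (em_rho x9).symm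
    obtain ⟨i0, hi0 | hi0⟩ := exp_pick ⟨m, Finset.mem_range.1 hm7⟩ hm0
    · refine ⟨ρ ^ i0.1, ?_, ((Commute.refl ρ).pow_left _).eq, Or.inl ?_⟩
      · have := V.conj_pow_v i0.1 1
        rw [pow_one, one_mul] at this
        rw [this, mul_inv_cancel_right, V.pow_eq_iff, hi0]
        exact (Nat.mod_eq_of_lt (Finset.mem_range.1 hm7)).symm
      · rw [(hρX.pow_left _).eq, mul_inv_cancel_right]
    · refine ⟨D * ρ ^ i0.1, ?_, ((em_rho dd).mul_left ((Commute.refl ρ).pow_left _)).eq, Or.inr ?_⟩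
      · have := V.conj_pow_v i0.1 1
        rw [pow_one, one_mul] at this
        calc D * ρ ^ i0.1 * v * (D * ρ ^ i0.1)⁻¹ = D * (ρ ^ i0.1 * v * (ρ ^ i0.1)⁻¹) * D⁻¹ := by group
          _ = D * v ^ (2 ^ i0.1) * D⁻¹ := by rw [this, mul_inv_cancel_right]
          _ = (v ^ 6) ^ (2 ^ i0.1) := by
              rw [← conj_pow, hDv]
              congr 1
              refine inv_eq_of_mul_eq_one_right ?_
              rw [← pow_succ', V.pow7]
          _ = v ^ m := by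
              rw [← pow_mul, V.pow_eq_iff, hi0]
              exact (Nat.mod_eq_of_lt (Finset.mem_range.1 hm7)).symm
      · calc D * ρ ^ i0.1 * X * (D * ρ ^ i0.1)⁻¹ = D * (ρ ^ i0.1 * X * (ρ ^ i0.1)⁻¹) * D⁻¹ := by group
          _ = X⁻¹ := by rw [(hρX.pow_left _).eq, mul_inv_cancel_right, hDx]
  set m0 := h * g0 with hm0d
  have hm0v : m0 * v = v * m0 := by
    refine mul_inv_eq_iff_eq_mul.1 ?_
    calc m0 * v * m0⁻¹ = h * (g0 * v * g0⁻¹) * h⁻¹ := by rw [hm0d]; group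
      _ = v := by rw [hg0v, hhv]
  have hm0ρ : m0 * ρ * m0⁻¹ = ρ * Y := by
    calc m0 * ρ * m0⁻¹ = h * (g0 * ρ * g0⁻¹) * h⁻¹ := by rw [hm0d]; group
      _ = ρ * Y := by rw [hg0ρ, mul_inv_cancel_right, M.move]
  have hm0X : m0 * X * m0⁻¹ = X ∨ m0 * X * m0⁻¹ = X⁻¹ := by
    have e : m0 * X * m0⁻¹ = h * (g0 * X * g0⁻¹) * h⁻¹ := by rw [hm0d]; group
    rcases hg0x with h' | h' <;> rw [e, h']
    · exact Or.inl (by rw [← M.commX.eq, mul_inv_cancel_right])
    · exact Or.inr (by rw [← M.commX.inv_left.eq, mul_inv_cancel_right])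
  set d := m0⁻¹ * Y * m0 with hd
  have hdv : d * v = v * d :=
    ((((show Commute m0 v from hm0v).inv_left.mul_left hYv)).mul_left (show Commute m0 v from hm0v)).eq
  have hdρ : d * ρ = ρ * d := by
    have e : ρ = m0⁻¹ * (ρ * Y) * m0 := by rw [← hm0ρ]; group
    calc d * ρ = m0⁻¹ * (Y * (ρ * Y)) * m0 := by rw [hd]; nth_rw 1 [e]; group
      _ = m0⁻¹ * ((ρ * Y) * Y) * m0 := by
          rw [((hρY.symm).mul_right (Commute.refl Y) : Commute Y (ρ * Y)).eq]
      _ = ρ * d := by rw [hd]; nth_rw 2 [e]; group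
  have hdL := V.cent_rho N hq hdv hdρ
  have hdR : d ∈ RR e ρ := by
    rw [← iota7_range N] at hdL
    obtain ⟨b, hb⟩ := hdL
    rw [← hb]; exact em_mem _
  set a' := θ ⟨d, hdR⟩ with ha'
  have hea : em θ a' = d := eq_em hdR
  obtain ⟨a7, a8⟩ := (em_mem_LamS N (a := a')).1 (hea.symm ▸ hdL)
  have hXd' : Commute X d := by
    have hXY : Commute X Y := em_comm hxy
    have h1 : Commute (m0 * X * m0⁻¹) Y := by
      rcases hm0X with h' | h' <;> rw [h']
      · exact hXY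
      · exact hXY.inv_left
    show X * (m0⁻¹ * Y * m0) = m0⁻¹ * Y * m0 * X
    calc X * (m0⁻¹ * Y * m0) = m0⁻¹ * (m0 * X * m0⁻¹ * Y) * m0 := by group
      _ = m0⁻¹ * (Y * (m0 * X * m0⁻¹)) * m0 := by rw [h1.eq]
      _ = _ := by group
  have hax : a' * x9 = x9 * a' := em_injective (θ := θ) (by
    rw [map_mul, map_mul, hea]; exact hXd'.eq.symm)
  have ha3 : a' ^ 3 = 1 := by
    rw [← em_pow_eq_one (θ := θ), hea]
    have e : d = m0⁻¹ * Y * (m0⁻¹)⁻¹ := by rw [hd, inv_inv]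
    rw [e, conj_pow, em_pow_eq_one.2 x9_cube.2.1]; group
  have hmv0 : x9.1 (a'.1 0) ≠ a'.1 0 := fun h' => by
    have h1 : a'.1 (x9.1 0) = x9.1 (a'.1 0) :=
      congrArg (fun q : Perm (Fin 9) => q 0) (congrArg Subtype.val hax)
    rw [h'] at h1
    exact absurd (a'.1.injective h1) (by decide +kernel)
  obtain ⟨n, hn⟩ := (orbit_gen (a'.1 0)).1 hmv0
  set p1 := (x9 ^ n.1)⁻¹ * a' with hp1
  have hxa : Commute x9 a' := hax.symm
  have hp13 : p1 ^ 3 = 1 := by
    rw [hp1, (hxa.pow_left n.1).inv_left.mul_pow, inv_pow, ← pow_mul, mul_comm n.1, pow_mul,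
      x9_cube.1, one_pow, inv_one, one_mul, ha3]
  have hp1ne : p1 ≠ 1 := fun h' => by
    have e : a' = x9 ^ n.1 := (inv_mul_eq_one.1 h').symm
    have e2 : Y = (m0 * X * m0⁻¹) ^ n.1 := by
      rw [conj_pow, hXd, ← map_pow, ← e, hea, hd]; group
    rcases hm0X with hh | hh <;> rw [hh] at e2
    · exact y9_ne_pow n (em_injective (θ := θ) (by rw [map_pow]; exact e2))
    · refine y9_ne_pow ⟨2 * n.1 % 3, Nat.mod_lt _ (by norm_num)⟩ (em_injective (θ := θ) ?_)
      rw [map_pow]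
      show Y = X ^ (2 * n.1 % 3)
      rw [e2, ← pow_eq_pow_mod _ (em_pow_eq_one.2 x9_cube.1), pow_mul]
      congr 1
      refine inv_eq_of_mul_eq_one_right ?_
      rw [← pow_succ', em_pow_eq_one.2 x9_cube.1]
  have hpf : p1.1 0 = 0 ∧ p1.1 1 = 1 ∧ p1.1 2 = 2 ∧ p1.1 7 = 7 ∧ p1.1 8 = 8 := by
    have hfix0 : p1.1 0 = 0 := by
      show ((x9 ^ n.1 : A9).1)⁻¹ (a'.1 0) = 0
      rw [hn, SubmonoidClass.coe_pow, Perm.inv_def, Equiv.symm_apply_apply]
    have hpx : Commute p1.1 x9.1 := congrArg Subtype.val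
      (((Commute.refl x9).pow_left n.1).inv_left.mul_left hax :)
    have hpfix : ∀ j : ℕ, p1.1 ((x9.1 ^ j) 0) = (x9.1 ^ j) 0 := fun j => by
      show (p1.1 * x9.1 ^ j) 0 = _
      rw [(hpx.pow_right j).eq, Perm.mul_apply, hfix0]
    have h1 : (x9.1 ^ 1) 0 = 1 ∧ (x9.1 ^ 2) 0 = 2 ∧
        ∀ j : Fin 3, (x9.1 ^ j.1) 7 = 7 ∧ (x9.1 ^ j.1) 8 = 8 := by decide +kernel
    refine ⟨hfix0, by rw [← h1.1]; exact hpfix 1, by rw [← h1.2.1]; exact hpfix 2, ?_, ?_⟩
    · show ((x9 ^ n.1 : A9).1)⁻¹ (a'.1 7) = 7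
      rw [a7, SubmonoidClass.coe_pow, Perm.inv_def, Equiv.symm_apply_eq, (h1.2.2 n).1]
    · show ((x9 ^ n.1 : A9).1)⁻¹ (a'.1 8) = 8
      rw [a8, SubmonoidClass.coe_pow, Perm.inv_def, Equiv.symm_apply_eq, (h1.2.2 n).2]
  obtain ⟨k, hk⟩ := three_on_four hp13 hp1ne hpf
  set W := em θ (w4 k) with hW
  set n1 := W * m0⁻¹ with hn1
  have hWv : Commute W v := V.em_v N (hw78 k).1 (hw78 k).2
  have hWX : Commute W X := em_comm (w4_commX k).1
  have hn1v : n1 * v = v * n1 :=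
    (hWv.mul_left (show Commute m0 v from hm0v).inv_left).eq
  have hXP : X ∈ P9 θ := ⟨_, x9_mem_P9a, rfl⟩
  have hYP : Y ∈ P9 θ := ⟨_, y9_mem_P9a, rfl⟩
  have hn1X : n1 * X * n1⁻¹ ∈ P9 θ := by
    have e : m0⁻¹ * X * m0 = X ∨ m0⁻¹ * X * m0 = X⁻¹ := by
      rcases hm0X with h' | h'
      · left; nth_rw 1 [← h']; group
      · right
        calc m0⁻¹ * X * m0 = m0⁻¹ * (m0 * X * m0⁻¹)⁻¹ * m0 := by rw [h', inv_inv]
          _ = X⁻¹ := by group
    have e2 : n1 * X * n1⁻¹ = W * (m0⁻¹ * X * m0) * W⁻¹ := by rw [hn1]; group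
    rcases e with h' | h' <;> rw [e2, h']
    · rw [hWX.eq, mul_inv_cancel_right]; exact hXP
    · rw [hWX.inv_right.eq, mul_inv_cancel_right]; exact inv_mem hXP
  have hn1Y : n1 * Y * n1⁻¹ ∈ P9 θ := by
    have e2 : n1 * Y * n1⁻¹ = em θ (x9 ^ n.1 * (w4 k * p1 * (w4 k)⁻¹)) := by
      have e1 : n1 * Y * n1⁻¹ = W * em θ a' * W⁻¹ := by rw [hea, hn1, hd]; group
      have e3 : w4 k * a' * (w4 k)⁻¹ = x9 ^ n.1 * (w4 k * p1 * (w4 k)⁻¹) := by
        have hc : Commute (w4 k) (x9 ^ n.1) := (show Commute (w4 k) x9 from (w4_commX k).1).pow_right _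
        rw [← mul_assoc, ← mul_assoc, ← hc.eq, hp1]; group
      rw [e1, ← e3, map_mul, map_mul, map_inv]
    rw [e2, map_mul]
    refine mul_mem ?_ ?_
    · rw [map_pow]; exact pow_mem hXP _
    · rcases hk (w4 k) rfl with h' | h' <;> rw [h']
      · exact hYP
      · rw [map_inv]; exact inv_mem hYP
  have hn1P : ∀ q ∈ P9 θ, n1 * q * n1⁻¹ ∈ P9 θ := by
    rintro _ ⟨b, ⟨jx, jy, rfl⟩, rfl⟩
    rw [map_mul, map_pow, map_pow, show n1 * (X ^ jx * Y ^ jy) * n1⁻¹ =
      (n1 * X * n1⁻¹) ^ jx * (n1 * Y * n1⁻¹) ^ jy by rw [conj_pow, conj_pow]; group]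
    exact mul_mem (pow_mem hn1X _) (pow_mem hn1Y _)
  have hn1H := V.norm_P9 N hq hP hn1v hn1P
  have hWH : W ∈ HH T v := mem_sup_right ((em_mem_LamS N).2 (hw78 k))
  have hm0H : m0 ∈ HH T v := by
    have := inv_mem (mul_mem (inv_mem hWH) hn1H)
    rwa [hn1, inv_mul_cancel_left, inv_inv] at this
  obtain ⟨c, l, hl, hml⟩ := (mem_HH V).1 hm0H
  have hlρ : Commute l ρ := by
    obtain ⟨σ, -, rfl⟩ := hl
    exact (lam_comm T σ).2.2.1
  have hY1 : Y = v ^ (4 * c) * (v ^ c)⁻¹ := by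
    have e1 : ρ * Y = v ^ c * ρ * (v ^ c)⁻¹ := by
      rw [← hm0ρ, hml]
      calc v ^ c * l * ρ * (v ^ c * l)⁻¹ = v ^ c * (l * ρ) * l⁻¹ * (v ^ c)⁻¹ := by group
        _ = v ^ c * ρ * (v ^ c)⁻¹ := by rw [hlρ.eq]; group
    have hr : ρ⁻¹ * v ^ c * ρ = v ^ (4 * c) := by
      have h4 := V.conj_pow_v 1 (4 * c)
      rw [pow_one, pow_one, V.pow_eq_iff.2 (show 4 * c * 2 % 7 = c % 7 by omega)] at h4
      calc ρ⁻¹ * v ^ c * ρ = ρ⁻¹ * (v ^ c * ρ) := by group
        _ = v ^ (4 * c) := by rw [← h4, inv_mul_cancel_left]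
    calc Y = ρ⁻¹ * (ρ * Y) := by group
      _ = (ρ⁻¹ * v ^ c * ρ) * (v ^ c)⁻¹ := by rw [e1]; group
      _ = _ := by rw [hr]
  refine hy1 (em_injective (θ := θ) ?_)
  rw [map_one]
  show Y = 1
  refine orderOf_eq_one_iff.1 (Nat.eq_one_of_dvd_coprimes (show Nat.Coprime 3 7 by norm_num)
    (orderOf_dvd_of_pow_eq_one (em_pow_eq_one.2 x9_cube.2.1)) ?_)
  exact (zpowers v).orderOf_dvd_natCard (hY1 ▸ mul_mem (pow_mem (mem_zpowers v) _)
    (inv_mem (pow_mem (mem_zpowers v) _))) |>.trans (dvd_of_eq ((Nat.card_zpowers v).trans V.ord))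

end Vee

end CfsgLib.StructB.CoA9
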