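import Cfsg.Agent.Lib.StructB.CoA9.VClasses
import Cfsg.Agent.Lib.StructB.CoA9.PNine
import Cfsg.Agent.Lib.StructB.CoA9.SevenEnd
import Cfsg.Agent.Lib.StructB.CoA9.VInvol

/-!
The subgroup of order seven with centraliser `7 × A₇`.
-/

set_option autoImplicit false
set_option maxRecDepth 20000
set_option synthInstance.maxSize 2000
set_option Elab.async false

namespace CfsgLib.StructB.CoA9

open Subgroup CfsgLib.Trans3.ExtraTwo CfsgLib.ClassK.Conway Equiv

local notation "A7" => alternatingGroup (Fin 7)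
local notation "A9" => alternatingGroup (Fin 9)

theorem pa_pb_eq : (∀ i : Fin 8, x9.1 i.castSucc = (PNine.ca.1 i).castSucc) ∧
    (∀ i : Fin 8, y9.1 i.castSucc = (PNine.cb.1 i).castSucc) ∧
    x9.1 (Fin.last 8) = Fin.last 8 ∧ y9.1 (Fin.last 8) = Fin.last 8 := by decide +kernel

universe u

variable {G : Type u} [Group G] [Finite G] {z : G} {Q : Subgroup G} {e : ↥Q ≃* ES 4 (ff 4)} {ρ : G}
variable {T : Tri z Q e ρ} {v : G} {pt : Fin 9 → G} {θ : ↥(RR e ρ) ≃* A9}

theorem Vee.pnine (V : Vee T v) (N : Nine T pt θ) : PNineFact θ v := by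
  obtain ⟨h1, h2, h3, h4⟩ := pa_pb_eq
  have ea : em θ x9 = PNine.pa T := lam_eq_em N _ x9 h3 h1
  have eb : em θ y9 = PNine.pb T := lam_eq_em N _ y9 h4 h2
  intro g hgv hgx hgy
  rw [ea] at hgx ⊢
  rw [eb] at hgy ⊢
  obtain ⟨x7, x8, y7, y8, -⟩ := p9_facts
  exact PNine.cent_P9_seven T V.pow7 V.ne_one (ea ▸ (V.em_v N x7 x8).eq.symm)
    (eb ▸ (V.em_v N y7 y8).eq.symm) hgx hgy hgv

/-- The centraliser of `v` is `7 × A₇`. -/
theorem Vee.equiv_cent (V : Vee T v) (N : Nine T pt θ) (t : A7) (ht : orderOf t = 2)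
    (hC : ∀ g : G, g * v = v * g → g * iota7 θ t = iota7 θ t * g → g ∈ HH T v) :
    Nonempty (↥(centralizer ((zpowers v : Subgroup G) : Set G)) ≃*
      Multiplicative (ZMod 7) × A7) := by
  have hcent : centralizer ((zpowers v : Subgroup G) : Set G) = centralizer ({v} : Set G) := by
    refine le_antisymm (centralizer_le (Set.singleton_subset_iff.2 (mem_zpowers v))) fun g hg => ?_
    refine mem_centralizer_iff.2 fun a ha => ?_
    obtain ⟨i, rfl⟩ := mem_zpowers_iff.1 ha
    exact ((show Commute g v from mem_centralizer_singleton_iff.1 hg).zpow_right i).eq.symm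
  rw [hcent]
  set M := centralizer ({v} : Set G) with hM
  have hrange := iota7_range (θ := θ) N
  have hιM : ∀ a : A7, iota7 θ a ∈ M := fun a =>
    mem_centralizer_singleton_iff.2 (V.lamS_comm (hrange ▸ MonoidHom.mem_range.2 ⟨a, rfl⟩))
  let ι : A7 →* ↥M := (iota7 θ).codRestrict M hιM
  have hι : Function.Injective ι := fun a b h =>
    iota7_injective (θ := θ) (congrArg (fun x : ↥M => (x : G)) h)
  set vM : ↥M := ⟨v, mem_centralizer_singleton_iff.2 rfl⟩ with hvM
  refine equiv_of_cent_involution (v := vM) (by rw [← orderOf_coe]; exact V.ord)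
    (fun g => Subtype.ext (mem_centralizer_singleton_iff.1 g.2)) ι hι t ht fun g hg => ?_
  obtain ⟨i, l, hl, he⟩ := (mem_HH V).1 (hC g (mem_centralizer_singleton_iff.1 g.2)
    (congrArg Subtype.val hg))
  rw [← hrange] at hl
  obtain ⟨a, rfl⟩ := hl
  have : g = vM ^ i * ι a := Subtype.ext he
  rw [this]
  exact mul_mem (mem_sup_left (pow_mem (mem_zpowers vM) i)) (mem_sup_right ⟨a, rfl⟩)

/-- The subgroup of order seven. -/
theorem exists_V (T : Tri z Q e ρ) (hq : HasOmega z Q) : ∃ W : Subgroup G, Nat.card ↥W = 7 ∧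
    Nonempty (↥(centralizer (W : Set G)) ≃* Multiplicative (ZMod 7) × A7) := by
  obtain ⟨pt, θ, N⟩ := exists_nine T hq
  obtain ⟨v, V⟩ := exists_vee T N hq
  haveI : Fact (Nat.Prime 2) := ⟨Nat.prime_two⟩
  refine ⟨zpowers v, by rw [Nat.card_zpowers, V.ord], V.equiv_cent N t7
    (orderOf_eq_prime (Subtype.ext (by decide +kernel))
      (fun h => absurd (congrArg (fun a : A7 => a.1 0) h) (by decide +kernel))) ?_⟩
  exact cent_invol_le N hq V fun a ha => V.good_three N hq (V.pnine N) a ha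

end CfsgLib.StructB.CoA9
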