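import Cfsg.Agent.Lib.StructB.CoA9.HBase

/-!
Permutation lemmas for the centralisers of the elements of order three in `C(v)`.
-/

set_option autoImplicit false
set_option maxRecDepth 20000
set_option synthInstance.maxSize 2000
set_option Elab.async false

namespace CfsgLib.StructB.CoA9

open Equiv

local notation "A9" => alternatingGroup (Fin 9)

/-- The three-cycle `(012)`. -/
def x9 : A9 := ⟨swap 0 1 * swap 1 2, Perm.mem_alternatingGroup.2 (by decide +kernel)⟩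

/-- The three-cycle `(345)`. -/
def y9 : A9 := ⟨swap 3 4 * swap 4 5, Perm.mem_alternatingGroup.2 (by decide +kernel)⟩

/-- The involution `(12)(45)`. -/
def t9 : A9 := ⟨swap 1 2 * swap 4 5, Perm.mem_alternatingGroup.2 (by decide +kernel)⟩

/-- The involution `(01)(34)`. -/
def s9 : A9 := ⟨swap 0 1 * swap 3 4, Perm.mem_alternatingGroup.2 (by decide +kernel)⟩

/-- The four group on `{0,1,2,6}`. -/
def u9 : Fin 3 → A9 :=
  ![⟨swap 0 1 * swap 2 6, Perm.mem_alternatingGroup.2 (by decide +kernel)⟩,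
    ⟨swap 0 2 * swap 1 6, Perm.mem_alternatingGroup.2 (by decide +kernel)⟩,
    ⟨swap 0 6 * swap 1 2, Perm.mem_alternatingGroup.2 (by decide +kernel)⟩]

/-- The four group on `{3,4,5,6}`. -/
def w9 : Fin 3 → A9 :=
  ![⟨swap 3 4 * swap 5 6, Perm.mem_alternatingGroup.2 (by decide +kernel)⟩,
    ⟨swap 3 5 * swap 4 6, Perm.mem_alternatingGroup.2 (by decide +kernel)⟩,
    ⟨swap 3 6 * swap 4 5, Perm.mem_alternatingGroup.2 (by decide +kernel)⟩]

/-- The permutation carrying `(0 … 4)` to `{0,1,2,7,8}` and `(567)` to `(345)`. -/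
def piXY : A9 := ⟨swap 3 7 * swap 7 5 * (swap 4 8 * swap 8 6),
  Perm.mem_alternatingGroup.2 (by decide +kernel)⟩

/-- The four group on `{3,4,5,6}` with the identity. -/
def w4 : Fin 4 → A9 := Fin.cons 1 w9

/-- A three-cycle on the seven points. -/
def c7 (a b c : Fin 7) : Perm (Fin 9) := swap (i79 a) (i79 b) * swap (i79 b) (i79 c)

/-- The generator `(0 1 i)`. -/
def g01 (i : Fin 7) : Perm (Fin 9) := c7 0 1 i

/-- The elements `(0 a b)`. -/
def words0 (a b : Fin 7) : List (Perm (Fin 9)) :=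
  [g01 a, g01 b, g01 a * g01 a, g01 b * g01 b, g01 a * g01 b * g01 b, g01 b * g01 b * g01 a,
    g01 b * g01 a * g01 a, g01 a * g01 a * g01 b, g01 b * g01 a * (g01 b * g01 b),
    g01 a * g01 b * (g01 a * g01 a)]

theorem piXY_spec : piXY * sx9 * piXY⁻¹ = y9 ∧
    (piXY⁻¹ * x9 * piXY).1 5 = 5 ∧ (piXY⁻¹ * x9 * piXY).1 6 = 6 ∧ (piXY⁻¹ * x9 * piXY).1 7 = 7 ∧
    (piXY⁻¹ * x9 * piXY).1 8 = 8 ∧ (piXY⁻¹ * dd * piXY).1 5 = 5 ∧ (piXY⁻¹ * dd * piXY).1 6 = 6 ∧
    (piXY⁻¹ * dd * piXY).1 7 = 7 ∧ (piXY⁻¹ * dd * piXY).1 8 = 8 := by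
  refine ⟨Subtype.ext ?_, ?_⟩ <;> decide +kernel

/-- Three-cycles on `{0,1,2,7,8}`. -/
def cf : Fin 5 → A9 :=
  ![x9, ⟨swap 1 2 * swap 2 7, Perm.mem_alternatingGroup.2 (by decide +kernel)⟩,
    ⟨swap 2 7 * swap 7 8, Perm.mem_alternatingGroup.2 (by decide +kernel)⟩,
    ⟨swap 7 8 * swap 8 0, Perm.mem_alternatingGroup.2 (by decide +kernel)⟩,
    ⟨swap 8 0 * swap 0 1, Perm.mem_alternatingGroup.2 (by decide +kernel)⟩]

theorem cf_fix : ∀ k, (piXY⁻¹ * cf k * piXY).1 5 = 5 ∧ (piXY⁻¹ * cf k * piXY).1 6 = 6 ∧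
    (piXY⁻¹ * cf k * piXY).1 7 = 7 ∧ (piXY⁻¹ * cf k * piXY).1 8 = 8 := by decide +kernel

/-- `s` fixes a point moved by a commuting element of order three if it sends it to its orbit. -/
theorem orbit_fix {α : Type*} {s c : Perm α} {a : α} {k : ℕ} (hk : k.Coprime 3) (hs : s ^ k = 1)
    (hc : s * c = c * s) (hc3 : c ^ 3 = 1) {i : ℕ} (h : s a = (c ^ i) a) : s a = a := by
  have hn : ∀ n : ℕ, (s ^ n) a = (c ^ (i * n)) a := by
    intro n
    induction n with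
    | zero => simp
    | succ n ih =>
      have hcm : Commute (s ^ n) (c ^ i) := ((show Commute s c from hc).pow_left n).pow_right i
      rw [pow_succ, Perm.mul_apply, h, ← Perm.mul_apply, hcm.eq, Perm.mul_apply, ih, ← Perm.mul_apply,
        ← pow_add, mul_add, mul_one, add_comm]
  have h' := hn k
  rw [hs, Perm.one_apply] at h'
  obtain ⟨m, -, hm⟩ := Nat.exists_mul_mod_eq_one_of_coprime hk (by norm_num : 1 < 3)
  have hfix : ∀ j : ℕ, ((c ^ (i * k)) ^ j) a = a := by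
    intro j
    induction j with
    | zero => simp
    | succ j ih => rw [pow_succ, Perm.mul_apply, ← h', ih]
  have h1 := hfix m
  rw [← pow_mul, mul_assoc, mul_comm i, pow_mul, ← Nat.mod_add_div (k * m) 3, hm, pow_add, pow_mul,
    hc3, one_pow, mul_one, pow_one] at h1
  rw [h]; exact h1

theorem orbit_gen : ∀ a : Fin 9, (x9.1 a ≠ a → ∃ i : Fin 3, a = (x9.1 ^ i.1) 0) ∧
    (y9.1 a ≠ a → ∃ i : Fin 3, a = (y9.1 ^ i.1) 3) ∧
    (∀ b : Fin 9, x9.1 a ≠ a → x9.1 b ≠ b → ∃ i : Fin 3, b = (x9.1 ^ i.1) a) ∧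
    (∀ b : Fin 9, y9.1 a ≠ a → y9.1 b ≠ b → ∃ i : Fin 3, b = (y9.1 ^ i.1) a) := by
  decide +kernel

theorem x9_cube : x9 ^ 3 = 1 ∧ y9 ^ 3 = 1 ∧ x9 * y9 = y9 * x9 := by
  refine ⟨Subtype.ext ?_, Subtype.ext ?_, Subtype.ext ?_⟩ <;> decide +kernel

/-- A `3'`-element commuting with `(012)` fixes its points. -/
theorem fix_of_comm {s : A9} {c : A9} (hc3 : c ^ 3 = 1)
    (hcase : ∀ a b : Fin 9, c.1 a ≠ a → c.1 b ≠ b → ∃ i : ℕ, b = (c.1 ^ i) a)
    (hs : s * c = c * s) {k : ℕ} (hk : k.Coprime 3) (hsk : s ^ k = 1) {a : Fin 9} (ha : c.1 a ≠ a) :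
    s.1 a = a := by
  have hs' : s.1 * c.1 = c.1 * s.1 := congrArg Subtype.val hs
  have hb : c.1 (s.1 a) ≠ s.1 a := fun h => ha (s.1.injective (by
    have := congrArg (fun p : Perm (Fin 9) => p a) hs'
    simp only [Perm.mul_apply] at this
    rw [this, h]))
  obtain ⟨i, hi⟩ := hcase a _ ha hb
  exact orbit_fix hk (by rw [← SubmonoidClass.coe_pow, hsk]; rfl) hs'
    (by rw [← SubmonoidClass.coe_pow, hc3]; rfl) hi

theorem x9_trans : ∀ a b : Fin 9, x9.1 a ≠ a → x9.1 b ≠ b → ∃ i : ℕ, b = (x9.1 ^ i) a :=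
  fun a b ha hb => by obtain ⟨i, hi⟩ := (orbit_gen a).2.2.1 b ha hb; exact ⟨i.1, hi⟩

theorem y9_trans : ∀ a b : Fin 9, y9.1 a ≠ a → y9.1 b ≠ b → ∃ i : ℕ, b = (y9.1 ^ i) a :=
  fun a b ha hb => by obtain ⟨i, hi⟩ := (orbit_gen a).2.2.2 b ha hb; exact ⟨i.1, hi⟩

/-- A permutation centralising the `A₅` on `{0,1,2,7,8}`. -/
theorem cent_A5 {p : A9} (h : ∀ k, p * cf k = cf k * p) :
    p.1 0 = 0 ∧ p.1 1 = 1 ∧ p.1 2 = 2 ∧ p.1 7 = 7 ∧ p.1 8 = 8 := by
  have hh : ∀ k i, p.1 ((cf k).1 i) = (cf k).1 (p.1 i) := fun k i =>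
    congrArg (fun q : Perm (Fin 9) => q i) (congrArg Subtype.val (h k))
  have key : ∀ i ∈ [(0 : Fin 9), 1, 2, 7, 8], ∀ j, (∀ k, (cf k).1 i = i → (cf k).1 j = j) →
      (∀ k, (cf k).1 j = j → (cf k).1 i = i) → j = i := by decide +kernel
  have hfix : ∀ i ∈ [(0 : Fin 9), 1, 2, 7, 8], p.1 i = i := fun i hi =>
    key i hi (p.1 i) (fun k hk => by rw [← hh, hk]) fun k hk => p.1.injective (by rw [hh, hk])
  exact ⟨hfix 0 (by decide), hfix 1 (by decide), hfix 2 (by decide), hfix 7 (by decide),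
    hfix 8 (by decide)⟩

/-- A map of the four middle points, extended to nine points. -/
def emb4 (g : Fin 4 → Fin 4) (i : Fin 9) : Fin 9 :=
  if hi : 3 ≤ i.1 ∧ i.1 ≤ 6 then ⟨3 + (g ⟨i.1 - 3, by omega⟩).1, by omega⟩ else i

theorem four_split : ∀ j : Fin 9, (j = 0 ∨ j = 1 ∨ j = 2 ∨ j = 7 ∨ j = 8) ∨
    ∃ k : Fin 4, (⟨3 + k.1, by omega⟩ : Fin 9) = j := by decide +kernel

theorem four_not : ∀ i : Fin 4, ¬ ((⟨3 + i.1, by omega⟩ : Fin 9) = 0 ∨ (⟨3 + i.1, by omega⟩ : Fin 9) = 1 ∨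
    (⟨3 + i.1, by omega⟩ : Fin 9) = 2 ∨ (⟨3 + i.1, by omega⟩ : Fin 9) = 7 ∨
    (⟨3 + i.1, by omega⟩ : Fin 9) = 8) := by decide +kernel

theorem four_key : ∀ g : Fin 4 → Fin 4, (∀ i, g (g (g i)) = i) → (∃ i, g i ≠ i) →
    ∃ k : Fin 4, (∀ i, (w4 k).1 (emb4 g ((w4 k).1 i)) = y9.1 i) ∨
      (∀ i, y9.1 ((w4 k).1 (emb4 g ((w4 k).1 i))) = i) := by decide +kernel

/-- Elements of order three on `{3,4,5,6}`. -/
theorem three_on_four {p : A9} (h3 : p ^ 3 = 1) (h1 : p ≠ 1)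
    (hf : p.1 0 = 0 ∧ p.1 1 = 1 ∧ p.1 2 = 2 ∧ p.1 7 = 7 ∧ p.1 8 = 8) :
    ∃ k, ∀ w : A9, w = w4 k → w * p * w⁻¹ = y9 ∨ w * p * w⁻¹ = y9⁻¹ := by
  have hfix : ∀ i : Fin 9, i = 0 ∨ i = 1 ∨ i = 2 ∨ i = 7 ∨ i = 8 → p.1 i = i := by
    rintro i (rfl | rfl | rfl | rfl | rfl)
    exacts [hf.1, hf.2.1, hf.2.2.1, hf.2.2.2.1, hf.2.2.2.2]
  have hin : ∀ i : Fin 4, ∃ j : Fin 4, (⟨3 + j.1, by omega⟩ : Fin 9) = p.1 ⟨3 + i.1, by omega⟩ := by
    intro i
    refine (four_split _).resolve_left fun h => ?_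
    have := p.1.injective (hfix _ h)
    rw [this] at h
    exact four_not i h
  choose f hfd using hin
  have hemb : ∀ i, p.1 i = emb4 f i := by
    intro i
    by_cases hi : 3 ≤ i.1 ∧ i.1 ≤ 6
    · simp only [emb4, dif_pos hi, hfd]
      congr 1
      exact Fin.ext (show i.1 = 3 + (i.1 - 3) by omega)
    · simp only [emb4, dif_neg hi]
      refine hfix i ?_
      have key : ∀ i : Fin 9, ¬ (3 ≤ i.1 ∧ i.1 ≤ 6) → i = 0 ∨ i = 1 ∨ i = 2 ∨ i = 7 ∨ i = 8 := by decide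
      exact key i hi
  obtain ⟨k, hk⟩ := four_key f (fun i => by
    have h : p.1 (p.1 (p.1 ⟨3 + i.1, by omega⟩)) = ⟨3 + i.1, by omega⟩ :=
      congrArg (fun q : Perm (Fin 9) => q ⟨3 + i.1, by omega⟩)
        (show p.1 ^ 3 = 1 by rw [← SubmonoidClass.coe_pow, h3]; rfl)
    rw [← hfd i, ← hfd (f i), ← hfd (f (f i)), Fin.ext_iff] at h
    exact Fin.ext (by
      have h' : 3 + (f (f (f i))).1 = 3 + i.1 := h
      omega))
    (by
      by_contra hcon
      push Not at hcon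
      refine h1 (Subtype.ext (Equiv.ext fun i => ?_))
      rw [hemb]
      show _ = i
      by_cases hi : 3 ≤ i.1 ∧ i.1 ≤ 6
      · simp only [emb4, dif_pos hi, hcon]
        exact Fin.ext (show 3 + (i.1 - 3) = i.1 by omega)
      · simp only [emb4, dif_neg hi])
  refine ⟨k, fun w hw => ?_⟩
  subst hw
  have hinv : ∀ k i, (w4 k).1 ((w4 k).1 i) = i := by decide +kernel
  have hsymm : (w4 k)⁻¹ = w4 k :=
    inv_eq_of_mul_eq_one_right (Subtype.ext (Equiv.ext (hinv k)))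
  simp only [hsymm]
  rcases hk with hk | hk
  · refine Or.inl (Subtype.ext (Equiv.ext fun i => ?_))
    rw [← hk i, ← hemb]
    rfl
  · refine Or.inr (eq_inv_of_mul_eq_one_right (Subtype.ext (Equiv.ext fun i => ?_)))
    have := hk i
    rw [← hemb] at this
    exact this

/-- An even involution is a product of two transpositions when it fixes three points. -/
theorem invol_rep {s : A9} (h2 : s * s = 1) (h1 : s ≠ 1) {u : Finset (Fin 9)} (hu : u.card = 3)
    (hfix : ∀ i ∈ u, s.1 i = i) :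
    ∃ a b c d : Fin 9, a ∉ u ∧ b ∉ u ∧ c ∉ u ∧ d ∉ u ∧ s.1 = swap a b * swap c d := by
  classical
  have hss : ∀ i, s.1 (s.1 i) = i := fun i => congrArg (fun q : Perm (Fin 9) => q i) (congrArg Subtype.val h2)
  obtain ⟨a, ha⟩ : ∃ a, s.1 a ≠ a := by
    by_contra hcon
    push Not at hcon
    exact h1 (Subtype.ext (Equiv.ext hcon))
  set s1 := swap a (s.1 a) * s.1 with hs1
  have hs1a : s1 a = a ∧ s1 (s.1 a) = s.1 a := by
    refine ⟨?_, ?_⟩
    · rw [hs1, Perm.mul_apply, swap_apply_right]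
    · rw [hs1, Perm.mul_apply, hss, swap_apply_left]
  have hs1o : ∀ i, i ≠ a → i ≠ s.1 a → s1 i = s.1 i := fun i hia hib => by
    rw [hs1, Perm.mul_apply, swap_apply_of_ne_of_ne]
    · exact fun h => hib (by rw [← h, hss])
    · exact fun h => hia (s.1.injective h)
  obtain ⟨c, hc⟩ : ∃ c, s1 c ≠ c := by
    by_contra hcon
    push Not at hcon
    have h' : s.1 = swap a (s.1 a) := by
      calc s.1 = swap a (s.1 a) * s1 := by rw [hs1, swap_mul_self_mul]
        _ = swap a (s.1 a) := by rw [show s1 = 1 from Equiv.ext hcon, mul_one]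
    have := Perm.mem_alternatingGroup.1 s.2
    rw [h', Perm.sign_swap (Ne.symm ha)] at this
    exact absurd this (by decide)
  have hca : c ≠ a := fun h => hc (h ▸ hs1a.1)
  have hcb : c ≠ s.1 a := fun h => hc (h ▸ hs1a.2)
  have hsc : s1 c = s.1 c := hs1o c hca hcb
  set s2 := swap c (s.1 c) * s1 with hs2
  have hsc' : s.1 c ≠ c := hsc ▸ hc
  have hd1 : s.1 c ≠ a := fun h => hcb (by rw [← h, hss])
  have hd2 : s.1 c ≠ s.1 a := fun h => hca (s.1.injective h)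
  have hs2fix : ∀ i, (i = a ∨ i = s.1 a ∨ i = c ∨ i = s.1 c ∨ i ∈ u) → s2 i = i := by
    intro i hi
    rw [hs2, Perm.mul_apply]
    rcases hi with rfl | rfl | rfl | rfl | hi
    · rw [hs1a.1, swap_apply_of_ne_of_ne hca.symm hd1.symm]
    · rw [hs1a.2, swap_apply_of_ne_of_ne hcb.symm hd2.symm]
    · rw [hsc, swap_apply_right]
    · rw [hs1o _ hd1 hd2, hss, swap_apply_left]
    · have e := hfix i hi
      have hia : i ≠ a := fun h => ha (h ▸ e)
      have hib : i ≠ s.1 a := fun h => ha (by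
        have := congrArg s.1 h; rw [e, hss] at this; rw [← h]; exact this)
      rw [hs1o i hia hib, e, swap_apply_of_ne_of_ne]
      · exact fun h => hsc' (h ▸ e)
      · exact fun h => hsc' (by rw [h, hss] at e; exact e.symm)
  have hau : a ∉ u := fun h => ha (hfix a h)
  have hbu : s.1 a ∉ u := fun h => ha (by have := hfix _ h; rw [hss] at this; exact this.symm)
  have hcu : c ∉ u := fun h => hsc' (hfix c h)
  have hdu : s.1 c ∉ u := fun h => hsc' (by have := hfix _ h; rw [hss] at this; exact this.symm)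
  have hs2sign : Perm.sign s2 = 1 := by
    rw [hs2, hs1, Perm.sign_mul, Perm.sign_mul, Perm.sign_swap (Ne.symm hsc'), Perm.sign_swap (Ne.symm ha),
      Perm.mem_alternatingGroup.1 s.2]
    decide
  have hs21 : s2 = 1 := by
    by_contra hne
    obtain ⟨i, hi⟩ : ∃ i, s2 i ≠ i := by
      by_contra hcon
      push Not at hcon
      exact hne (Equiv.ext hcon)
    have hji : s2 (s2 i) ≠ s2 i := fun h => hi (s2.injective h)
    set U : Finset (Fin 9) := insert a (insert (s.1 a) (insert c (insert (s.1 c) u))) with hU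
    have hUc : U.card = 7 := by
      rw [hU, Finset.card_insert_of_notMem, Finset.card_insert_of_notMem, Finset.card_insert_of_notMem,
        Finset.card_insert_of_notMem hdu, hu]
      · simp [Ne.symm hsc', hcu]
      · simp [hcb.symm, hd2.symm, hbu]
      · simp [Ne.symm ha, hca.symm, hd1.symm, hau]
    have hUf : ∀ j ∈ U, s2 j = j := fun j hj => hs2fix j (by simpa [hU] using hj)
    have hsub : U ⊆ Finset.univ \ {i, s2 i} := fun j hj => by
      simp only [Finset.mem_sdiff, Finset.mem_univ, true_and, Finset.mem_insert, Finset.mem_singleton]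
      rintro (rfl | rfl)
      · exact hi (hUf _ hj)
      · exact hji (hUf _ hj)
    have heq : U = Finset.univ \ {i, s2 i} := Finset.eq_of_subset_of_card_le hsub (by
      rw [Finset.card_sdiff, Finset.card_univ, Fintype.card_fin, Finset.inter_univ,
        Finset.card_pair (Ne.symm hi), hUc])
    have hswap : s2 = swap i (s2 i) := by
      refine Equiv.ext fun j => ?_
      by_cases hj : j ∈ U
      · have := hsub hj
        simp only [Finset.mem_sdiff, Finset.mem_univ, true_and, Finset.mem_insert, Finset.mem_singleton,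
          not_or] at this
        rw [hUf j hj, swap_apply_of_ne_of_ne this.1 this.2]
      · rw [heq] at hj
        simp only [Finset.mem_sdiff, Finset.mem_univ, true_and, not_not, Finset.mem_insert,
          Finset.mem_singleton] at hj
        rcases hj with rfl | rfl
        · rw [swap_apply_left]
        · rw [swap_apply_right]
          by_contra hne'
          have hU2 : s2 (s2 i) ∈ U := by
            rw [heq]
            simp [hne', hji]
          exact hji (s2.injective (hUf _ hU2))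
    rw [hswap, Perm.sign_swap (Ne.symm hi)] at hs2sign
    exact absurd hs2sign (by decide)
  refine ⟨a, s.1 a, c, s.1 c, hau, hbu, hcu, hdu, ?_⟩
  calc s.1 = swap a (s.1 a) * (swap c (s.1 c) * s2) := by rw [hs2, hs1, swap_mul_self_mul, swap_mul_self_mul]
    _ = _ := by rw [hs21, mul_one]

/-- The four-group on `{3,4,5,6}`. -/
theorem four_w (a b c d : Fin 9) :
    a ∉ ({0, 1, 2} : Finset (Fin 9)) → b ∉ ({0, 1, 2} : Finset (Fin 9)) →
    c ∉ ({0, 1, 2} : Finset (Fin 9)) → d ∉ ({0, 1, 2} : Finset (Fin 9)) →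
    (∀ i, (swap a b * swap c d) ((y9.1 * (swap a b * swap c d) * y9.1⁻¹) i) =
      (y9.1 * (y9.1 * (swap a b * swap c d) * y9.1⁻¹) * y9.1⁻¹) i) →
    (∃ n : Fin 3, ∀ i, (dd.1 * (swap a b * swap c d) * dd.1) i =
      (y9.1 ^ n.1 * (swap a b * swap c d) * (y9.1⁻¹) ^ n.1) i) →
    (∃ i, (swap a b * swap c d) i ≠ i) →
    ∃ k, ∀ i, (w9 k).1 i = (swap a b * swap c d) i := by
  revert a b c d
  decide +kernel

/-- The four-group on `{0,1,2,6}`. -/
theorem four_u (a b c d : Fin 9) :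
    a ∉ ({3, 4, 5} : Finset (Fin 9)) → b ∉ ({3, 4, 5} : Finset (Fin 9)) →
    c ∉ ({3, 4, 5} : Finset (Fin 9)) → d ∉ ({3, 4, 5} : Finset (Fin 9)) →
    (∀ i, (swap a b * swap c d) ((x9.1 * (swap a b * swap c d) * x9.1⁻¹) i) =
      (x9.1 * (x9.1 * (swap a b * swap c d) * x9.1⁻¹) * x9.1⁻¹) i) →
    (∃ n : Fin 3, ∀ i, (dd.1 * (swap a b * swap c d) * dd.1) i =
      (x9.1 ^ n.1 * (swap a b * swap c d) * (x9.1⁻¹) ^ n.1) i) →
    (∃ i, (swap a b * swap c d) i ≠ i) →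
    ∃ k, ∀ i, (u9 k).1 i = (swap a b * swap c d) i := by
  revert a b c d
  decide +kernel

theorem conj_gens :
    (c7 0 1 2 = x9.1) ∧ (∀ k, (u9 k).1 * (u9 k).1 = 1 ∧ (w9 k).1 * (w9 k).1 = 1) ∧
    c7 0 1 6 * c7 0 1 6 = (u9 0).1 * c7 0 1 2 * (u9 0).1 ∧
    c7 0 1 3 = (w9 2).1 * c7 0 1 6 * (w9 2).1 ∧ c7 0 1 4 = (w9 1).1 * c7 0 1 6 * (w9 1).1 ∧
    c7 0 1 5 = (w9 0).1 * c7 0 1 6 * (w9 0).1 := by
  decide +kernel

theorem triple_word : ∀ a b : Fin 7, a ≠ 0 → b ≠ 0 → a ≠ b →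
    ∃ w ∈ words0 a b, ∀ i, w i = c7 0 a b i := by decide +kernel

theorem triple_split : ∀ a b c : Fin 7, a ≠ 0 → b ≠ 0 → c ≠ 0 → a ≠ b → b ≠ c → a ≠ c →
    ∀ i, c7 a b c i = (c7 0 a b * c7 0 b c) i ∨ c7 a b c i = (c7 0 b c * c7 0 a b) i := by
  decide +kernel

end CfsgLib.StructB.CoA9
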