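import Cfsg.Agent.Lib.StructB.CoA9.VPerm
import Mathlib.GroupTheory.Perm.Cycle.Type

/-!
More permutation lemmas: normalisers of `P₉` and generation of `A₇` inside `A₉`.
-/

set_option autoImplicit false
set_option maxRecDepth 20000
set_option synthInstance.maxSize 2000
set_option Elab.async false

namespace CfsgLib.StructB.CoA9

open Subgroup CfsgLib.Trans3.ExtraTwo CfsgLib.ClassK.Conway Equiv

local notation "A9" => alternatingGroup (Fin 9)

theorem p9_facts : x9.1 7 = 7 ∧ x9.1 8 = 8 ∧ y9.1 7 = 7 ∧ y9.1 8 = 8 ∧ t9.1 7 = 7 ∧ t9.1 8 = 8 ∧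
    s9.1 7 = 7 ∧ s9.1 8 = 8 ∧ (∀ k, (u9 k).1 7 = 7 ∧ (u9 k).1 8 = 8) ∧
    ∀ k, (w4 k).1 7 = 7 ∧ (w4 k).1 8 = 8 := by decide +kernel

theorem p9_rels : x9 * y9 = y9 * x9 ∧ t9 * t9 = 1 ∧ t9 * x9 * t9 = x9 * x9 ∧
    t9 * y9 * t9 = y9 * y9 ∧ s9 * s9 = 1 ∧ s9 * x9 * s9 = x9 * x9 ∧ s9 * y9 * s9 = y9 * y9 ∧
    dd * x9 * dd = x9 * x9 ∧ dd * y9 = y9 * dd ∧ x9 ≠ 1 ∧ y9 ≠ 1 := by
  refine ⟨Subtype.ext ?_, Subtype.ext ?_, Subtype.ext ?_, Subtype.ext ?_, Subtype.ext ?_,
    Subtype.ext ?_, Subtype.ext ?_, Subtype.ext ?_, Subtype.ext ?_,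
    fun h => absurd (congrArg (fun a : A9 => a.1 0) h) (by decide +kernel),
    fun h => absurd (congrArg (fun a : A9 => a.1 3) h) (by decide +kernel)⟩ <;> decide +kernel

theorem y9_ne_pow : ∀ i : Fin 3, y9 ≠ x9 ^ i.1 := by
  intro i h
  have h' := congrArg (fun a : A9 => a.1 3) h
  revert h'
  revert i
  decide +kernel

theorem cf_commY : ∀ k, cf k * y9 = y9 * cf k := fun k =>
  Subtype.ext (Equiv.ext ((by decide +kernel : ∀ k i, (cf k * y9).1 i = (y9 * cf k).1 i) k))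

theorem w4_commX : ∀ k, w4 k * x9 = x9 * w4 k ∧ w4 k * dd = dd * w4 k := fun k =>
  ⟨Subtype.ext (Equiv.ext ((by decide +kernel : ∀ k i, (w4 k * x9).1 i = (x9 * w4 k).1 i) k)),
    Subtype.ext (Equiv.ext ((by decide +kernel : ∀ k i, (w4 k * dd).1 i = (dd * w4 k).1 i) k))⟩

theorem u9_rels : ∀ k, (∃ l, x9 * u9 k * x9⁻¹ = u9 l) ∧
    u9 k * (x9 * u9 k * x9⁻¹) = x9 * (x9 * u9 k * x9⁻¹) * x9⁻¹ ∧
    (∃ n : Fin 3, dd * u9 k * dd = x9 ^ n.1 * u9 k * x9⁻¹ ^ n.1) ∧ u9 k * y9 = y9 * u9 k ∧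
    u9 k * u9 k = 1 ∧ u9 k ≠ 1 := by
  intro k
  refine ⟨?_, Subtype.ext (Equiv.ext ?_), ?_, Subtype.ext (Equiv.ext ?_), Subtype.ext (Equiv.ext ?_),
    fun h => ?_⟩
  · obtain ⟨l, hl⟩ := (by decide +kernel :
      ∀ k, ∃ l, ∀ i, (x9 * u9 k * x9⁻¹).1 i = (u9 l).1 i) k
    exact ⟨l, Subtype.ext (Equiv.ext hl)⟩
  · exact (by decide +kernel : ∀ k i,
      (u9 k * (x9 * u9 k * x9⁻¹)).1 i = (x9 * (x9 * u9 k * x9⁻¹) * x9⁻¹).1 i) k
  · obtain ⟨n, hn⟩ := (by decide +kernel : ∀ k, ∃ n : Fin 3, ∀ i,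
      (dd * u9 k * dd).1 i = (x9.1 ^ n.1 * (u9 k).1 * x9.1⁻¹ ^ n.1) i) k
    exact ⟨n, Subtype.ext (Equiv.ext fun i => by rw [hn]; simp [SubmonoidClass.coe_pow])⟩
  · exact (by decide +kernel : ∀ k i, (u9 k * y9).1 i = (y9 * u9 k).1 i) k
  · exact (by decide +kernel : ∀ k i, (u9 k * u9 k).1 i = (1 : A9).1 i) k
  · obtain ⟨i, hi⟩ := (by decide +kernel : ∀ k, ∃ i, (u9 k).1 i ≠ i) k
    exact hi (by rw [h]; rfl)

theorem orbit3_hits : ∀ k l : Fin 3,
    (u9 k = u9 l ∨ x9 * u9 l * x9⁻¹ = u9 k ∨ x9 * (x9 * u9 l * x9⁻¹) * x9⁻¹ = u9 k) ∧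
    (w9 k = w9 l ∨ y9 * w9 l * y9⁻¹ = w9 k ∨ y9 * (y9 * w9 l * y9⁻¹) * y9⁻¹ = w9 k) := by
  intro k l
  obtain ⟨h1, h2⟩ := (by decide +kernel : ∀ k l : Fin 3,
    ((∀ i, (u9 k).1 i = (u9 l).1 i) ∨ (∀ i, (x9 * u9 l * x9⁻¹).1 i = (u9 k).1 i) ∨
      (∀ i, (x9 * (x9 * u9 l * x9⁻¹) * x9⁻¹).1 i = (u9 k).1 i)) ∧
    ((∀ i, (w9 k).1 i = (w9 l).1 i) ∨ (∀ i, (y9 * w9 l * y9⁻¹).1 i = (w9 k).1 i) ∨
      (∀ i, (y9 * (y9 * w9 l * y9⁻¹) * y9⁻¹).1 i = (w9 k).1 i))) k l
  refine ⟨?_, ?_⟩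
  · rcases h1 with h | h | h
    exacts [Or.inl (Subtype.ext (Equiv.ext h)), Or.inr (Or.inl (Subtype.ext (Equiv.ext h))),
      Or.inr (Or.inr (Subtype.ext (Equiv.ext h)))]
  · rcases h2 with h | h | h
    exacts [Or.inl (Subtype.ext (Equiv.ext h)), Or.inr (Or.inl (Subtype.ext (Equiv.ext h))),
      Or.inr (Or.inr (Subtype.ext (Equiv.ext h)))]

/-- An even permutation fixing all but two points is trivial. -/
theorem eq_one_of_two {s : A9} {a b : Fin 9} (h : ∀ i, i ≠ a → i ≠ b → s.1 i = i) : s = 1 := by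
  classical
  have hsub : s.1.support ⊆ {a, b} := fun i hi => by
    by_contra hn
    simp only [Finset.mem_insert, Finset.mem_singleton, not_or] at hn
    exact (Perm.mem_support.1 hi) (h i hn.1 hn.2)
  have hle : s.1.support.card ≤ 2 := (Finset.card_le_card hsub).trans Finset.card_le_two
  refine Subtype.ext ?_
  by_contra hne
  have h2 : s.1.support.card = 2 := by
    have h1 : ¬ s.1.support.card ≤ 1 := fun h => hne (Perm.card_support_le_one.1 h)
    omega
  have := (Perm.card_support_eq_two.1 h2).sign_eq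
  rw [Perm.mem_alternatingGroup.1 s.2] at this
  exact absurd this (by decide)

/-- The elements normalising `⟨(012)⟩ × ⟨(345)⟩` and centralising `(012)`, or `(012)(345)`, centralise it. -/
theorem cent_norm_P9 {l : A9} {c : A9} (h78 : l.1 7 = 7 ∧ l.1 8 = 8) (hc : l * c = c * l)
    (hcase : c = x9 ∨ c = x9 * y9)
    (hx : ∃ j k : Fin 3, l * x9 * l⁻¹ = x9 ^ j.1 * y9 ^ k.1)
    (hy : ∃ j k : Fin 3, l * y9 * l⁻¹ = x9 ^ j.1 * y9 ^ k.1) :
    l * x9 = x9 * l ∧ l * y9 = y9 * l := by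
  classical
  obtain ⟨j, k, hx⟩ := hx
  obtain ⟨j', k', hy⟩ := hy
  have hfc : ∀ a : A9, (Finset.univ.filter fun i => (l * a * l⁻¹).1 i = i).card =
      (Finset.univ.filter fun i => a.1 i = i).card := fun a => by
    refine (Finset.card_bij (fun i _ => l.1 i) ?_ (fun _ _ _ _ h => l.1.injective h) ?_).symm
    · intro i hi
      simp only [Finset.mem_filter, Finset.mem_univ, true_and] at hi ⊢
      show l.1 (a.1 (l.1.symm (l.1 i))) = l.1 i
      rw [Equiv.symm_apply_apply, hi]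
    · intro i hi
      simp only [Finset.mem_filter, Finset.mem_univ, true_and] at hi ⊢
      refine ⟨l.1.symm i, ?_, Equiv.apply_symm_apply _ _⟩
      exact l.1.injective (by rw [Equiv.apply_symm_apply]; exact hi)
  have key : ∀ j k : Fin 3, (Finset.univ.filter fun i => (x9 ^ j.1 * y9 ^ k.1).1 i = i).card =
      (Finset.univ.filter fun i => x9.1 i = i).card →
      (j, k) ∈ [((1 : Fin 3), (0 : Fin 3)), (2, 0), (0, 1), (0, 2)] := by decide +kernel
  have hsame : (Finset.univ.filter fun i => x9.1 i = i).card =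
      (Finset.univ.filter fun i => y9.1 i = i).card := by decide +kernel
  have hj := key j k (by rw [← hx, hfc])
  have hj' := key j' k' (by rw [← hy, hfc, hsame])
  obtain ⟨hxy, -⟩ := p9_rels
  have hcomm : ∀ a : A9, l * a * l⁻¹ = a → l * a = a * l := fun a h => mul_inv_eq_iff_eq_mul.1 h
  rcases hcase with rfl | rfl
  · refine ⟨hc, ?_⟩
    simp only [List.mem_cons, List.mem_singleton, Prod.mk.injEq, List.not_mem_nil, or_false] at hj'
    rcases hj' with ⟨rfl, rfl⟩ | ⟨rfl, rfl⟩ | ⟨rfl, rfl⟩ | ⟨rfl, rfl⟩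
    · simp only [Fin.val_one, pow_one, Fin.val_zero, pow_zero, mul_one] at hy
      have : y9 = x9 ^ (1 : Fin 3).1 := by
        calc y9 = l⁻¹ * (l * y9 * l⁻¹) * l := by group
          _ = x9 := by rw [hy, mul_assoc, ← hc, inv_mul_cancel_left]
          _ = _ := by simp
      exact absurd this (y9_ne_pow 1)
    · simp only [Fin.val_two, Fin.val_zero, pow_zero, mul_one] at hy
      have : y9 = x9 ^ (2 : Fin 3).1 := by
        calc y9 = l⁻¹ * (l * y9 * l⁻¹) * l := by group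
          _ = x9 ^ 2 := by
              rw [hy, mul_assoc, ← ((show Commute l x9 from hc).pow_right 2).eq, inv_mul_cancel_left]
      exact absurd this (y9_ne_pow 2)
    · exact hcomm _ (by rw [hy]; simp)
    · exfalso
      simp only [Fin.val_two, Fin.val_zero, pow_zero, one_mul] at hy
      have h1 : ∀ i, l.1 (x9.1 i) = x9.1 (l.1 i) := fun i =>
        congrArg (fun q : Perm (Fin 9) => q i) (congrArg Subtype.val hc)
      have h2 : ∀ i, l.1 (y9.1 i) = y9.1 (y9.1 (l.1 i)) := fun i => by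
        have := congrArg (fun q : Perm (Fin 9) => q i) (congrArg Subtype.val (mul_inv_eq_iff_eq_mul.1 hy))
        simpa [pow_two] using this
      exact no_inverter h78 h1 h2
  · simp only [List.mem_cons, List.mem_singleton, Prod.mk.injEq, List.not_mem_nil, or_false] at hj
    have hy' : l * y9 * l⁻¹ = (x9 ^ j.1 * y9 ^ k.1)⁻¹ * (x9 * y9) := by
      rw [← hx]
      calc l * y9 * l⁻¹ = (l * x9 * l⁻¹)⁻¹ * (l * (x9 * y9) * l⁻¹) := by group
        _ = _ := by rw [hc, mul_inv_cancel_right]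
    have key2 : ∀ j k : Fin 3, (Finset.univ.filter fun i =>
        ((x9 ^ j.1 * y9 ^ k.1)⁻¹ * (x9 * y9)).1 i = i).card =
      (Finset.univ.filter fun i => x9.1 i = i).card →
      (j, k) ∈ [((1 : Fin 3), (0 : Fin 3)), (0, 1), (1, 2), (2, 1)] := by decide +kernel
    have hj2 := key2 j k (by rw [← hy', hfc, hsame])
    simp only [List.mem_cons, List.mem_singleton, Prod.mk.injEq, List.not_mem_nil, or_false] at hj2
    rcases hj2 with ⟨rfl, rfl⟩ | ⟨rfl, rfl⟩ | ⟨rfl, rfl⟩ | ⟨rfl, rfl⟩ <;>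
      try (exact absurd hj (by decide))
    · have e : l * x9 * l⁻¹ = x9 := by rw [hx]; simp
      refine ⟨hcomm _ e, hcomm _ ?_⟩
      rw [hy']; simp
    · exfalso
      have e : l * x9 * l⁻¹ = y9 := by rw [hx]; simp
      have e' : l * y9 * l⁻¹ = x9 := by rw [hy', hxy]; simp
      refine no_swap h78 (fun i => ?_) fun i => ?_
      · have := congrArg (fun q : Perm (Fin 9) => q i) (congrArg Subtype.val (mul_inv_eq_iff_eq_mul.1 e))
        simpa using this
      · have := congrArg (fun q : Perm (Fin 9) => q i) (congrArg Subtype.val (mul_inv_eq_iff_eq_mul.1 e'))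
        simpa using this
where
  /-- Nothing even centralises `(012)` and inverts `(345)`. -/
  no_inverter {l : A9} (h78 : l.1 7 = 7 ∧ l.1 8 = 8) (h1 : ∀ i, l.1 (x9.1 i) = x9.1 (l.1 i))
      (h2 : ∀ i, l.1 (y9.1 i) = y9.1 (y9.1 (l.1 i))) : False := by
    have hs := Perm.mem_alternatingGroup.1 l.2
    set m : Perm (Fin 9) := swap 4 5 * l.1 with hm
    have hm1 : ∀ i, m (x9.1 i) = x9.1 (m i) := fun i => by
      rw [hm, Perm.mul_apply, Perm.mul_apply, h1]
      exact (by decide +kernel : ∀ j : Fin 9, swap (4 : Fin 9) 5 (x9.1 j) = x9.1 (swap 4 5 j)) _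
    have hm2 : ∀ i, m (y9.1 i) = y9.1 (m i) := fun i => by
      rw [hm, Perm.mul_apply, Perm.mul_apply, h2]
      exact (by decide +kernel : ∀ j : Fin 9,
        swap (4 : Fin 9) 5 (y9.1 (y9.1 j)) = y9.1 (swap 4 5 j)) _
    have hm7 : m 7 = 7 ∧ m 8 = 8 := by
      rw [hm, Perm.mul_apply, Perm.mul_apply, h78.1, h78.2]; decide +kernel
    have := cent_even m hm7 hm1 hm2
    rw [hm, Perm.sign_mul, hs, Perm.sign_swap (by decide)] at this
    exact absurd this (by decide)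
  /-- Nothing even interchanges the two three-cycles. -/
  no_swap {l : A9} (h78 : l.1 7 = 7 ∧ l.1 8 = 8) (h1 : ∀ i, l.1 (x9.1 i) = y9.1 (l.1 i))
      (h2 : ∀ i, l.1 (y9.1 i) = x9.1 (l.1 i)) : False := by
    have hs := Perm.mem_alternatingGroup.1 l.2
    set o : Perm (Fin 9) := swap 0 3 * swap 1 4 * swap 2 5 with ho
    set m : Perm (Fin 9) := o * l.1 with hm
    have hm1 : ∀ i, m (x9.1 i) = x9.1 (m i) := fun i => by
      rw [hm, Perm.mul_apply, Perm.mul_apply, h1]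
      exact (by decide +kernel : ∀ j : Fin 9,
        (swap 0 3 * swap 1 4 * swap 2 5 : Perm (Fin 9)) (y9.1 j) =
          x9.1 ((swap 0 3 * swap 1 4 * swap 2 5 : Perm (Fin 9)) j)) _
    have hm2 : ∀ i, m (y9.1 i) = y9.1 (m i) := fun i => by
      rw [hm, Perm.mul_apply, Perm.mul_apply, h2]
      exact (by decide +kernel : ∀ j : Fin 9,
        (swap 0 3 * swap 1 4 * swap 2 5 : Perm (Fin 9)) (x9.1 j) =
          y9.1 ((swap 0 3 * swap 1 4 * swap 2 5 : Perm (Fin 9)) j)) _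
    have hm7 : m 7 = 7 ∧ m 8 = 8 := by
      rw [hm, ho, Perm.mul_apply, Perm.mul_apply (_ * _) l.1, h78.1, h78.2]; decide +kernel
    have := cent_even m hm7 hm1 hm2
    rw [hm, ho, Perm.sign_mul, Perm.sign_mul, Perm.sign_mul, hs, Perm.sign_swap (by decide),
      Perm.sign_swap (by decide), Perm.sign_swap (by decide)] at this
    exact absurd this (by decide)
  /-- The centraliser of both three-cycles on the seven points is even. -/
  cent_even (m : Perm (Fin 9)) (h78 : m 7 = 7 ∧ m 8 = 8) (h1 : ∀ i, m (x9.1 i) = x9.1 (m i))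
      (h2 : ∀ i, m (y9.1 i) = y9.1 (m i)) : Perm.sign m = 1 := by
    have k0 : ∀ a b : Fin 9, (∀ i : Fin 9, y9.1 i = i → x9.1 i ≠ i → y9.1 a = a) → x9.1 a ≠ a →
      x9.1 b ≠ b → ∃ i : Fin 3, b = (x9.1 ^ i.1) a := fun a b _ ha hb => (orbit_gen a).2.2.1 b ha hb
    have hxm : x9.1 (m 0) ≠ m 0 := fun h => by
      rw [← h1] at h
      exact absurd (m.injective h) (by decide +kernel)
    have hym : y9.1 (m 3) ≠ m 3 := fun h => by
      rw [← h2] at h
      exact absurd (m.injective h) (by decide +kernel)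
    obtain ⟨i, hi⟩ := (orbit_gen (m 0)).1 hxm
    obtain ⟨j, hj⟩ := (orbit_gen (m 3)).2.1 hym
    set π : Perm (Fin 9) := x9.1 ^ i.1 * y9.1 ^ j.1 with hπ
    have hgen : ∀ r : Fin 9, r = 6 ∨ r = 7 ∨ r = 8 ∨ (∃ a : Fin 3, r = (x9.1 ^ a.1) 0) ∨
        ∃ a : Fin 3, r = (y9.1 ^ a.1) 3 := by decide +kernel
    have hpx : ∀ (a : ℕ) r, m ((x9.1 ^ a) r) = (x9.1 ^ a) (m r) := by
      intro a r
      induction a with
      | zero => simp
      | succ a ih => rw [pow_succ', Perm.mul_apply, h1, ih, Perm.mul_apply]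
    have hpy : ∀ (a : ℕ) r, m ((y9.1 ^ a) r) = (y9.1 ^ a) (m r) := by
      intro a r
      induction a with
      | zero => simp
      | succ a ih => rw [pow_succ', Perm.mul_apply, h2, ih, Perm.mul_apply]
    have hm6 : m 6 = 6 := by
      have hx6 : x9.1 (m 6) = m 6 := by rw [← h1]; exact congrArg m (by decide +kernel)
      have hy6 : y9.1 (m 6) = m 6 := by rw [← h2]; exact congrArg m (by decide +kernel)
      rcases (by decide +kernel : ∀ r : Fin 9, x9.1 r = r → y9.1 r = r → r = 6 ∨ r = 7 ∨ r = 8) _ hx6 hy6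
        with h | h | h
      · exact h
      · exact absurd (m.injective (h.trans h78.1.symm)) (by decide)
      · exact absurd (m.injective (h.trans h78.2.symm)) (by decide)
    have hmπ : m = π := Equiv.ext fun r => by
      have hπ78 : ∀ i j : Fin 3, (x9.1 ^ i.1 * y9.1 ^ j.1) 6 = 6 ∧
          (x9.1 ^ i.1 * y9.1 ^ j.1) 7 = 7 ∧ (x9.1 ^ i.1 * y9.1 ^ j.1) 8 = 8 := by decide +kernel
      rcases hgen r with rfl | rfl | rfl | ⟨a, rfl⟩ | ⟨a, rfl⟩
      · rw [hπ, (hπ78 i j).1, hm6]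
      · rw [hπ, (hπ78 i j).2.1, h78.1]
      · rw [hπ, (hπ78 i j).2.2, h78.2]
      · rw [hpx, hi, hπ]
        exact (by decide +kernel : ∀ a i j : Fin 3, (x9.1 ^ a.1) ((x9.1 ^ i.1) 0) =
          (x9.1 ^ i.1 * y9.1 ^ j.1) ((x9.1 ^ a.1) 0)) a i j
      · rw [hpy, hj, hπ]
        exact (by decide +kernel : ∀ a i j : Fin 3, (y9.1 ^ a.1) ((y9.1 ^ j.1) 3) =
          (x9.1 ^ i.1 * y9.1 ^ j.1) ((y9.1 ^ a.1) 3)) a i j
    rw [hmπ, hπ, Perm.sign_mul, map_pow, map_pow, Perm.mem_alternatingGroup.1 x9.2,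
      Perm.mem_alternatingGroup.1 y9.2, one_pow, one_pow, one_mul]

/-- A subgroup of `A₉` containing the two four-groups and `(012)` contains `A₇`. -/
theorem gen_seven (X : Subgroup A9) (hx : x9 ∈ X) (hu : ∀ k, u9 k ∈ X) (hw : ∀ k, w9 k ∈ X)
    (a : alternatingGroup (Fin 7)) : e79 a ∈ X := by
  classical
  let Y : Subgroup (Perm (Fin 9)) := X.map (alternatingGroup (Fin 9)).subtype
  have hY : ∀ {g : A9}, g ∈ X → g.1 ∈ Y := fun h => ⟨_, h, rfl⟩
  obtain ⟨h012, hinv, h016, h013, h014, h015⟩ := conj_gens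
  have g2 : g01 2 ∈ Y := by rw [g01, h012]; exact hY hx
  have g6sq : g01 6 * g01 6 ∈ Y := by
    rw [g01, h016]; exact mul_mem (mul_mem (hY (hu 0)) g2) (hY (hu 0))
  have g6 : g01 6 ∈ Y := by
    have h4 : (g01 6 * g01 6) * (g01 6 * g01 6) = g01 6 := by decide +kernel
    rw [← h4]; exact mul_mem g6sq g6sq
  have g3 : g01 3 ∈ Y := by rw [g01, h013]; exact mul_mem (mul_mem (hY (hw 2)) g6) (hY (hw 2))
  have g4 : g01 4 ∈ Y := by rw [g01, h014]; exact mul_mem (mul_mem (hY (hw 1)) g6) (hY (hw 1))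
  have g5 : g01 5 ∈ Y := by rw [g01, h015]; exact mul_mem (mul_mem (hY (hw 0)) g6) (hY (hw 0))
  have hg : ∀ i, i ≠ 1 → g01 i ∈ Y := by
    intro i hi
    rcases (by decide : ∀ i : Fin 7, i = 0 ∨ i = 1 ∨ i = 2 ∨ i = 3 ∨ i = 4 ∨ i = 5 ∨ i = 6) i with
      rfl | rfl | rfl | rfl | rfl | rfl | rfl
    · rw [show g01 0 = 1 by decide +kernel]; exact one_mem _
    · exact absurd rfl hi
    all_goals assumption
  have h0 : ∀ a b : Fin 7, a ≠ 0 → b ≠ 0 → a ≠ b → c7 0 a b ∈ Y := by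
    intro a b ha hb hab
    by_cases ha1 : a = 1
    · subst ha1; exact hg b (Ne.symm hab)
    by_cases hb1 : b = 1
    · subst hb1
      rw [Equiv.ext ((by decide +kernel : ∀ a : Fin 7, a ≠ 0 → a ≠ 1 →
        ∀ i, c7 0 a 1 i = (g01 a * g01 a) i) a ha ha1)]
      exact mul_mem (hg a ha1) (hg a ha1)
    obtain ⟨w, hwm, hwe⟩ := triple_word a b ha hb hab
    rw [← Equiv.ext hwe]
    simp only [words0, List.mem_cons, List.not_mem_nil, or_false] at hwm
    have A := hg a ha1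
    have B := hg b hb1
    rcases hwm with rfl | rfl | rfl | rfl | rfl | rfl | rfl | rfl | rfl | rfl
    exacts [A, B, mul_mem A A, mul_mem B B, mul_mem (mul_mem A B) B, mul_mem (mul_mem B B) A,
      mul_mem (mul_mem B A) A, mul_mem (mul_mem A A) B, mul_mem (mul_mem B A) (mul_mem B B),
      mul_mem (mul_mem A B) (mul_mem A A)]
  have hrot : ∀ a b c : Fin 7, a ≠ b → b ≠ c → a ≠ c → c7 a b c = c7 b c a := by
    intro a b c h1 h2 h3
    exact Equiv.ext ((by decide +kernel : ∀ a b c : Fin 7, a ≠ b → b ≠ c → a ≠ c →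
      ∀ i, c7 a b c i = c7 b c a i) a b c h1 h2 h3)
  have hall : ∀ a b c : Fin 7, a ≠ b → b ≠ c → a ≠ c → c7 a b c ∈ Y := by
    intro a b c h1 h2 h3
    by_cases ha : a = 0
    · subst ha; exact h0 b c (Ne.symm h1) (Ne.symm h3) h2
    by_cases hb : b = 0
    · subst hb; rw [hrot a 0 c h1 h2 h3]; exact h0 c a (Ne.symm h2) ha (Ne.symm h3)
    by_cases hc : c = 0
    · subst hc
      rw [hrot a b 0 h1 h2 h3, hrot b 0 a h2 (Ne.symm h3) (Ne.symm h1)]
      exact h0 a b ha hb h1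
    · have hsp := triple_split a b c ha hb hc h1 h2 h3
      have key : ∀ a b c : Fin 7, a ≠ 0 → b ≠ 0 → c ≠ 0 → a ≠ b → b ≠ c → a ≠ c →
          (∀ i, c7 a b c i = (c7 0 a b * c7 0 b c) i) ∨ (∀ i, c7 a b c i = (c7 0 b c * c7 0 a b) i) := by
        decide +kernel
      rcases key a b c ha hb hc h1 h2 h3 with h | h <;> rw [Equiv.ext h]
      · exact mul_mem (h0 a b ha hb h1) (h0 b c hb hc h2)
      · exact mul_mem (h0 b c hb hc h2) (h0 a b ha hb h1)
  have hle : (alternatingGroup (Fin 7)) ≤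
      (Y.comap (Perm.viaEmbeddingHom i79) : Subgroup (Perm (Fin 7))) := by
    rw [← Perm.closure_three_cycles_eq_alternating, closure_le]
    intro σ hσ
    obtain ⟨r, hr⟩ : ∃ r, σ r ≠ r := by
      by_contra hcon
      push Not at hcon
      have h1 : σ = 1 := Equiv.ext hcon
      subst h1
      exact hσ.ne_one rfl
    have ho : σ ^ 3 = 1 := hσ.orderOf ▸ pow_orderOf_eq_one σ
    have h3 : σ (σ (σ r)) = r := by
      have := congrArg (fun q : Perm (Fin 7) => q r) ho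
      simpa [pow_succ, Perm.mul_apply] using this
    have d1 : r ≠ σ r := Ne.symm hr
    have d2 : σ r ≠ σ (σ r) := fun h => hr (σ.injective h).symm
    have d3 : r ≠ σ (σ r) := fun h => hr (by
      have := congrArg σ h; rw [h3] at this; exact this)
    have hsupp : σ.support = {r, σ r, σ (σ r)} := by
      refine (Finset.eq_of_subset_of_card_le ?_ ?_).symm
      · intro i hi
        simp only [Finset.mem_insert, Finset.mem_singleton] at hi
        rcases hi with rfl | rfl | rfl <;> rw [Perm.mem_support]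
        · exact hr
        · exact d2.symm
        · exact fun h => d2 (σ.injective h.symm)
      · rw [hσ.card_support, Finset.card_insert_of_notMem, Finset.card_pair d2]
        simp [d1, d3]
    have hσe : σ = swap r (σ r) * swap (σ r) (σ (σ r)) := Equiv.ext fun i => by
      by_cases hi : i ∈ σ.support
      · rw [hsupp] at hi
        simp only [Finset.mem_insert, Finset.mem_singleton] at hi
        rcases hi with rfl | rfl | rfl
        · rw [Perm.mul_apply, swap_apply_of_ne_of_ne d1 d3, swap_apply_left]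
        · rw [Perm.mul_apply, swap_apply_left, swap_apply_of_ne_of_ne d3.symm d2.symm]
        · rw [Perm.mul_apply, swap_apply_right, swap_apply_right, h3]
      · rw [Perm.notMem_support.1 hi]
        rw [hsupp] at hi
        simp only [Finset.mem_insert, Finset.mem_singleton, not_or] at hi
        rw [Perm.mul_apply, swap_apply_of_ne_of_ne hi.2.1 hi.2.2, swap_apply_of_ne_of_ne hi.1 hi.2.1]
    show Perm.viaEmbeddingHom i79 σ ∈ Y
    have := hall r (σ r) (σ (σ r)) d1 d2 d3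
    convert this using 1
    conv_lhs => rw [hσe]
    refine Equiv.ext fun x => ?_
    rw [via_eq]
    exact (by decide +kernel : ∀ a b c : Fin 7, a ≠ b → b ≠ c → a ≠ c → ∀ x : Fin 9,
      (swap a b * swap b c).viaFintypeEmbedding i79 x = c7 a b c x) r _ _ d1 d2 d3 x
  obtain ⟨g, hg', hge⟩ := hle a.2
  have : e79 a = g := Subtype.ext (by
    show a.1.viaFintypeEmbedding i79 = g.1
    refine Equiv.ext fun x => ?_
    rw [← via_eq]; exact congrArg (fun q : Perm (Fin 9) => q x) hge.symm)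
  rw [this]; exact hg'
where
  /-- The two embeddings agree. -/
  via_eq (σ : Perm (Fin 7)) (x : Fin 9) :
      Perm.viaEmbeddingHom i79 σ x = σ.viaFintypeEmbedding i79 x := by
    by_cases hx : x ∈ Set.range i79
    · obtain ⟨i, rfl⟩ := hx
      rw [Perm.viaFintypeEmbedding_apply_image]
      exact Perm.viaEmbedding_apply σ i79 i
    · rw [Perm.viaFintypeEmbedding_apply_notMem_range _ _ hx]
      exact Perm.viaEmbedding_apply_of_notMem σ i79 x hx

end CfsgLib.StructB.CoA9
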