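import Cfsg.Agent.Lib.StructB.CoA9.VPermTwo
import Cfsg.Agent.Lib.Coprime.Generation
import Mathlib.GroupTheory.Transfer
import Mathlib.GroupTheory.Nilpotent
import Mathlib.GroupTheory.Perm.Cycle.Type

/-!
The centralisers of the elements of order three in `C(v)` lie in `⟨v⟩ × A₇`, granted
`C(v) ∩ C(P₉) = ⟨v⟩ × P₉`.
-/

set_option autoImplicit false
set_option maxRecDepth 20000
set_option synthInstance.maxSize 2000
set_option Elab.async false

namespace CfsgLib.StructB.CoA9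

open Subgroup CfsgLib.Trans3.ExtraTwo CfsgLib.ClassK.Conway Equiv

local notation "A9" => alternatingGroup (Fin 9)

theorem p9_pow_comm (a b : ℕ) : x9 ^ a * y9 ^ b = y9 ^ b * x9 ^ a :=
  ((show Commute x9 y9 from p9_rels.1).pow_pow a b).eq

/-- The subgroup `⟨(012)⟩ × ⟨(345)⟩` of `A₉`. -/
def P9a : Subgroup A9 where
  carrier := {a | ∃ j k : ℕ, a = x9 ^ j * y9 ^ k}
  one_mem' := ⟨0, 0, by simp⟩
  mul_mem' := by
    rintro _ _ ⟨j, k, rfl⟩ ⟨j', k', rfl⟩
    refine ⟨j + j', k + k', ?_⟩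
    rw [pow_add, pow_add]
    calc x9 ^ j * y9 ^ k * (x9 ^ j' * y9 ^ k') = x9 ^ j * (y9 ^ k * x9 ^ j') * y9 ^ k' := by group
      _ = x9 ^ j * x9 ^ j' * (y9 ^ k * y9 ^ k') := by rw [← p9_pow_comm]; group
  inv_mem' := by
    rintro _ ⟨j, k, rfl⟩
    refine ⟨2 * j, 2 * k, inv_eq_of_mul_eq_one_right ?_⟩
    calc x9 ^ j * y9 ^ k * (x9 ^ (2 * j) * y9 ^ (2 * k))
        = x9 ^ j * (y9 ^ k * x9 ^ (2 * j)) * y9 ^ (2 * k) := by group
      _ = (x9 ^ j * x9 ^ (2 * j)) * (y9 ^ k * y9 ^ (2 * k)) := by rw [← p9_pow_comm]; group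
      _ = 1 := by
          rw [← pow_add, ← pow_add, show j + 2 * j = 3 * j by ring, show k + 2 * k = 3 * k by ring,
            pow_mul, pow_mul, x9_cube.1, x9_cube.2.1, one_pow, one_pow, one_mul]

theorem x9_mem_P9a : x9 ∈ P9a := ⟨1, 0, by simp⟩

theorem y9_mem_P9a : y9 ∈ P9a := ⟨0, 1, by simp⟩

theorem mem_P9a {a : A9} (h : a ∈ P9a) : ∃ j k : Fin 3, a = x9 ^ j.1 * y9 ^ k.1 := by
  obtain ⟨j, k, rfl⟩ := h
  refine ⟨⟨j % 3, Nat.mod_lt _ (by norm_num)⟩, ⟨k % 3, Nat.mod_lt _ (by norm_num)⟩, ?_⟩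
  show x9 ^ j * y9 ^ k = x9 ^ (j % 3) * y9 ^ (k % 3)
  rw [← pow_eq_pow_mod j x9_cube.1, ← pow_eq_pow_mod k x9_cube.2.1]

theorem P9a_cube {a : A9} (h : a ∈ P9a) : a ^ 3 = 1 := by
  obtain ⟨j, k, rfl⟩ := h
  rw [((show Commute x9 y9 from p9_rels.1).pow_pow j k).mul_pow, ← pow_mul, ← pow_mul,
    mul_comm j, mul_comm k, pow_mul, pow_mul, x9_cube.1, x9_cube.2.1, one_pow, one_pow, one_mul]

theorem P9a_conj_t {a : A9} (h : a ∈ P9a) : t9 * a * t9⁻¹ = a⁻¹ := by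
  obtain ⟨h1, h2, h3, h4, -⟩ := p9_rels
  have hti : t9⁻¹ = t9 := inv_eq_of_mul_eq_one_right h2
  obtain ⟨j, k, rfl⟩ := h
  have e3 : t9 * x9 * t9⁻¹ = x9 ^ 2 := by rw [hti, h3, pow_two]
  have e4 : t9 * y9 * t9⁻¹ = y9 ^ 2 := by rw [hti, h4, pow_two]
  refine eq_inv_of_mul_eq_one_left ?_
  calc t9 * (x9 ^ j * y9 ^ k) * t9⁻¹ * (x9 ^ j * y9 ^ k)
      = (t9 * x9 * t9⁻¹) ^ j * (t9 * y9 * t9⁻¹) ^ k * (x9 ^ j * y9 ^ k) := by
        rw [conj_pow, conj_pow]; group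
    _ = x9 ^ (2 * j) * (y9 ^ (2 * k) * x9 ^ j) * y9 ^ k := by
        rw [e3, e4, ← pow_mul, ← pow_mul]; group
    _ = (x9 ^ (2 * j) * x9 ^ j) * (y9 ^ (2 * k) * y9 ^ k) := by rw [← p9_pow_comm]; group
    _ = 1 := by
        rw [← pow_add, ← pow_add, show 2 * j + j = 3 * j by ring, show 2 * k + k = 3 * k by ring,
          pow_mul, pow_mul, x9_cube.1, x9_cube.2.1, one_pow, one_pow, one_mul]

universe u

variable {G : Type u} [Group G] [Finite G] {z : G} {Q : Subgroup G} {e : ↥Q ≃* ES 4 (ff 4)} {ρ : G}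
variable {T : Tri z Q e ρ} {v : G} {pt : Fin 9 → G} {θ : ↥(RR e ρ) ≃* A9}

/-- The centraliser in `C(v)` lies in `⟨v⟩ × A₇`. -/
def Good (T : Tri z Q e ρ) (v c : G) : Prop :=
  ∀ g : G, g * v = v * g → g * c = c * g → g ∈ HH T v

/-- `C(v) ∩ C(P₉) = ⟨v⟩ × P₉`. -/
def PNineFact (θ : ↥(RR e ρ) ≃* A9) (v : G) : Prop :=
  ∀ g : G, g * v = v * g → g * em θ x9 = em θ x9 * g → g * em θ y9 = em θ y9 * g →
    ∃ i j k : ℕ, g = v ^ i * em θ x9 ^ j * em θ y9 ^ k

/-- The subgroup `⟨(012)⟩ × ⟨(345)⟩` of `G`. -/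
noncomputable def P9 (θ : ↥(RR e ρ) ≃* A9) : Subgroup G := P9a.map (em θ)

theorem em_comm {a b : A9} (h : a * b = b * a) : Commute (em θ a) (em θ b) := by
  show em θ a * em θ b = em θ b * em θ a
  rw [← map_mul, ← map_mul, h]

/-- `⟨ρ⟩` meets `R` trivially. -/
theorem rho_pow_R (T : Tri z Q e ρ) {i : ℕ} (h : ρ ^ i ∈ RR e ρ) : ρ ^ i = 1 := by
  by_contra hne
  have hc : Commute (ρ ^ i) (qe e) := (mem_RR.1 h).1
  have hi : i % 3 = 1 ∨ i % 3 = 2 := by
    have : i % 3 ≠ 0 := fun h0 => hne (by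
      rw [← Nat.mod_add_div i 3, h0, zero_add, pow_mul, pow_succ, pow_two, T.rho3, one_pow])
    omega
  refine qe_not_comm_rho T ?_
  have e1 : ρ ^ i = ρ ^ (i % 3) := pow_eq_pow_mod i (by rw [pow_succ, pow_two, T.rho3])
  rcases hi with h' | h' <;> rw [e1, h'] at hc
  · rw [pow_one] at hc; exact hc.eq.symm
  · have h4 : (ρ ^ 2) ^ 2 = ρ := by
      rw [← pow_mul, show 2 * 2 = 3 + 1 from rfl, pow_succ, pow_succ, pow_two, T.rho3, one_mul]
    have := hc.pow_left 2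
    rw [h4] at this
    exact this.eq.symm

theorem order_coprime_of_pow_eq {g : G} {n : ℕ} (hn : n.Coprime 3) (h : g ^ n = 1) :
    (orderOf g).Coprime 3 := Nat.Coprime.coprime_dvd_left (orderOf_dvd_of_pow_eq_one h) hn

theorem eq_one_of_coprime_three {g : G} (hn : (orderOf g).Coprime 3) (h : g ^ 3 = 1) : g = 1 :=
  orderOf_eq_one_iff.1 (Nat.eq_one_of_dvd_coprimes hn (dvd_refl _) (orderOf_dvd_of_pow_eq_one h))

theorem orderOf_conj' (w g : G) : orderOf (w * g * w⁻¹) = orderOf g :=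
  orderOf_injective (MulAut.conj w).toMonoidHom (MulAut.conj w).injective g

theorem em_pow_eq_one {a : A9} {n : ℕ} : em θ a ^ n = 1 ↔ a ^ n = 1 := by
  rw [← map_pow, map_eq_one_iff _ em_injective]

namespace Vee

variable (V : Vee T v)
include V

theorem conj_rho_cent {g : G} (hg : g * v = v * g) : ρ * g * ρ⁻¹ * v = v * (ρ * g * ρ⁻¹) := by
  have hv : v = ρ * v ^ 4 * ρ⁻¹ := by
    rw [← conj_pow, V.conj, ← pow_mul, show 2 * 4 = 7 + 1 from rfl, pow_succ, V.pow7, one_mul]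
  calc ρ * g * ρ⁻¹ * v = ρ * g * ρ⁻¹ * (ρ * v ^ 4 * ρ⁻¹) := by rw [← hv]
    _ = ρ * (g * v ^ 4) * ρ⁻¹ := by group
    _ = ρ * (v ^ 4 * g) * ρ⁻¹ := by rw [((show Commute g v from hg).pow_right 4).eq]
    _ = (ρ * v ^ 4 * ρ⁻¹) * (ρ * g * ρ⁻¹) := by group
    _ = v * (ρ * g * ρ⁻¹) := by rw [← hv]

variable (N : Nine T pt θ) (hq : HasOmega z Q) (hP : PNineFact θ v)
include N

theorem em_v {a : A9} (h7 : a.1 7 = 7) (h8 : a.1 8 = 8) : Commute (em θ a) v :=
  V.lamS_comm ((em_mem_LamS N).2 ⟨h7, h8⟩)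

theorem P9_v {g : G} (hg : g ∈ P9 θ) : Commute g v := by
  obtain ⟨a, ⟨j, k, rfl⟩, rfl⟩ := hg
  rw [map_mul, map_pow, map_pow]
  exact ((V.em_v N p9_facts.1 p9_facts.2.1).pow_left j).mul_left
    ((V.em_v N p9_facts.2.2.1 p9_facts.2.2.2.1).pow_left k)

include hP hq

/-- The normaliser of `P₉` in `C(v)`. -/
theorem norm_P9 {n : G} (hn : n * v = v * n) (hnP : ∀ p ∈ P9 θ, n * p * n⁻¹ ∈ P9 θ) :
    n ∈ HH T v := by
  classical
  have hXm : em θ x9 ∈ P9 θ := ⟨_, x9_mem_P9a, rfl⟩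
  have hYm : em θ y9 ∈ P9 θ := ⟨_, y9_mem_P9a, rfl⟩
  have hPr : ∀ p ∈ P9 θ, Commute p ρ := by
    rintro _ ⟨a, -, rfl⟩; exact em_rho a
  -- onto
  have hsur : ∀ p ∈ P9 θ, ∃ p' ∈ P9 θ, n * p' * n⁻¹ = p := by
    intro p hp
    let f : ↥(P9 θ) → ↥(P9 θ) := fun q => ⟨n * q * n⁻¹, hnP q q.2⟩
    have hf : Function.Injective f := fun a b h =>
      Subtype.ext (mul_left_cancel (mul_right_cancel (congrArg Subtype.val h)))
    obtain ⟨p', hp'⟩ := (Finite.injective_iff_surjective.1 hf) ⟨p, hp⟩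
    exact ⟨p', p'.2, congrArg Subtype.val hp'⟩
  set w := ρ * n * ρ⁻¹ * n⁻¹ with hw
  have hwv : w * v = v * w :=
    ((show Commute (ρ * n * ρ⁻¹) v from V.conj_rho_cent hn).mul_left
      (show Commute n v from hn).inv_left).eq
  have hwP : ∀ p ∈ P9 θ, w * p = p * w := by
    intro p hp
    obtain ⟨p', hp', hpp⟩ := hsur p hp
    have h1 : Commute p' ρ := hPr p' hp'
    calc w * p = ρ * n * (ρ⁻¹ * p') * n⁻¹ := by rw [hw, ← hpp]; group
      _ = ρ * (n * p' * n⁻¹) * n * ρ⁻¹ * n⁻¹ := by rw [← h1.inv_right.eq]; group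
      _ = (ρ * p) * n * ρ⁻¹ * n⁻¹ := by rw [hpp]
      _ = p * w := by rw [← (hPr p hp).eq, hw]; group
  obtain ⟨i, j, k, hijk⟩ := hP w hwv (hwP _ hXm) (hwP _ hYm)
  set p := em θ x9 ^ j * em θ y9 ^ k with hp
  have hpP : p ∈ P9 θ := mul_mem (pow_mem hXm j) (pow_mem hYm k)
  rw [mul_assoc, ← hp] at hijk
  set n' := n * v ^ (6 * i) with hn'
  have hnv : ∀ m : ℕ, Commute n (v ^ m) := fun m => (show Commute n v from hn).pow_right m
  have hpv : ∀ m : ℕ, Commute p (v ^ m) := fun m => (V.P9_v N hpP).pow_right m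
  have hρn : ρ * n' * ρ⁻¹ = p * n' := by
    have e1 : ρ * v ^ (6 * i) * ρ⁻¹ = v ^ (12 * i) := by
      rw [← conj_pow, V.conj, ← pow_mul, show 2 * (6 * i) = 12 * i by ring]
    calc ρ * n' * ρ⁻¹ = (ρ * n * ρ⁻¹ * n⁻¹) * n * (ρ * v ^ (6 * i) * ρ⁻¹) := by rw [hn']; group
      _ = v ^ i * (p * n) * v ^ (12 * i) := by rw [e1, ← hw, hijk]; group
      _ = (p * n) * (v ^ i * v ^ (12 * i)) := by
          rw [((hpv i).mul_left (hnv i)).eq.symm]; group
      _ = p * n' := by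
          rw [← pow_add, hn', mul_assoc, V.pow_eq_iff.2 (show (i + 12 * i) % 7 = 6 * i % 7 by omega)]
  have hn'v : n' * v = v * n' :=
    ((show Commute n v from hn).mul_left ((Commute.refl v).pow_left _)).eq
  have hn'P : ∀ q ∈ P9 θ, ∃ q' ∈ P9 θ, n' * q' * n'⁻¹ = q := by
    intro q hq'
    obtain ⟨q', hq'', h⟩ := hsur q hq'
    refine ⟨q', hq'', ?_⟩
    have h2 : Commute q' (v ^ (6 * i)) := (V.P9_v N hq'').pow_right _
    calc n' * q' * n'⁻¹ = n * (v ^ (6 * i) * q') * (v ^ (6 * i))⁻¹ * n⁻¹ := by rw [hn']; group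
      _ = q := by rw [← h2.eq, ← h]; group
  set t := em θ t9 with ht
  have htv : Commute t v := V.em_v N p9_facts.2.2.2.2.1 p9_facts.2.2.2.2.2.1
  have hinv : ∀ q ∈ P9 θ, t * q * t⁻¹ = q⁻¹ := by
    rintro _ ⟨a, ha, rfl⟩
    rw [ht, ← map_inv, ← map_mul, ← map_mul, P9a_conj_t ha, map_inv]
  set w' := n' * t * n'⁻¹ * t⁻¹ with hw'
  have hw'v : w' * v = v * w' :=
    ((((show Commute n' v from hn'v).mul_left htv).mul_left
      (show Commute n' v from hn'v).inv_left).mul_left htv.inv_left).eq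
  have hw'P : ∀ q ∈ P9 θ, w' * q = q * w' := by
    intro q hq'
    obtain ⟨q', hq'', h⟩ := hn'P q hq'
    have e1 : t⁻¹ * q * t = q⁻¹ := by
      have h1 := hinv q⁻¹ (inv_mem hq')
      rw [inv_inv] at h1
      conv_lhs => rw [← h1]
      group
    have e2 : t * q'⁻¹ * t⁻¹ = q' := by rw [hinv _ (inv_mem hq''), inv_inv]
    have e3 : n'⁻¹ * q⁻¹ * n' = q'⁻¹ := by rw [← h]; group
    calc w' * q = n' * t * (n'⁻¹ * (t⁻¹ * q * t) * n') * t⁻¹ * n'⁻¹ * (n' * t * n'⁻¹ * t⁻¹) := by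
          rw [hw']; group
      _ = n' * (t * q'⁻¹ * t⁻¹) * n'⁻¹ * w' := by rw [e1, e3, ← hw']; group
      _ = q * w' := by rw [e2, h]
  obtain ⟨b, j', k', hbjk⟩ := hP w' hw'v (hw'P _ hXm) (hw'P _ hYm)
  set q := em θ x9 ^ j' * em θ y9 ^ k' with hqdef
  have hqP : q ∈ P9 θ := mul_mem (pow_mem hXm j') (pow_mem hYm k')
  rw [mul_assoc, ← hqdef] at hbjk
  have htr : ρ * t * ρ⁻¹ = t := by
    rw [← (em_rho (θ := θ) t9).eq, mul_inv_cancel_right]
  have h1 : ρ * w' * ρ⁻¹ = p * w' * (t * p⁻¹ * t⁻¹) := by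
    calc ρ * w' * ρ⁻¹ = (ρ * n' * ρ⁻¹) * (ρ * t * ρ⁻¹) * (ρ * n' * ρ⁻¹)⁻¹ * (ρ * t * ρ⁻¹)⁻¹ := by
          rw [hw']; group
      _ = p * w' * (t * p⁻¹ * t⁻¹) := by rw [hρn, htr, hw']; group
  have hvb : Commute p (v ^ b) := hpv b
  have hpq : Commute p q := by
    obtain ⟨a, ha, hae⟩ := hpP
    obtain ⟨c, hc, hce⟩ := hqP
    rw [← hae, ← hce]
    obtain ⟨j1, k1, rfl⟩ := ha
    obtain ⟨j2, k2, rfl⟩ := hc
    have hxy : Commute x9 y9 := p9_rels.1
    exact em_comm ((((Commute.refl x9).pow_pow j1 j2).mul_right (hxy.pow_pow j1 k2)).mul_left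
      ((hxy.symm.pow_pow k1 j2).mul_right ((Commute.refl y9).pow_pow k1 k2))).eq
  have h2 : ρ * w' * ρ⁻¹ = v ^ (2 * b) * q := by
    rw [hbjk]
    calc ρ * (v ^ b * q) * ρ⁻¹ = (ρ * v ^ b * ρ⁻¹) * (ρ * q * ρ⁻¹) := by group
      _ = v ^ (2 * b) * q := by
          rw [← conj_pow, V.conj, ← pow_mul, ← (hPr q hqP).eq, mul_inv_cancel_right]
  rw [hinv p⁻¹ (inv_mem hpP), inv_inv, h2, hbjk] at h1
  have hvp : v ^ b = p * p := by
    have h3 : v ^ b * v ^ b * q = v ^ b * (p * p) * q := by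
      rw [← pow_add, show b + b = 2 * b by ring, h1]
      calc p * (v ^ b * q) * p = (p * v ^ b) * (q * p) := by group
        _ = v ^ b * p * (p * q) := by rw [hvb.eq, ← hpq.eq]
        _ = _ := by group
    exact mul_left_cancel (mul_right_cancel h3)
  have hp3 : p ^ 3 = 1 := by
    obtain ⟨a, ha, hae⟩ := hpP
    rw [← hae, em_pow_eq_one]; exact P9a_cube ha
  have hpp : p * p = 1 := by
    refine orderOf_eq_one_iff.1 (Nat.eq_one_of_dvd_coprimes (show Nat.Coprime 7 3 by norm_num) ?_ ?_)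
    · refine orderOf_dvd_of_pow_eq_one ?_
      rw [← hvp, ← pow_mul, mul_comm, pow_mul, V.pow7, one_pow]
    · refine orderOf_dvd_of_pow_eq_one ?_
      rw [← pow_two, ← pow_mul, mul_comm, pow_mul, hp3, one_pow]
  have hp1 : p = 1 := by rwa [pow_succ, pow_two, hpp, one_mul] at hp3
  rw [hp1, one_mul] at hρn
  have hL : n' ∈ LamS T := V.cent_rho N hq hn'v (mul_inv_eq_iff_eq_mul.1 hρn).symm
  refine (mem_HH V).2 ⟨i, n', hL, ?_⟩
  rw [hn', ((hnv _).symm).eq.symm, ← mul_assoc, ← pow_add, show i + 6 * i = 7 * i by ring, pow_mul,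
    V.pow7, one_pow, one_mul]

set_option maxHeartbeats 1200000 in
/-- The reduction to the elements centralising `ρ (345)`. -/
theorem good_of_line {c : A9} (hcase : c = x9 ∨ c = x9 * y9)
    (hline : ∀ S : Subgroup G, (∀ g, g ∈ S ↔ g * v = v * g ∧ g * em θ c = em θ c * g ∧
      g * (ρ * em θ y9) = ρ * em θ y9 * g ∧ (orderOf g).Coprime 3) → S ≤ HH T v) :
    Good T v (em θ c) := by
  classical
  haveI : Fact (Nat.Prime 3) := ⟨by norm_num⟩
  obtain ⟨x7, x8, y7, y8, -, -, s7, s8, -, -⟩ := p9_facts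
  obtain ⟨hxy, -, -, -, hss, hsx, hsy, -, -, hx1, hy1⟩ := p9_rels
  set X := em θ x9
  set Y := em θ y9
  set C := em θ c
  have hc78 : c.1 7 = 7 ∧ c.1 8 = 8 := by
    rcases hcase with rfl | rfl
    · exact ⟨x7, x8⟩
    · exact ⟨by rw [Subgroup.coe_mul, Perm.mul_apply, y7, x7],
        by rw [Subgroup.coe_mul, Perm.mul_apply, y8, x8]⟩
  have hcx : Commute X C := by
    rcases hcase with rfl | rfl
    · exact Commute.refl _
    · exact em_comm (by rw [← mul_assoc, mul_assoc x9 y9, ← hxy, ← mul_assoc])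
  have hcy : Commute Y C := by
    rcases hcase with rfl | rfl
    · exact em_comm hxy.symm
    · exact em_comm (by rw [← mul_assoc, ← hxy, mul_assoc])
  have hXfromY : ∀ g : G, g * C = C * g → g * Y = Y * g → g * X = X * g := by
    intro g h1 h2
    rcases hcase with rfl | rfl
    · exact h1
    · have e : X = C * Y⁻¹ := by
        show em θ x9 = em θ (x9 * y9) * (em θ y9)⁻¹
        rw [map_mul, mul_inv_cancel_right]
      rw [e]
      exact ((show Commute g C from h1).mul_right (show Commute g Y from h2).inv_right).eq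
  set K : Subgroup G := centralizer ({v, C} : Set G) with hK
  have hmemK : ∀ g : G, g ∈ K ↔ g * v = v * g ∧ g * C = C * g := by
    intro g
    rw [hK, mem_centralizer_iff]
    simp only [Set.mem_insert_iff, Set.mem_singleton_iff, forall_eq_or_imp, forall_eq]
    exact ⟨fun h => ⟨h.1.symm, h.2.symm⟩, fun h => ⟨h.1.symm, h.2.symm⟩⟩
  have hXK : X ∈ K := (hmemK _).2 ⟨(V.em_v N x7 x8).eq, hcx.eq⟩
  have hYK : Y ∈ K := (hmemK _).2 ⟨(V.em_v N y7 y8).eq, hcy.eq⟩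
  have hPK : P9 θ ≤ K := by
    rintro _ ⟨a, ⟨j, k, rfl⟩, rfl⟩
    rw [map_mul, map_pow, map_pow]
    exact mul_mem (pow_mem hXK j) (pow_mem hYK k)
  -- normalising `P₉`
  have hnormK : ∀ n ∈ K, (∀ p ∈ P9 θ, n * p * n⁻¹ ∈ P9 θ) → ∃ i : ℕ, ∃ p ∈ P9 θ, n = v ^ i * p := by
    intro n hnK hnP
    obtain ⟨hnv, hnC⟩ := (hmemK n).1 hnK
    obtain ⟨i, l, hl, rfl⟩ := (mem_HH V).1 (V.norm_P9 N hq hP hnv hnP)
    obtain ⟨a, ha, rfl⟩ : ∃ a : A9, (a.1 7 = 7 ∧ a.1 8 = 8) ∧ em θ a = l := by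
      have hlR : l ∈ RR e ρ := by obtain ⟨σ, -, rfl⟩ := hl; exact lam_mem_RR T σ
      exact ⟨θ ⟨l, hlR⟩, (Vee.mem_LamS_iff N (r := ⟨l, hlR⟩)).1 hl, eq_em hlR⟩
    have hvC : Commute (v ^ i) C := ((V.em_v N hc78.1 hc78.2).symm).pow_left i
    have hac : a * c = c * a := by
      refine em_injective (θ := θ) ?_
      rw [map_mul, map_mul]
      have h1 := hvC.inv_left.mul_left (show Commute (v ^ i * em θ a) C from hnC)
      rwa [inv_mul_cancel_left] at h1
    have hsub : ∀ p ∈ P9a, a * p * a⁻¹ ∈ P9a := by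
      intro p hp
      have h1 := hnP _ ⟨p, hp, rfl⟩
      have hpv : Commute (em θ a * em θ p * (em θ a)⁻¹) (v ^ i) := by
        have hav : Commute (em θ a) v := V.em_v N ha.1 ha.2
        exact (((hav.mul_left (V.P9_v N ⟨p, hp, rfl⟩)).mul_left hav.inv_left)).pow_right i
      have h2 : v ^ i * em θ a * em θ p * (v ^ i * em θ a)⁻¹ = em θ (a * p * a⁻¹) := by
        rw [map_mul, map_mul, map_inv]
        calc v ^ i * em θ a * em θ p * (v ^ i * em θ a)⁻¹
            = v ^ i * (em θ a * em θ p * (em θ a)⁻¹) * (v ^ i)⁻¹ := by group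
          _ = _ := by rw [← hpv.eq, mul_inv_cancel_right]
      rw [h2] at h1
      obtain ⟨r, hr, hre⟩ := h1
      exact em_injective hre ▸ hr
    obtain ⟨hax, hay⟩ := cent_norm_P9 ha hac hcase (mem_P9a (hsub _ x9_mem_P9a))
      (mem_P9a (hsub _ y9_mem_P9a))
    obtain ⟨i', j, k, he⟩ := hP _ hnv
      (((V.em_v N x7 x8).symm.pow_left i).mul_left (em_comm hax)).eq
      (((V.em_v N y7 y8).symm.pow_left i).mul_left (em_comm hay)).eq
    exact ⟨i', X ^ j * Y ^ k, mul_mem (pow_mem (show X ∈ P9 θ from ⟨_, x9_mem_P9a, rfl⟩) j)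
      (pow_mem (show Y ∈ P9 θ from ⟨_, y9_mem_P9a, rfl⟩) k),
      by rw [he, mul_assoc]⟩
  -- Sylow
  set P' : Subgroup ↥K := (P9 θ).subgroupOf K with hP'
  have hP'p : IsPGroup 3 ↥P' := fun a => ⟨1, by
    obtain ⟨b, hb, hbe⟩ := a.2
    refine Subtype.ext (Subtype.ext ?_)
    show ((a : ↥K) : G) ^ (3 ^ 1) = 1
    have hbe' : em θ b = ((a : ↥K) : G) := hbe
    rw [← hbe', pow_one, em_pow_eq_one]; exact P9a_cube hb⟩
  obtain ⟨P, hPle⟩ := hP'p.exists_le_sylow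
  have hPeq : (P : Subgroup ↥K) = P' := by
    refine le_antisymm ?_ hPle
    by_contra hnot
    haveI : Group.IsNilpotent ↥(P : Subgroup ↥K) := P.isPGroup'.isNilpotent
    set Pin := P'.subgroupOf (P : Subgroup ↥K) with hPin
    have hlt : Pin < ⊤ := lt_top_iff_ne_top.2 fun h => hnot fun a ha => by
      have := (h ▸ mem_top _ : (⟨a, ha⟩ : ↥(P : Subgroup ↥K)) ∈ Pin)
      exact this
    obtain ⟨n, hnN, hnout⟩ := SetLike.exists_of_lt (Group.normalizerCondition_of_isNilpotent _ hlt)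
    have hnP : ∀ p ∈ P9 θ, ((n : ↥K) : G) * p * ((n : ↥K) : G)⁻¹ ∈ P9 θ := by
      intro p hp
      have hpP : (⟨p, hPK hp⟩ : ↥K) ∈ (P : Subgroup ↥K) := hPle hp
      exact (Subgroup.mem_normalizer_iff.1 hnN ⟨⟨p, hPK hp⟩, hpP⟩).1 hp
    obtain ⟨i, p, hp, he⟩ := hnormK _ (n : ↥K).2 hnP
    obtain ⟨m, hm⟩ := P.isPGroup' n
    have hn3 : ((n : ↥K) : G) ^ 3 ^ m = 1 := by
      have := congrArg (fun x : ↥(P : Subgroup ↥K) => ((x : ↥K) : G)) hm
      simpa using this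
    have hp3 : p ^ 3 ^ (m + 1) = 1 := by
      obtain ⟨b, hb, rfl⟩ := hp
      rw [pow_succ', pow_mul, em_pow_eq_one.2 (P9a_cube hb), one_pow]
    have hvi : v ^ i = 1 := by
      have hn' : ((n : ↥K) : G) ^ 3 ^ (m + 1) = 1 := by rw [pow_succ, pow_mul, hn3, one_pow]
      rw [he, (((V.P9_v N hp).symm).pow_left i).mul_pow, hp3, mul_one] at hn'
      refine orderOf_eq_one_iff.1 (Nat.eq_one_of_dvd_coprimes
        ((show Nat.Coprime 7 3 by norm_num).pow_right (m + 1)) ?_ (orderOf_dvd_of_pow_eq_one hn'))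
      exact orderOf_dvd_of_pow_eq_one (by rw [← pow_mul, mul_comm, pow_mul, V.pow7, one_pow])
    refine hnout ?_
    show ((n : ↥K) : G) ∈ P9 θ
    rw [he, hvi, one_mul]; exact hp
  have hPab : ∀ a ∈ P9 θ, ∀ b ∈ P9 θ, a * b = b * a := by
    rintro _ ⟨a, ⟨j1, k1, rfl⟩, rfl⟩ _ ⟨b, ⟨j2, k2, rfl⟩, rfl⟩
    have hxy' : Commute x9 y9 := hxy
    exact (em_comm ((((Commute.refl x9).pow_pow j1 j2).mul_right (hxy'.pow_pow j1 k2)).mul_left
      ((hxy'.symm.pow_pow k1 j2).mul_right ((Commute.refl y9).pow_pow k1 k2))).eq).eq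
  have hnc : normalizer ((P : Subgroup ↥K) : Set ↥K) ≤ centralizer ((P : Subgroup ↥K) : Set ↥K) := by
    intro n hn
    rw [hPeq] at hn ⊢
    obtain ⟨i, p, hp, he⟩ := hnormK n n.2 fun a ha =>
      (Subgroup.mem_normalizer_iff.1 hn ⟨a, hPK ha⟩).1 ha
    refine mem_centralizer_iff.2 fun a ha => Subtype.ext ?_
    show ((a : ↥K) : G) * n = n * a
    rw [he]
    exact (((V.P9_v N ha).pow_right i).mul_right (show Commute (a : G) p from hPab _ ha _ hp)).eq
  set Nk := (MonoidHom.transferSylow P hnc).ker with hNk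
  have hcop : ¬ 3 ∣ Nat.card ↥Nk := MonoidHom.not_dvd_card_ker_transferSylow P hnc
  have hNmem : ∀ g : ↥K, g ∈ Nk ↔ (orderOf (g : G)).Coprime 3 := by
    intro g
    rw [orderOf_coe]
    constructor
    · intro hg
      exact Nat.Coprime.coprime_dvd_left (Nk.orderOf_dvd_natCard hg)
        ((Nat.Prime.coprime_iff_not_dvd (by norm_num)).2 hcop).symm
    · intro hg
      rw [hNk, MonoidHom.mem_ker]
      set y := MonoidHom.transferSylow P hnc g with hy
      obtain ⟨m, hm⟩ := P.isPGroup' y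
      exact orderOf_eq_one_iff.1 (Nat.eq_one_of_dvd_coprimes (Nat.Coprime.pow_right m hg)
        (orderOf_map_dvd _ g) (orderOf_dvd_of_pow_eq_one hm))
  set Ng := Nk.map K.subtype with hNg
  have hNgmem : ∀ g : G, g ∈ Ng ↔ g ∈ K ∧ (orderOf g).Coprime 3 := by
    intro g
    constructor
    · rintro ⟨a, ha, rfl⟩; exact ⟨a.2, (hNmem a).1 ha⟩
    · rintro ⟨hgK, hgo⟩; exact ⟨⟨g, hgK⟩, (hNmem _).2 hgo, rfl⟩
  have hmain : Ng ≤ HH T v := by
    set A := closure ({ρ, Y} : Set G) with hA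
    have hρY : Commute ρ Y := (em_rho y9).symm
    have hAel : ∀ a ∈ A, ∃ i j : ℕ, a = ρ ^ i * Y ^ j := by
      intro a ha
      induction ha using Subgroup.closure_induction with
      | mem a ha =>
        rcases ha with rfl | rfl
        · exact ⟨1, 0, by simp⟩
        · exact ⟨0, 1, by simp⟩
      | one => exact ⟨0, 0, by simp⟩
      | mul a b _ _ iha ihb =>
        obtain ⟨i, j, rfl⟩ := iha
        obtain ⟨i', j', rfl⟩ := ihb
        refine ⟨i + i', j + j', ?_⟩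
        rw [pow_add, pow_add]
        calc ρ ^ i * Y ^ j * (ρ ^ i' * Y ^ j') = ρ ^ i * (Y ^ j * ρ ^ i') * Y ^ j' := by group
          _ = ρ ^ i * ρ ^ i' * (Y ^ j * Y ^ j') := by rw [← (hρY.pow_pow i' j).eq]; group
      | inv a _ iha =>
        obtain ⟨i, j, rfl⟩ := iha
        refine ⟨2 * i, 2 * j, inv_eq_of_mul_eq_one_right ?_⟩
        have hY3 : Y ^ 3 = 1 := em_pow_eq_one.2 x9_cube.2.1
        calc ρ ^ i * Y ^ j * (ρ ^ (2 * i) * Y ^ (2 * j))
            = ρ ^ i * (Y ^ j * ρ ^ (2 * i)) * Y ^ (2 * j) := by group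
          _ = (ρ ^ i * ρ ^ (2 * i)) * (Y ^ j * Y ^ (2 * j)) := by rw [← (hρY.pow_pow (2 * i) j).eq]; group
          _ = 1 := by
            rw [← pow_add, ← pow_add, show i + 2 * i = 3 * i by ring, show j + 2 * j = 3 * j by ring,
              pow_mul, pow_mul, hY3, pow_succ ρ, pow_two, T.rho3, one_pow, one_pow, one_mul]
    have hY3 : Y ^ 3 = 1 := em_pow_eq_one.2 x9_cube.2.1
    have hρ3 : ρ ^ 3 = 1 := by rw [pow_succ, pow_two, T.rho3]
    have hA3 : ∀ a ∈ A, a ^ 3 = 1 := by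
      intro a ha
      obtain ⟨i, j, rfl⟩ := hAel a ha
      rw [(hρY.pow_pow i j).mul_pow, ← pow_mul, ← pow_mul, mul_comm i, mul_comm j, pow_mul, pow_mul,
        hρ3, hY3, one_pow, one_pow, one_mul]
    have hAp : IsPGroup 3 ↥A := fun a => ⟨1, Subtype.ext (by rw [pow_one]; exact hA3 a a.2)⟩
    have hAab : IsMulCommutative ↥A := ⟨⟨fun a b => Subtype.ext (by
      obtain ⟨i, j, ha⟩ := hAel a a.2
      obtain ⟨i', j', hb⟩ := hAel b b.2
      show (a : G) * b = b * a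
      rw [ha, hb]
      exact ((((Commute.refl ρ).pow_pow i i').mul_right (hρY.pow_pow i j')).mul_left
        ((hρY.symm.pow_pow j i').mul_right ((Commute.refl Y).pow_pow j j'))).eq)⟩⟩
    have hρA : ρ ∈ A := subset_closure (Set.mem_insert _ _)
    have hYA : Y ∈ A := subset_closure (Set.mem_insert_of_mem _ rfl)
    have hY1 : Y ≠ 1 := fun h => hy1 (em_injective (h.trans (map_one _).symm))
    have hnotcyc : ¬ IsCyclic ↥A := by
      intro hc
      obtain ⟨g, hg⟩ := hc.exists_generator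
      obtain ⟨m1, hm1⟩ := mem_zpowers_iff.1 (hg ⟨ρ, hρA⟩)
      obtain ⟨m2, hm2⟩ := mem_zpowers_iff.1 (hg ⟨Y, hYA⟩)
      have hg3 : orderOf g ∣ 3 := orderOf_dvd_of_pow_eq_one (Subtype.ext (hA3 g g.2))
      have hρo : orderOf (⟨ρ, hρA⟩ : ↥A) = 3 := by rw [← orderOf_coe]; exact orderOf_rho T
      have htop : zpowers (⟨ρ, hρA⟩ : ↥A) = zpowers g := eq_of_le_of_card_ge
        (zpowers_le.2 (hg _)) (by
          rw [Nat.card_zpowers, Nat.card_zpowers, hρo]; exact Nat.le_of_dvd (by norm_num) hg3)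
      have hYz : (⟨Y, hYA⟩ : ↥A) ∈ zpowers (⟨ρ, hρA⟩ : ↥A) := htop ▸ hg _
      rw [mem_zpowers_iff_mem_range_orderOf] at hYz
      obtain ⟨m, -, hm⟩ := Finset.mem_image.1 hYz
      have hm' : ρ ^ m = Y := congrArg Subtype.val hm
      exact hY1 (hm'.symm.trans (rho_pow_R T (hm' ▸ em_mem y9)))
    have hinv : ∀ w : G, (∀ g ∈ K, w * g * w⁻¹ ∈ K) → ∀ g ∈ Ng, w * g * w⁻¹ ∈ Ng := by
      intro w hw g hg
      obtain ⟨hgK, hgo⟩ := (hNgmem g).1 hg
      exact (hNgmem _).2 ⟨hw g hgK, by rw [orderOf_conj']; exact hgo⟩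
    have hρK : ∀ g ∈ K, ρ * g * ρ⁻¹ ∈ K := by
      intro g hg
      obtain ⟨h1, h2⟩ := (hmemK g).1 hg
      refine (hmemK _).2 ⟨V.conj_rho_cent h1, ?_⟩
      have hr : Commute ρ C := (em_rho c).symm
      exact ((hr.mul_left (show Commute g C from h2)).mul_left hr.inv_left).eq
    have hstab : ∀ a ∈ A, a ∈ normalizer (Ng : Set G) := by
      intro a ha
      have hclos : ∀ w : G, (∀ g ∈ Ng, w * g * w⁻¹ ∈ Ng) → w ∈ normalizer (Ng : Set G) := by
        intro w hw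
        refine Subgroup.mem_normalizer_iff.2 fun x => ⟨hw x, fun hx => ?_⟩
        let f : ↥Ng → ↥Ng := fun q => ⟨w * q * w⁻¹, hw q q.2⟩
        have hf : Function.Injective f := fun a b h =>
          Subtype.ext (mul_left_cancel (mul_right_cancel (congrArg Subtype.val h)))
        obtain ⟨q, hq'⟩ := (Finite.injective_iff_surjective.1 hf) ⟨_, hx⟩
        exact mul_left_cancel (mul_right_cancel (congrArg Subtype.val hq')) ▸ q.2
      refine (closure_le (K := normalizer (Ng : Set G))).2 ?_ ha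
      rintro w (rfl | rfl)
      · exact hclos _ (hinv _ hρK)
      · exact hclos _ (hinv _ fun g hg => mul_mem (mul_mem hYK hg) (inv_mem hYK))
    have hAcard : (Nat.card ↥A).Coprime (Nat.card ↥Ng) := by
      obtain ⟨m, hm⟩ := IsPGroup.iff_card.1 hAp
      rw [hm, hNg, card_map_of_injective K.subtype_injective]
      exact Nat.Coprime.pow_left m ((Nat.Prime.coprime_iff_not_dvd (by norm_num)).2 hcop)
    rw [← CfsgLib.Coprime.iSup_centralizer_eq hAab hnotcyc hstab hAcard]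
    refine iSup_le ?_
    rintro ⟨a, ha, ha1⟩ g ⟨hgN, hga⟩
    obtain ⟨hgK, hgo⟩ := (hNgmem g).1 hgN
    obtain ⟨hgv, hgC⟩ := (hmemK g).1 hgK
    have hga' : Commute g a := mem_centralizer_singleton_iff.1 hga
    obtain ⟨i, j, rfl⟩ := hAel a ha
    have key : ∀ S : Subgroup G, (∀ g, g ∈ S ↔ g * v = v * g ∧ g * em θ c = em θ c * g ∧
      g * (ρ * em θ y9) = ρ * em θ y9 * g ∧ (orderOf g).Coprime 3) → S ≤ HH T v := hline
    -- the elements centralising `ρ Y`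
    let S : Subgroup G := Ng ⊓ centralizer ({ρ * Y} : Set G)
    have hS : ∀ g, g ∈ S ↔ g * v = v * g ∧ g * em θ c = em θ c * g ∧
        g * (ρ * em θ y9) = ρ * em θ y9 * g ∧ (orderOf g).Coprime 3 := by
      intro g
      show g ∈ Ng ⊓ centralizer ({ρ * Y} : Set G) ↔ _
      rw [mem_inf, hNgmem, hmemK, mem_centralizer_singleton_iff]
      tauto
    have hSle := key S hS
    have red : ∀ i j : Fin 3, (i.1, j.1) ≠ (0, 0) → Commute g (ρ ^ i.1 * Y ^ j.1) → g ∈ HH T v := by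
      intro i j hne hc'
      have c2 : ∀ n : ℕ, Commute g ((ρ ^ i.1 * Y ^ j.1) ^ n) := fun n => hc'.pow_right n
      have hpow : ∀ a b : ℕ, (ρ ^ a * Y ^ b) ^ 2 = ρ ^ (2 * a) * Y ^ (2 * b) := fun a b => by
        rw [(hρY.pow_pow a b).mul_pow, ← pow_mul, ← pow_mul, mul_comm a, mul_comm b]
      have hρ4 : ρ ^ 4 = ρ := by rw [pow_succ, hρ3, one_mul]
      have hY4 : Y ^ 4 = Y := by rw [pow_succ, hY3, one_mul]
      have hY' : Commute g Y → g ∈ HH T v := fun h => by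
        obtain ⟨a, b, d, he⟩ := hP g hgv (hXfromY g hgC h.eq) h.eq
        rw [he, mul_assoc]
        refine mul_mem (mem_sup_left (pow_mem (mem_zpowers v) a)) (mem_sup_right (mul_mem ?_ ?_))
        · exact pow_mem ((em_mem_LamS N).2 ⟨x7, x8⟩) b
        · exact pow_mem ((em_mem_LamS N).2 ⟨y7, y8⟩) d
      have hρ' : Commute g ρ → g ∈ HH T v := fun h =>
        mem_sup_right (V.cent_rho N hq hgv h.eq)
      have hA1 : Commute g (ρ * Y) → g ∈ HH T v := fun h => hSle ((hS g).2 ⟨hgv, hgC, h.eq, hgo⟩)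
      have hA2 : Commute g (ρ * Y ^ 2) → g ∈ HH T v := fun h => by
        set s := em θ s9 with hs
        have hsv : Commute s v := V.em_v N s7 s8
        have hsi : s⁻¹ = s := inv_eq_of_mul_eq_one_right (by rw [hs, ← map_mul, hss, map_one])
        have hsY : s * Y ^ 2 * s⁻¹ = Y := by
          rw [← conj_pow, hsi, hs, ← map_mul, ← map_mul, hsy, ← map_pow, ← pow_two, ← pow_mul,
            show 2 * 2 = 3 + 1 from rfl, pow_succ, x9_cube.2.1, one_mul]
        have hsC : s * C * s⁻¹ = C⁻¹ := by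
          rw [hsi, hs]
          show em θ s9 * em θ c * em θ s9 = (em θ c)⁻¹
          rw [← map_mul, ← map_mul, ← map_inv]
          congr 1
          refine eq_inv_of_mul_eq_one_left ?_
          rcases hcase with rfl | rfl
          · rw [hsx, ← pow_two, ← pow_succ, x9_cube.1]
          · calc s9 * (x9 * y9) * s9 * (x9 * y9)
                = (s9 * x9 * s9) * (s9 * y9 * s9) * (x9 * y9) := by
                  rw [show (s9 * x9 * s9) * (s9 * y9 * s9) = s9 * x9 * (s9 * s9) * y9 * s9 by group, hss]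
                  group
              _ = x9 * x9 * (y9 * y9) * (x9 * y9) := by rw [hsx, hsy]
              _ = (x9 * x9 * x9) * (y9 * y9 * y9) := by
                  rw [show x9 * x9 * (y9 * y9) * (x9 * y9) = x9 * x9 * y9 * (y9 * x9) * y9 by group, ← hxy,
                    show x9 * x9 * y9 * (x9 * y9) * y9 = x9 * x9 * (y9 * x9) * (y9 * y9) by group, ← hxy]
                  group
              _ = 1 := by rw [← pow_three', ← pow_three', x9_cube.1, x9_cube.2.1, one_mul]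
        have hsρ : s * ρ * s⁻¹ = ρ := by rw [(em_rho (θ := θ) s9).eq, mul_inv_cancel_right]
        have hg' : s * g * s⁻¹ ∈ S := by
          refine (hS _).2 ⟨?_, ?_, ?_, by rw [orderOf_conj']; exact hgo⟩
          · exact ((hsv.mul_left (show Commute g v from hgv)).mul_left hsv.inv_left).eq
          · have h1 := ((show Commute g C from hgC).inv_right).map (MulAut.conj s).toMonoidHom
            have e : MulAut.conj s C⁻¹ = C := by
              show s * C⁻¹ * s⁻¹ = C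
              rw [show s * C⁻¹ * s⁻¹ = (s * C * s⁻¹)⁻¹ by group, hsC, inv_inv]
            have h2 : Commute (s * g * s⁻¹) (MulAut.conj s C⁻¹) := h1
            rw [e] at h2
            exact h2.eq
          · have h1 := h.map (MulAut.conj s).toMonoidHom
            have e : MulAut.conj s (ρ * Y ^ 2) = ρ * em θ y9 := by
              show s * (ρ * Y ^ 2) * s⁻¹ = _
              rw [show s * (ρ * Y ^ 2) * s⁻¹ = (s * ρ * s⁻¹) * (s * Y ^ 2 * s⁻¹) by group, hsρ, hsY]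
            have h2 : Commute (s * g * s⁻¹) (MulAut.conj s (ρ * Y ^ 2)) := h1
            rw [e] at h2
            exact h2.eq
        have hsH : s ∈ HH T v := mem_sup_right ((em_mem_LamS N).2 ⟨s7, s8⟩)
        have := mul_mem (mul_mem (inv_mem hsH) (hSle hg')) hsH
        rwa [show s⁻¹ * (s * g * s⁻¹) * s = g by group] at this
      rcases (by decide : ∀ i : Fin 3, i = 0 ∨ i = 1 ∨ i = 2) i with rfl | rfl | rfl <;>
        rcases (by decide : ∀ i : Fin 3, i = 0 ∨ i = 1 ∨ i = 2) j with rfl | rfl | rfl <;>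
        simp only [Fin.val_zero, Fin.val_one, Fin.val_two, pow_zero, pow_one, one_mul, mul_one] at hc' hne
      · exact absurd rfl hne
      · exact hY' hc'
      · refine hY' ?_
        have := hc'.pow_right 2
        rwa [← pow_mul, hY4] at this
      · exact hρ' hc'
      · exact hA1 hc'
      · exact hA2 hc'
      · refine hρ' ?_
        have := hc'.pow_right 2
        rwa [← pow_mul, hρ4] at this
      · refine hA2 ?_
        have := hc'.pow_right 2
        rwa [show (ρ ^ 2 * Y) = ρ ^ 2 * Y ^ 1 by rw [pow_one], hpow, hρ4] at this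
      · refine hA1 ?_
        have := hc'.pow_right 2
        rwa [hpow, hρ4, hY4] at this
    have e1 := pow_eq_pow_mod i hρ3
    have e2 := pow_eq_pow_mod j hY3
    rw [e1, e2] at hga' ha1
    refine red ⟨i % 3, Nat.mod_lt _ (by norm_num)⟩ ⟨j % 3, Nat.mod_lt _ (by norm_num)⟩ ?_ hga'
    intro h
    rw [Prod.mk.injEq] at h
    exact ha1 (by
      change ρ ^ (i % 3) * Y ^ (j % 3) = 1
      rw [show i % 3 = 0 from h.1, show j % 3 = 0 from h.2, pow_zero, pow_zero, one_mul])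
  intro g hgv hgC
  have hgK : g ∈ K := (hmemK g).2 ⟨hgv, hgC⟩
  have hcmp := MonoidHom.ker_transferSylow_isComplement' P hnc
  obtain ⟨⟨n, p⟩, hnp⟩ := (isComplement'_def.1 hcmp).2 ⟨g, hgK⟩
  have hg : ((n : ↥K) : G) * ((p : ↥K) : G) = g := congrArg Subtype.val hnp
  rw [← hg]
  refine mul_mem (hmain ⟨_, n.2, rfl⟩) (mem_sup_right ?_)
  have hp : (p : ↥K) ∈ P' := hPeq ▸ p.2
  obtain ⟨a, ⟨j, k, rfl⟩, hae⟩ := hp
  have hae' : em θ (x9 ^ j * y9 ^ k) = ((p : ↥K) : G) := hae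
  rw [← hae', map_mul, map_pow, map_pow]
  exact mul_mem (pow_mem ((em_mem_LamS N).2 ⟨x7, x8⟩) j) (pow_mem ((em_mem_LamS N).2 ⟨y7, y8⟩) k)

end Vee

end CfsgLib.StructB.CoA9
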